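import Cfsg.Agent.Lib.Solvable.FpfFitting
import Cfsg.Agent.Lib.Signalizer.Basic

/-!
The coprime action lemma for the solvable signalizer functor theorem: if `a` has prime order and the
`t`-group `P` centralises the fixed points of `a` on the `s`-group `W`, then `[P, a]` centralises
`W`, provided `t` is odd or `P` is abelian.
-/

set_option autoImplicit false
set_option linter.style.haveILetI false
set_option linter.unusedSectionVars false
set_option linter.unusedVariables false

open scoped commutatorElement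

universe u

namespace Cfsg.Agent.Signalizer.SFT

open CoprimeFree (general)
open Subgroup

section Free

variable {K : Type*} [Field K] {V : Type*} [AddCommGroup V] [Module K V] {Q : Type*} [Group Q]
  [Finite Q] {r : ℕ} [hr : Fact r.Prime]

theorem action_aux [IsAlgClosed K] [FiniteDimensional K V] {q e : ℕ} [hq : Fact q.Prime]
    {Qb : Type*} [Group Qb] [Finite Qb] (hq2 : q ≠ 2 ∨ ∀ s t : Qb, s * t = t * s) (hqr : q ≠ r)
    (hrK : (r : K) ≠ 0) (hqK : (q : K) ≠ 0) (he : Nat.card Qb = q ^ e) (π : Q →* Qb) (hπ : Function.Surjective π)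
    (τ : Q →* Module.End K V) (τb : Qb →* Module.End K V) (hτπ : ∀ t, τb (π t) = τ t)
    (hinj : Function.Injective τb) (X : Module.End K V) (θ : MulAut Q) (θb : MulAut Qb)
    (hθπ : ∀ t, θb (π t) = π (θ t)) (hθ : θ ^ r = 1) (hX : X ^ r = 1)
    (hsum : ∑ i ∈ Finset.range r, X ^ i = 0) (hconj : ∀ t, X * τ t = τ (θ t) * X) :
    ∀ t, τ (θ t) = τ t := by
  intro t
  have hpow : ∀ (k : ℕ) t, (θb ^ k) (π t) = π ((θ ^ k) t) := by
    intro k
    induction k with
    | zero => simp
    | succ k ih => intro t; rw [pow_succ', MulAut.mul_apply, ih, hθπ, pow_succ' θ, MulAut.mul_apply]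
  have hθb : θb ^ r = 1 := MulEquiv.ext fun c => by
    obtain ⟨u, rfl⟩ := hπ c
    rw [hpow, hθ, MulAut.one_apply, MulAut.one_apply]
  have hcb : ∀ c, X * τb c = τb (θb c) * X := fun c => by
    obtain ⟨u, rfl⟩ := hπ c
    rw [hθπ, hτπ, hτπ]
    exact hconj u
  by_contra hne
  obtain ⟨hq', -, u, v, huv⟩ := general hqr hrK hqK he τb hinj X θb hθb hX hsum hcb
    ⟨π t, fun h => hne (by rw [← hτπ (θ t), ← hθπ, h, hτπ])⟩
  exact hq2.elim (fun h => h hq') (fun h => huv (h u v))

/-- If `q` is odd, a `q`-group on which `x` acts is centralised modulo the kernel of the action. -/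
theorem action_trivial [IsAlgClosed K] [FiniteDimensional K V] {q : ℕ} [hq : Fact q.Prime]
    (hq2 : q ≠ 2 ∨ ∀ s t : Q, s * t = t * s) (hqr : q ≠ r) (hrK : (r : K) ≠ 0) (hqK : (q : K) ≠ 0) (hQ : IsPGroup q Q)
    (τ : Q →* Module.End K V) (X : Module.End K V) (θ : MulAut Q) (hθ : θ ^ r = 1) (hX : X ^ r = 1)
    (hsum : ∑ i ∈ Finset.range r, X ^ i = 0) (hconj : ∀ t, X * τ t = τ (θ t) * X) :
    ∀ t, τ (θ t) = τ t := by
  have hXinv : X ^ (r - 1) * X = 1 := by rw [← pow_succ, Nat.sub_add_cancel hr.out.one_le, hX]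
  have hiff : ∀ t, θ t ∈ τ.ker ↔ t ∈ τ.ker := by
    intro t
    rw [MonoidHom.mem_ker, MonoidHom.mem_ker]
    have h := hconj t
    constructor
    · intro h1
      rw [h1, one_mul] at h
      have := congrArg (fun F => X ^ (r - 1) * F) h
      simp only [← mul_assoc, hXinv, one_mul] at this
      exact this
    · intro h1
      rw [h1, mul_one] at h
      have hXinv' : X * X ^ (r - 1) = 1 := by rw [← pow_succ', Nat.sub_add_cancel hr.out.one_le, hX]
      have := congrArg (fun F => F * X ^ (r - 1)) h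
      simp only [mul_assoc, hXinv', mul_one] at this
      exact this.symm
  have hmap : τ.ker.map θ.toMonoidHom = τ.ker := by
    refine le_antisymm (Subgroup.map_le_iff_le_comap.2 fun t ht => (hiff t).2 ht) fun t ht => ?_
    exact ⟨θ.symm t, (hiff _).1 (by rwa [θ.apply_symm_apply]), θ.apply_symm_apply t⟩
  obtain ⟨e, he⟩ := (hQ.to_quotient τ.ker).exists_card_eq
  refine action_aux (hq2.imp_right fun h c d => by
    obtain ⟨u, rfl⟩ := QuotientGroup.mk_surjective c
    obtain ⟨v, rfl⟩ := QuotientGroup.mk_surjective d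
    rw [← QuotientGroup.mk_mul, ← QuotientGroup.mk_mul, h]) hqr hrK hqK he (QuotientGroup.mk' τ.ker) (QuotientGroup.mk'_surjective _) τ
    (QuotientGroup.lift τ.ker τ le_rfl) (fun t => QuotientGroup.lift_mk τ.ker le_rfl t) ?_ X θ
    (QuotientGroup.congr τ.ker τ.ker θ hmap) (fun t => rfl) hθ hX hsum hconj
  intro c d hcd
  obtain ⟨u, rfl⟩ := QuotientGroup.mk_surjective c
  obtain ⟨v, rfl⟩ := QuotientGroup.mk_surjective d
  rw [QuotientGroup.lift_mk, QuotientGroup.lift_mk] at hcd
  refine QuotientGroup.eq.2 ?_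
  rw [MonoidHom.mem_ker, map_mul, ← hcd, ← map_mul, inv_mul_cancel, map_one]

end Free

variable {G : Type u} [Group G] [Finite G]

theorem fixedPointFree {p t s : ℕ} [Fact p.Prime] [Fact t.Prime] [Fact s.Prime] (hst : s ≠ t)
    (hsp : s ≠ p) (htp : t ≠ p) {P X V : Subgroup G} (hP : IsPGroup t P)
    (ht : t ≠ 2 ∨ IsMulCommutative P) (hX : Nat.card X = p) (hXP : X ≤ normalizer (P : Set G))
    (hV : Cfsg.IsElementaryAbelian s V) (hXV : X ≤ normalizer (V : Set G))
    (hPV : P ≤ normalizer (V : Set G)) (hC : V ⊓ centralizer (X : Set G) = ⊥) :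
    ⁅P, X⁆ ≤ centralizer (V : Set G) := by
  obtain ⟨y, hy, hy1, K, _, _, _, W, _, _, _, τ, T, θ, hτ, hθ, hT, hsum, hconj, hθx⟩ :=
    CoprimeFree.exists_rep (p := s) (r := p) X P V hX hXP hV hXV hPV hC
  have hact := action_trivial (q := t) (r := p)
    (ht.imp_right fun h a b => h.is_comm.comm a b) htp
    (CoprimeFree.natCast_ne_zero (K := K) (p := s) (Fact.out : p.Prime) hsp)
    (CoprimeFree.natCast_ne_zero (p := s) (Fact.out : t.Prime) hst) hP τ T θ hθ hT hsum hconj
  have hgen : zpowers y = X := by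
    refine eq_of_le_of_card_ge (zpowers_le.2 hy) ?_
    rw [Nat.card_zpowers]
    have hdvd : orderOf y ∣ p := hX ▸ Subgroup.orderOf_dvd_natCard _ hy
    rcases (Fact.out : p.Prime).eq_one_or_self_of_dvd _ hdvd with h | h
    · exact absurd (orderOf_eq_one_iff.1 h) hy1
    · rw [h, hX]
  rw [commutator_le]
  intro x hx a ha
  have hNx : x ∈ normalizer (V : Set G) := hPV hx
  have hNy : y ∈ normalizer (V : Set G) := hXV hy
  rw [← hgen] at ha
  obtain ⟨i, rfl⟩ := mem_zpowers_iff.1 ha
  have h : y * x * y⁻¹ * x⁻¹ ∈ centralizer (V : Set G) := by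
    have := hτ _ _ (hact ⟨x, hx⟩)
    rwa [hθx] at this
  set N := normalizer (V : Set G) with hN
  set C := (centralizer (V : Set G)).subgroupOf N with hCdef
  haveI hCn : C.Normal :=
    normal_subgroupOf_of_le_normalizer (OddOrder.FitOf.normalizer_le_normalizer_centralizer V)
  set g := QuotientGroup.mk' C with hg
  have hcomm : Commute (g ⟨y, hNy⟩) (g ⟨x, hNx⟩) := by
    have h1 : g (⟨y, hNy⟩ * ⟨x, hNx⟩ * ⟨y, hNy⟩⁻¹ * ⟨x, hNx⟩⁻¹) = 1 :=
      (QuotientGroup.eq_one_iff _).2 h
    rw [map_mul, map_mul, map_mul, map_inv, map_inv, mul_inv_eq_one, mul_inv_eq_iff_eq_mul] at h1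
    exact h1
  have h2 : g ⁅(⟨x, hNx⟩ : N), (⟨y, hNy⟩ : N) ^ i⁆ = 1 := by
    rw [map_commutatorElement, map_zpow]
    exact commutatorElement_eq_one_iff_mul_comm.2 (hcomm.zpow_left i).symm.eq
  have h3 := (QuotientGroup.eq_one_iff (N := C) _).1 h2
  exact h3

theorem isElementaryAbelian_map_frattini {s : ℕ} [Fact s.Prime] {H : Type u} [Group H] [Finite H]
    {W : Subgroup H} (hW : IsPGroup s W) [((frattini W).map W.subtype).Normal] :
    Cfsg.IsElementaryAbelian s (W.map (QuotientGroup.mk' ((frattini W).map W.subtype))) := by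
  have : Group.IsNilpotent W := hW.isNilpotent
  refine ⟨.of_setLike_mul_comm ?_, ?_⟩
  · rintro _ ⟨a, ha, rfl⟩ _ ⟨b, hb, rfl⟩
    rw [← commutatorElement_eq_one_iff_mul_comm, ← map_commutatorElement]
    exact (QuotientGroup.eq_one_iff _).2 (mem_map_of_mem W.subtype
      (SolvStruct.commutator_le_frattini _ (commutator_mem_commutator
        (mem_top (⟨a, ha⟩ : W)) (mem_top ⟨b, hb⟩))))
  · rintro _ ⟨a, ha, rfl⟩
    rw [← map_pow]
    exact (QuotientGroup.eq_one_iff _).2 (mem_map_of_mem W.subtype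
      (PGroupBasics.pow_mem_frattini hW ⟨a, ha⟩))

theorem isMulCommutative_map {H H' : Type u} [Group H] [Group H'] {P : Subgroup H}
    (hP : IsMulCommutative P) (f : H →* H') : IsMulCommutative (P.map f) := by
  refine .of_setLike_mul_comm ?_
  rintro _ ⟨a, ha, rfl⟩ _ ⟨b, hb, rfl⟩
  rw [← map_mul, ← map_mul, setLike_mul_comm ha hb]

theorem coprime_of_isPGroup {p q : ℕ} [Fact p.Prime] [Fact q.Prime] (hne : p ≠ q) {H K : Subgroup G}
    (hH : IsPGroup p H) (hK : IsPGroup q K) : (Nat.card H).Coprime (Nat.card K) :=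
  IsPGroup.coprime_card_of_ne p q hne _ _ hH hK

theorem hh_aux {p t s : ℕ} [Fact p.Prime] [Fact t.Prime] [Fact s.Prime] (hst : s ≠ t) (hsp : s ≠ p)
    (htp : t ≠ p) {P X W : Subgroup G} [W.Normal] (hP : IsPGroup t P)
    (ht : t ≠ 2 ∨ IsMulCommutative P) (hX : Nat.card X = p) (hXP : X ≤ normalizer (P : Set G))
    (hW : IsPGroup s W) (hfix : P ≤ centralizer ((W ⊓ centralizer (X : Set G) : Subgroup G) : Set G)) :
    ⁅P, X⁆ ≤ centralizer (W : Set G) := by
  set Φ := (frattini W).map W.subtype with hΦ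
  haveI : Φ.Normal := FittingCores.normal_map_of_characteristic inferInstance inferInstance
  set f := QuotientGroup.mk' Φ with hf
  set V := W.map f with hVdef
  have hV : Cfsg.IsElementaryAbelian s V := isElementaryAbelian_map_frattini hW
  haveI := hV.1
  haveI hVn : V.Normal := Subgroup.Normal.map inferInstance f (QuotientGroup.mk'_surjective _)
  have hnV : ∀ S : Subgroup (G ⧸ Φ), S ≤ normalizer (V : Set (G ⧸ Φ)) := fun _ =>
    le_normalizer_of_normal
  have hXp : IsPGroup p X := IsPGroup.of_card (n := 1) (by simpa using hX)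
  have hXs : Group.IsSolvable X := by
    haveI : IsCyclic X := isCyclic_of_prime_card (p := p) hX
    exact Group.isSolvable_of_comm fun a b => mul_comm' a b
  have hCV : V ⊓ centralizer ((X.map f : Subgroup (G ⧸ Φ)) : Set (G ⧸ Φ)) =
      (W ⊓ centralizer (X : Set G)).map f :=
    (CoprimeAct.map_inf_centralizer f le_normalizer_of_normal
      (coprime_of_isPGroup (Ne.symm hsp) hXp hW) (Or.inl hXs)).symm
  have hPc : P.map f ≤ centralizer ((V ⊓ centralizer ((X.map f : Subgroup (G ⧸ Φ)) : Set (G ⧸ Φ)) :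
      Subgroup (G ⧸ Φ)) : Set (G ⧸ Φ)) := by
    rw [hCV]
    rintro _ ⟨x, hx, rfl⟩
    refine mem_centralizer_iff.2 ?_
    rintro _ ⟨w, hw, rfl⟩
    rw [← map_mul, ← map_mul, mem_centralizer_iff.1 (hfix hx) w hw]
  have hVp : IsPGroup s V := hW.map f
  have hcopPV : (Nat.card (P.map f)).Coprime (Nat.card V) :=
    coprime_of_isPGroup hst.symm (hP.map f) hVp
  set V₁ := ⁅V, P.map f⁆ with hV₁
  have hV₁V : V₁ ≤ V := CoprimeAct.commutator_le_left (hnV _)
  have hnV₁ : P.map f ≤ normalizer (V₁ : Set (G ⧸ Φ)) := normalizer_commutator_ge_right _ _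
  have hXV₁ : X.map f ≤ normalizer (V₁ : Set (G ⧸ Φ)) := fun g hg => by
    rw [mem_normalizer_iff_map_conj_eq, hV₁, map_commutator,
      mem_normalizer_iff_map_conj_eq.1 (hnV _ hg),
      mem_normalizer_iff_map_conj_eq.1 ((map_mono hXP).trans (le_normalizer_map f) hg)]
  have hfree : V₁ ⊓ centralizer ((X.map f : Subgroup (G ⧸ Φ)) : Set (G ⧸ Φ)) = ⊥ := by
    refine le_bot_iff.1 (le_trans ?_
      (CoprimeAct.centralizer_inf_commutator_eq_bot (hnV _) hcopPV).le)
    exact le_inf (le_inf (inf_le_left.trans hV₁V)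
      ((inf_le_inf_right _ hV₁V).trans (Subgroup.le_centralizer_iff.1 hPc))) inf_le_left
  have hXf : Nat.card (X.map f) = p := by
    have hd : Nat.card (X.map f) ∣ p := hX ▸ Subgroup.card_map_dvd X f
    refine ((Fact.out : p.Prime).eq_one_or_self_of_dvd _ hd).resolve_left fun h1 => ?_
    rw [card_eq_one, Subgroup.map_eq_bot_iff, hf, QuotientGroup.ker_mk'] at h1
    have h2 := Nat.Coprime.eq_one_of_dvd (coprime_of_isPGroup (Ne.symm hsp) hXp hW)
      (card_dvd_of_le (h1.trans (map_subtype_le _)))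
    rw [hX] at h2
    exact (Fact.out : p.Prime).ne_one h2
  have hkey : ⁅P.map f, X.map f⁆ ≤ centralizer (V : Set (G ⧸ Φ)) := by
    have h1 := fixedPointFree hst hsp htp (V := V₁) (hP.map f) (ht.imp_right fun h => isMulCommutative_map h f)
      hXf ((map_mono hXP).trans (le_normalizer_map f)) (ea_mono hV hV₁V) hXV₁ hnV₁ hfree
    have h2 : ⁅P.map f, X.map f⁆ ≤ centralizer
        ((V ⊓ centralizer ((P.map f : Subgroup (G ⧸ Φ)) : Set (G ⧸ Φ)) : Subgroup (G ⧸ Φ)) :
          Set (G ⧸ Φ)) :=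
      (CoprimeAct.commutator_le_left ((map_mono hXP).trans (le_normalizer_map f))).trans
        (Subgroup.le_centralizer_iff.1 inf_le_right)
    have hsup := CoprimeAct.centralizer_sup_commutator (hnV _) hcopPV
    refine Subgroup.le_centralizer_iff.1 ?_
    rw [← hsup]
    exact sup_le (Subgroup.le_centralizer_iff.1 h2) (Subgroup.le_centralizer_iff.1 h1)
  refine CoprimeAct.le_centralizer_of_frattini le_normalizer_of_normal ?_ fun w hw k hk => ?_
  · exact (coprime_of_isPGroup hst.symm (hP.to_le (CoprimeAct.commutator_le_left hXP)) hW).coprime_dvd_right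
      (card_subgroup_dvd_card _)
  · have hwC : f w ∈ centralizer (V : Set (G ⧸ Φ)) :=
      hkey (map_commutator P X f ▸ mem_map_of_mem f hw)
    change w * k * w⁻¹ * k⁻¹ ∈ Φ
    rw [← QuotientGroup.eq_one_iff]
    change f _ = 1
    rw [map_mul, map_mul, map_mul, map_inv, map_inv, mul_inv_eq_one, mul_inv_eq_iff_eq_mul]
    exact (mem_centralizer_iff.1 hwC _ (mem_map_of_mem f hk)).symm

/-- If `a` has prime order and `P` centralises the fixed points of `a` on `W`, then `[P, a]`
centralises `W`. -/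
theorem hh {p t s : ℕ} [Fact p.Prime] [Fact t.Prime] [Fact s.Prime] (hst : s ≠ t) (hsp : s ≠ p)
    (htp : t ≠ p) {P W : Subgroup G} {a : G} (ha : orderOf a = p) (hP : IsPGroup t P)
    (ht : t ≠ 2 ∨ IsMulCommutative P) (haP : a ∈ normalizer (P : Set G)) (hW : IsPGroup s W)
    (haW : a ∈ normalizer (W : Set G)) (hPW : P ≤ normalizer (W : Set G))
    (hfix : P ≤ centralizer ((W ⊓ centralizer ({a} : Set G) : Subgroup G) : Set G)) :
    ⁅P, zpowers a⁆ ≤ centralizer (W : Set G) := by
  set N := normalizer (W : Set G) with hN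
  have hXN : zpowers a ≤ N := zpowers_le.2 haW
  haveI : (W.subgroupOf N).Normal := normal_in_normalizer
  have h := hh_aux (G := N) hst hsp htp (P := P.subgroupOf N) (X := (zpowers a).subgroupOf N)
    (W := W.subgroupOf N) (hP.of_equiv (subgroupOfEquivOfLe hPW).symm)
    (ht.imp_right fun (h : IsMulCommutative P) => ⟨⟨fun x y => Subtype.ext (Subtype.ext
      (congrArg Subtype.val (h.is_comm.comm ⟨_, x.2⟩ ⟨_, y.2⟩) :))⟩⟩)
    (by rw [Nat.card_congr (subgroupOfEquivOfLe hXN).toEquiv, Nat.card_zpowers, ha])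
    (fun x hx => mem_normalizer_iff.2 fun y =>
      mem_normalizer_iff.1 (zpowers_le.2 haP (show (x : G) ∈ zpowers a from hx)) (y : G))
    (hW.of_equiv (subgroupOfEquivOfLe le_normalizer).symm)
    (fun x hx => mem_centralizer_iff.2 fun w hw => Subtype.ext (mem_centralizer_iff.1
      (hfix (show (x : G) ∈ P from hx)) (w : G) ⟨hw.1, mem_centralizer_singleton_iff.2
        ((congrArg Subtype.val (mem_centralizer_iff.1 hw.2 ⟨a, haW⟩ (mem_zpowers a)) :).symm)⟩))
  rw [commutator_le]
  intro x hx y hy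
  refine mem_centralizer_iff.2 fun w hw => ?_
  have h1 := mem_centralizer_iff.1 (h (commutator_mem_commutator
    (show (⟨x, hPW hx⟩ : N) ∈ P.subgroupOf N from hx)
    (show (⟨y, hXN hy⟩ : N) ∈ (zpowers a).subgroupOf N from hy))) ⟨w, le_normalizer hw⟩ hw
  exact (congrArg Subtype.val h1 :)

end Cfsg.Agent.Signalizer.SFT
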