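import Cfsg.Agent.Lib.Signalizer.SFT.TwoChar

/-!
The solvable signalizer functor theorem.
-/

set_option autoImplicit false
set_option linter.style.haveILetI false
set_option linter.unusedSectionVars false
set_option linter.unusedVariables false

open scoped Pointwise commutatorElement

universe u

namespace Cfsg.Agent.Signalizer.SFT

open Subgroup

variable {G : Type u} [Group G] [Finite G] {p : ℕ} [hp : Fact p.Prime] {A : Subgroup G}
  {θ : G → Subgroup G}

/-- A minimal counterexample has at least two primes, hence does not exist. -/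
theorem Min.false_of_min (M₀ : Min p A θ) : False := by
  by_cases h2 : ∀ t : ℕ, ∃ s ∈ primes A θ, s ≠ t
  · exact Min2.false_of_min2 (A := A) (θ := θ) { toMin := M₀, two := h2 }
  simp only [not_forall, not_exists, not_and, ne_eq, not_not] at h2
  obtain ⟨t, ht⟩ := h2
  by_cases htp : t ∈ primes A θ
  · haveI := Fact.mk htp.1
    have hpt : ∀ {U : Subgroup G}, U ∈ Cfsg.signalizerFamily p A θ → IsPGroup t U := fun {U} hU =>
      (isSigma_singleton_iff htp.1).1 fun q hq hd => ht q (M₀.mem_primes hU hq hd)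
    have htne : t ≠ p := by
      obtain ⟨-, a, ha, ha1, hd⟩ := htp
      exact fun h => M₀.fn.1.2.1 a ha ha1 (h ▸ hd)
    obtain ⟨M, hCM, hM⟩ := exists_maxMember_ge (q := t) M₀.core_mem (hpt M₀.core_mem)
    refine M₀.not_complete ⟨M, hM.1, fun a ha ha1 => ?_⟩
    obtain ⟨M', haM', hM'⟩ := exists_maxMember_ge (q := t) (M₀.theta_mem ha ha1) (hpt (M₀.theta_mem ha ha1))
    obtain ⟨c, hc, hcM⟩ := transitivity M₀.ea M₀.card.ge M₀.fn htne hM hM'
    exact haM'.trans (hcM.symm.trans (mem_normalizer_iff_map_conj_eq.1 (le_normalizer (hCM hc)))).le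
  · refine M₀.not_complete ⟨Cfsg.signalizerInf A θ, M₀.core_mem, fun a ha ha1 => ?_⟩
    have h1 : Nat.card (θ a) = 1 := by
      by_contra hne
      obtain ⟨q, hq, hd⟩ := Nat.exists_prime_and_dvd hne
      have := M₀.mem_primes (M₀.theta_mem ha ha1) hq hd
      exact htp (ht q this ▸ this)
    rw [card_eq_one.1 h1]
    exact bot_le

/-- Completeness for elementary abelian groups of order `p ^ 3`. -/
theorem Setup.complete (S : Setup p A θ) : Complete p A θ := by
  suffices h : ∀ (n : ℕ) (H : Type u) [Group H] [Finite H] (A' : Subgroup H) (θ' : H → Subgroup H),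
      Setup p A' θ' → size A' θ' = n → Complete p A' θ' from h _ G A θ S rfl
  intro n
  induction n using Nat.strong_induction_on with
  | _ n ih =>
    intro H _ _ A' θ' S' hn
    by_contra hnc
    exact Min.false_of_min (A := A') (θ := θ')
      { toSetup := S'
        ih := fun K _ _ A'' θ'' S'' hlt => ih _ (hn ▸ hlt) K A'' θ'' S'' rfl
        not_complete := hnc }

/-- The solvable signalizer functor theorem. -/
theorem solvable_complete (hA : Cfsg.IsElementaryAbelian p A) (h3 : p ^ 3 ≤ Nat.card A)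
    (hθ : IsSolvableSignalizerFunctor p A θ) : Complete p A θ := by
  obtain ⟨B, hBA, hB3⟩ := exists_subgroup_card_cube hA h3
  have hBea := ea_mono hA hBA
  have hθB : IsSolvableSignalizerFunctor p B θ :=
    ⟨⟨fun a ha ha1 => hθ.1.1 a (hBA ha) ha1, fun a ha ha1 => hθ.1.2.1 a (hBA ha) ha1,
      fun a ha ha1 b hb => hθ.1.2.2.1 a (hBA ha) ha1 b (hBA hb),
      fun a ha ha1 b hb hb1 => hθ.1.2.2.2 a (hBA ha) ha1 b (hBA hb) hb1⟩,
      fun a ha ha1 => hθ.2 a (hBA ha) ha1⟩
  obtain ⟨W₀, hW₀, hW₀θ⟩ := (Setup.mk hBea hB3 hθB).complete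
  set W := ⨆ b : {b : G // b ∈ B ∧ b ≠ 1}, θ b.1 with hW
  have hWW₀ : W ≤ W₀ := iSup_le fun b => hW₀θ b.1 b.2.1 b.2.2
  have hWA : A ≤ normalizer (W : Set G) :=
    le_normalizer_iSup fun b => functor_normalizer hθ.1 (hBA b.2.1) b.2.2
  have hWm : W ∈ Cfsg.signalizerFamily p B θ := family_mono hW₀ hWW₀ (hBA.trans hWA)
  have h2 : p ^ 2 ≤ Nat.card B := hB3 ▸ Nat.pow_le_pow_right hp.out.pos (by norm_num)
  have hBn : ∀ a ∈ A, B ≤ normalizer ((centralizer ({a} : Set G) : Subgroup G) : Set G) := fun a ha =>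
    le_normalizer_of_le_centralizer (hBA.trans (ea_le_centralizer_singleton hA ha))
  refine ⟨W, ⟨hWm.1, hWm.2.1, le_normalizer_iff_conj_mem.1 hWA, fun a ha ha1 => ?_⟩, fun a ha ha1 => ?_⟩
  · refine le_of_centralizer_le hBea h2 (Signalizer.le_normalizer_inf (hBA.trans hWA) (hBn a ha))
      (fun hd => hWm.2.1 (hd.trans (card_dvd_of_le inf_le_left))) fun b hb hb1 x hx => ?_
    exact hθ.1.2.2.2 b (hBA hb) hb1 a ha ha1 ⟨hWm.2.2.2 b hb hb1 ⟨hx.1.1, hx.2⟩, hx.1.2⟩
  · refine le_of_centralizer_le hBea h2 (hBA.trans (functor_normalizer hθ.1 ha ha1))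
      (hθ.1.2.1 a ha ha1) fun b hb hb1 => ?_
    exact (hθ.1.2.2.2 a ha ha1 b (hBA hb) hb1).trans
      (le_iSup (fun b : {b : G // b ∈ B ∧ b ≠ 1} => θ b.1) ⟨b, hb, hb1⟩)

/-- The closure of a solvable signalizer functor. -/
theorem iSup_props (hA : Cfsg.IsElementaryAbelian p A) (h3 : p ^ 3 ≤ Nat.card A)
    (hθ : IsSolvableSignalizerFunctor p A θ) :
    (⨆ a : {a : G // a ∈ A ∧ a ≠ 1}, θ a.1) ∈ Cfsg.signalizerFamily p A θ ∧
      ∀ a ∈ A, a ≠ 1 →
        (⨆ b : {b : G // b ∈ A ∧ b ≠ 1}, θ b.1) ⊓ centralizer ({a} : Set G) = θ a := by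
  obtain ⟨W, hW, hWθ⟩ := solvable_complete hA h3 hθ
  have hle : (⨆ a : {a : G // a ∈ A ∧ a ≠ 1}, θ a.1) ≤ W := iSup_le fun a => hWθ a.1 a.2.1 a.2.2
  have hm := family_mono hW hle (le_normalizer_iSup fun a => functor_normalizer hθ.1 a.2.1 a.2.2)
  exact ⟨hm, fun a ha ha1 => le_antisymm (hm.2.2.2 a ha ha1)
    (le_inf (le_iSup (fun b : {b : G // b ∈ A ∧ b ≠ 1} => θ b.1) ⟨a, ha, ha1⟩) (hθ.1.1 a ha ha1))⟩

/-- A coprime group is solvable when the centralizers of the points of a rank three group are. -/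
theorem isSolvable_of_centralizers {K : Subgroup G} (hA : Cfsg.IsElementaryAbelian p A)
    (h3 : p ^ 3 ≤ Nat.card A) (hK : (Nat.card K).Coprime p) (hAK : A ≤ normalizer (K : Set G))
    (hC : ∀ a ∈ A, a ≠ 1 → Group.IsSolvable ((K ⊓ centralizer ({a} : Set G) : Subgroup G))) :
    Group.IsSolvable K := by
  have hKp : ¬ p ∣ Nat.card K := fun h => hp.out.ne_one (Nat.eq_one_of_dvd_coprimes hK h dvd_rfl)
  have hfn : IsSolvableSignalizerFunctor p A fun a => K ⊓ centralizer ({a} : Set G) :=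
    ⟨⟨fun a _ _ => inf_le_right, fun a _ _ hd => hKp (hd.trans (card_dvd_of_le inf_le_left)),
      fun a ha _ => le_normalizer_iff_conj_mem.1 (Signalizer.le_normalizer_inf hAK
        (le_normalizer_of_le_centralizer (ea_le_centralizer_singleton hA ha))),
      fun a _ _ b _ _ => inf_le_inf_right _ inf_le_left⟩, hC⟩
  obtain ⟨W, hW, hWθ⟩ := solvable_complete hA h3 hfn
  refine isSolvable_of_le ?_ hW.1
  exact le_of_centralizer_le hA ((Nat.pow_le_pow_right hp.out.pos (by norm_num)).trans h3) hAK hKp hWθ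

end Cfsg.Agent.Signalizer.SFT
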