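import Cfsg.Agent.Lib.Signalizer.SFT.Main
import Cfsg.Agent.Lib.Components.LocalBalance
import Cfsg.Agent.Lib.Components.Local
import Cfsg.Prelude.Def_CaseTheorems

/-!
An equivariant solvable signalizer functor on a connected group of rank at least three is trivial,
and the consequence for trivial `p`-layers.
-/

set_option autoImplicit false
set_option linter.style.haveILetI false
set_option linter.unusedSectionVars false
set_option linter.unusedVariables false

open scoped Pointwise commutatorElement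

universe u

namespace Cfsg.Agent.Signalizer.SFT

open Subgroup

variable {G : Type u} [Group G] [Finite G] {p : ℕ} [hp : Fact p.Prime]

/-- An element of order `p` with centralizer of `p`-rank at least three. -/
def IsDeep (p : ℕ) (a : G) : Prop :=
  orderOf a = p ∧ ¬ Cfsg.PRankLE p 2 ↥(centralizer ({a} : Set G))

theorem ea_sup {E F : Subgroup G} (hE : Cfsg.IsElementaryAbelian p E) (hF : Cfsg.IsElementaryAbelian p F)
    (h : ∀ a ∈ E, ∀ b ∈ F, a * b = b * a) : Cfsg.IsElementaryAbelian p (E ⊔ F) := by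
  have hFE : F ≤ centralizer (E : Set G) := fun b hb => mem_centralizer_iff.2 fun a ha => h a ha b hb
  have hc : E ⊔ F ≤ centralizer ((E ⊔ F : Subgroup G) : Set G) :=
    sup_le (Subgroup.le_centralizer_iff.2 (sup_le (ea_le_centralizer hE le_rfl) hFE))
      (Subgroup.le_centralizer_iff.2 (sup_le (Subgroup.le_centralizer_iff.1 hFE)
        (ea_le_centralizer hF le_rfl)))
  refine ⟨.of_setLike_mul_comm fun a ha b hb => (mem_centralizer_iff.1 (hc ha) b hb).symm, fun z hz => ?_⟩
  obtain ⟨u, hu, v, hv, rfl⟩ := (SolvBasic.mem_sup_iff_of_le_normalizer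
    (hFE.trans (centralizer_le_normalizer _))).1 hz
  have hc' : Commute u v := h u hu v hv
  rw [hc'.mul_pow, hE.2 u hu, hF.2 v hv, one_mul]

theorem prankLE_centralizer {S : Set G} (h : ¬ Cfsg.PRankLE p 2 ↥(centralizer S)) :
    ∃ B ≤ centralizer S, Cfsg.IsElementaryAbelian p B ∧ p ^ 3 ≤ Nat.card B := by
  set C := centralizer S
  simp only [Cfsg.PRankLE, not_forall, not_le] at h
  obtain ⟨B, hBc, hBp, hB⟩ := h
  have hBe : Cfsg.IsElementaryAbelian p (B.map C.subtype) := by
    haveI := hBc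
    refine ⟨.of_setLike_mul_comm ?_, ?_⟩
    · rintro _ ⟨a, ha, rfl⟩ _ ⟨b, hb, rfl⟩
      rw [← map_mul, ← map_mul, setLike_mul_comm (s := B) ha hb]
    · rintro _ ⟨a, ha, rfl⟩
      rw [← map_pow, hBp a ha, map_one]
  refine ⟨_, map_subtype_le B, hBe, ?_⟩
  obtain ⟨k, hk⟩ := (ea_isPGroup hBe).exists_card_eq
  rw [card_map_of_injective C.subtype_injective] at hk ⊢
  rw [hk] at hB ⊢
  exact Nat.pow_le_pow_right hp.out.pos ((Nat.pow_lt_pow_iff_right hp.out.one_lt).1 hB)

/-- A functor on the deep elements. -/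
structure Equivariant (p : ℕ) (θ : G → Subgroup G) : Prop where
  props : ∀ a : G, IsDeep p a →
    θ a ≤ centralizer ({a} : Set G) ∧ ¬ p ∣ Nat.card ↥(θ a) ∧ Group.IsSolvable ↥(θ a)
  equiv : ∀ a g : G, IsDeep p a → θ (g * a * g⁻¹) = (θ a).map (MulAut.conj g).toMonoidHom
  balance : ∀ a b : G, IsDeep p a → IsDeep p b → a * b = b * a →
    θ a ⊓ centralizer ({b} : Set G) ≤ θ b

/-- The closure over a subgroup. -/
def thetaClosure (θ : G → Subgroup G) (E : Subgroup G) : Subgroup G :=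
  ⨆ e : {e : G // e ∈ E ∧ e ≠ 1}, θ e.1

theorem deep_of_mem {A : Subgroup G} (hA : Cfsg.IsElementaryAbelian p A) (h3 : p ^ 3 ≤ Nat.card A)
    {a : G} (ha : a ∈ A) (ha1 : a ≠ 1) : IsDeep p a := by
  refine ⟨ea_orderOf hA ha ha1, fun h => ?_⟩
  have hle : A ≤ centralizer ({a} : Set G) := ea_le_centralizer_singleton hA ha
  have h1 := h (A.subgroupOf _)
    (.of_setLike_mul_comm fun x hx y hy => Subtype.ext (ea_comm hA hx hy))
    fun x hx => Subtype.ext (by simpa using hA.2 (x : G) hx)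
  rw [Nat.card_congr (subgroupOfEquivOfLe hle).toEquiv] at h1
  exact absurd (h3.trans h1) (not_le.2 (Nat.pow_lt_pow_right hp.out.one_lt (by norm_num)))

namespace Equivariant

variable {θ : G → Subgroup G} (Θ : Equivariant p θ)
include Θ

theorem functor {A : Subgroup G} (hA : Cfsg.IsElementaryAbelian p A) (h3 : p ^ 3 ≤ Nat.card A) :
    IsSolvableSignalizerFunctor p A θ := by
  refine ⟨⟨fun a ha ha1 => (Θ.props a (deep_of_mem hA h3 ha ha1)).1,
    fun a ha ha1 => (Θ.props a (deep_of_mem hA h3 ha ha1)).2.1, fun a ha ha1 b hb x hx => ?_,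
    fun a ha ha1 b hb hb1 => Θ.balance a b (deep_of_mem hA h3 ha ha1) (deep_of_mem hA h3 hb hb1)
      (ea_comm hA ha hb)⟩, fun a ha ha1 => (Θ.props a (deep_of_mem hA h3 ha ha1)).2.2⟩
  have h := Θ.equiv a b (deep_of_mem hA h3 ha ha1)
  rw [ea_comm hA hb ha, mul_inv_cancel_right] at h
  rw [h]
  exact ⟨x, hx, rfl⟩

/-- The closure over a vertex is that over any rank three group containing it. -/
theorem closure_eq {E A : Subgroup G} (hE2 : p ^ 2 ≤ Nat.card E) (hEA : E ≤ A)
    (hA : Cfsg.IsElementaryAbelian p A) (h3 : p ^ 3 ≤ Nat.card A) :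
    thetaClosure θ A = thetaClosure θ E := by
  refine le_antisymm (iSup_le fun ⟨a, ha, ha1⟩ => ?_) (iSup_le fun ⟨e, he, he1⟩ =>
    le_iSup (fun b : {b : G // b ∈ A ∧ b ≠ 1} => θ b.1) ⟨e, hEA he, he1⟩)
  have hfn := Θ.functor hA h3
  refine le_of_centralizer_le (ea_mono hA hEA) hE2 (hEA.trans (functor_normalizer hfn.1 ha ha1))
    (hfn.1.2.1 a ha ha1) fun e he he1 => ?_
  exact (hfn.1.2.2.2 a ha ha1 e (hEA he) he1).trans
    (le_iSup (fun e : {e : G // e ∈ E ∧ e ≠ 1} => θ e.1) ⟨e, he, he1⟩)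

theorem exists_extension {E : Subgroup G} (hE : Cfsg.IsRankGraphVertex p 2 E) :
    ∃ A, E ≤ A ∧ Cfsg.IsElementaryAbelian p A ∧ p ^ 3 ≤ Nat.card A := by
  obtain ⟨B, hBC, hB, hB3⟩ := prankLE_centralizer hE.2.2
  exact ⟨E ⊔ B, le_sup_left, ea_sup hE.1 hB fun a ha b hb => mem_centralizer_iff.1 (hBC hb) a ha,
    hB3.trans (card_le_of_le le_sup_right)⟩

theorem closure_eq_of_adj {E F : Subgroup G} (hE : Cfsg.IsRankGraphVertex p 2 E)
    (hF : Cfsg.IsRankGraphVertex p 2 F) (h : ∀ a ∈ E, ∀ b ∈ F, a * b = b * a) :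
    thetaClosure θ E = thetaClosure θ F := by
  have hS := ea_sup hE.1 hF.1 h
  rcases lt_or_ge (Nat.card ↥(E ⊔ F)) (p ^ 3) with hlt | hge
  · obtain ⟨k, hk⟩ := (ea_isPGroup hS).exists_card_eq
    have hk2 : k ≤ 2 := Nat.lt_succ_iff.1 ((Nat.pow_lt_pow_iff_right hp.out.one_lt).1 (hk ▸ hlt))
    have hle : Nat.card ↥(E ⊔ F) ≤ p ^ 2 := hk ▸ Nat.pow_le_pow_right hp.out.pos hk2
    rw [eq_of_le_of_card_ge (le_sup_left : E ≤ E ⊔ F) (hle.trans hE.2.1),
      ← eq_of_le_of_card_ge (le_sup_right : F ≤ E ⊔ F) (hle.trans hF.2.1)]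
  · rw [← Θ.closure_eq hE.2.1 le_sup_left hS hge, Θ.closure_eq hF.2.1 le_sup_right hS hge]

theorem closure_conj {A : Subgroup G} (hA : Cfsg.IsElementaryAbelian p A) (h3 : p ^ 3 ≤ Nat.card A)
    (g : G) : thetaClosure θ (A.map (MulAut.conj g).toMonoidHom) =
      (thetaClosure θ A).map (MulAut.conj g).toMonoidHom := by
  unfold thetaClosure
  rw [Subgroup.map_iSup]
  refine le_antisymm (iSup_le fun ⟨_, ⟨a, ha, rfl⟩, ha1⟩ => ?_) (iSup_le fun ⟨a, ha, ha1⟩ => ?_)
  · have ha' : a ≠ 1 := fun h => ha1 (by rw [h, map_one])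
    refine le_trans ?_ (le_iSup (fun a : {a : G // a ∈ A ∧ a ≠ 1} =>
      (θ a.1).map (MulAut.conj g).toMonoidHom) ⟨a, ha, ha'⟩)
    exact (Θ.equiv a g (deep_of_mem hA h3 ha ha')).le
  · refine le_trans (Θ.equiv a g (deep_of_mem hA h3 ha ha1)).ge ?_
    exact le_iSup (fun e : {e : G // e ∈ A.map (MulAut.conj g).toMonoidHom ∧ e ≠ 1} => θ e.1)
      ⟨g * a * g⁻¹, ⟨a, ha, rfl⟩, fun h => ha1 (conj_eq_one_iff.1 h)⟩

theorem eq_bot (hO : Cfsg.pPrimeCore p G = ⊥) (hconn : Cfsg.IsRankGraphConnected p 2 G) {a : G}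
    (ha : IsDeep p a) : θ a = ⊥ := by
  obtain ⟨B, hBC, hB, hB3⟩ := prankLE_centralizer ha.2
  have hza : Cfsg.IsElementaryAbelian p (zpowers a) := by
    refine ⟨inferInstance, fun z hz => ?_⟩
    obtain ⟨i, rfl⟩ := mem_zpowers_iff.1 hz
    rw [← zpow_natCast, ← zpow_mul, mul_comm, zpow_mul, zpow_natCast, ← ha.1, pow_orderOf_eq_one,
      one_zpow]
  set A := zpowers a ⊔ B with hAdef
  have hA : Cfsg.IsElementaryAbelian p A := ea_sup hza hB fun z hz b hb => by
    obtain ⟨i, rfl⟩ := mem_zpowers_iff.1 hz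
    exact ((show Commute a b from mem_centralizer_iff.1 (hBC hb) a rfl).zpow_left i).eq
  have hA3 : p ^ 3 ≤ Nat.card A := hB3.trans (card_le_of_le le_sup_right)
  set W := thetaClosure θ A with hWdef
  have hvert : ∀ D : Subgroup G, Cfsg.IsElementaryAbelian p D → p ^ 3 ≤ Nat.card D →
      Cfsg.IsRankGraphVertex p 2 D := fun D hD hD3 => by
    refine ⟨hD, (Nat.pow_le_pow_right hp.out.pos (by norm_num)).trans hD3, fun h => ?_⟩
    have hle : D ≤ centralizer (D : Set G) := ea_le_centralizer hD le_rfl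
    have h1 := h (D.subgroupOf _) (.of_setLike_mul_comm fun x hx y hy => Subtype.ext (ea_comm hD hx hy))
      fun x hx => Subtype.ext (by simpa using hD.2 (x : G) hx)
    rw [Nat.card_congr (subgroupOfEquivOfLe hle).toEquiv] at h1
    exact absurd (hD3.trans h1) (not_le.2 (Nat.pow_lt_pow_right hp.out.one_lt (by norm_num)))
  have hconst : ∀ D : Subgroup G, Cfsg.IsRankGraphVertex p 2 D → thetaClosure θ D = W := by
    intro D hD
    have h := hconn A D (hvert A hA hA3) hD
    induction h with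
    | refl => rfl
    | tail _ hstep ih => exact (Θ.closure_eq_of_adj hstep.1 hstep.2.1 hstep.2.2).symm.trans (ih hstep.1)
  haveI hWn : W.Normal := by
    refine Subgroup.normalizer_eq_top_iff.1 (eq_top_iff.2 fun g _ => ?_)
    rw [mem_normalizer_iff_map_conj_eq]
    refine (Θ.closure_conj hA hA3 g).symm.trans ?_
    refine hconst _ (hvert _ ?_ ?_)
    · refine ⟨.of_setLike_mul_comm ?_, ?_⟩
      · rintro _ ⟨x, hx, rfl⟩ _ ⟨y, hy, rfl⟩
        rw [← map_mul, ← map_mul, ea_comm hA hx hy]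
      · rintro _ ⟨x, hx, rfl⟩
        rw [← map_pow, hA.2 x hx, map_one]
    · rw [card_map_of_injective (MulAut.conj g).injective]
      exact hA3
  have hWp := (iSup_props hA hA3 (Θ.functor hA hA3)).1.2.1
  have hW : W ≤ Cfsg.pPrimeCore p G :=
    FittingCores.le_pPrimeCore inferInstance (hp.out.coprime_iff_not_dvd.2 hWp).symm
  have ha1 : a ≠ 1 := fun h => by
    have := ha.1
    rw [h, orderOf_one] at this
    exact hp.out.ne_one this.symm
  exact le_bot_iff.1 ((le_iSup (fun b : {b : G // b ∈ A ∧ b ≠ 1} => θ b.1)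
    ⟨a, mem_sup_left (mem_zpowers a), ha1⟩).trans (hW.trans hO.le))

end Equivariant

/-- With trivial `p`-layers the `p'`-cores of centralizers form an equivariant functor. -/
theorem equivariant_cores
    (hL : ∀ a : G, IsDeep p a → Cfsg.pLayer p ↥(centralizer ({a} : Set G)) = ⊥ ∧
      Group.IsSolvable ↥(Cfsg.centralizerPPrimeCore p a)) :
    Equivariant p fun a : G => Cfsg.centralizerPPrimeCore p a := by
  refine ⟨fun a ha => ⟨map_subtype_le _, ?_, (hL a ha).2⟩,
    fun a g _ => (Components.centralizerPPrimeCore_map_equiv (MulAut.conj g) a).symm,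
    fun a b ha hb hab => ?_⟩
  · exact hp.out.coprime_iff_not_dvd.1 (Components.centralizerPPrimeCore_props a).2.2.symm
  · have hza : Cfsg.IsElementaryAbelian p (zpowers a) := by
      refine ⟨inferInstance, fun z hz => ?_⟩
      obtain ⟨i, rfl⟩ := mem_zpowers_iff.1 hz
      rw [← zpow_natCast, ← zpow_mul, mul_comm, zpow_mul, zpow_natCast, ← ha.1, pow_orderOf_eq_one,
        one_zpow]
    refine le_trans (inf_le_inf_right _ ?_) (Components.delta_inf_centralizer_le (k := 1) le_rfl hza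
      (by rw [pow_one, Nat.card_zpowers, ha.1]) (b := b) ?_ ?_)
    · refine le_iInf fun ⟨z, hz, hz1⟩ => le_of_eq ?_
      have hzz : zpowers z = zpowers a := by
        refine eq_of_le_of_card_ge (zpowers_le.2 hz) ?_
        rw [Nat.card_zpowers, Nat.card_zpowers, ha.1, ea_orderOf hza hz hz1]
      rw [Components.centralizerPPrimeCore_eq_zpowers, Components.centralizerPPrimeCore_eq_zpowers, hzz]
    · intro z hz
      obtain ⟨i, rfl⟩ := mem_zpowers_iff.1 hz
      exact ((show Commute a b from hab).zpow_left i).eq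
    · intro K hK
      exact absurd (le_bot_iff.1
        ((Components.component_le_layer hK).trans (Components.pLayer_eq_bot_iff.1 (hL b hb).1).le))
        (Components.component_ne_bot hK)

/-- A group with trivial `p'`-core and `p`-layer has characteristic `p`. -/
theorem generalizedFitting_eq_pCore_of_bot {H : Type u} [Group H] [Finite H]
    (hO : Cfsg.pPrimeCore p H = ⊥) (hL : Cfsg.pLayer p H = ⊥) :
    Cfsg.generalizedFittingSubgroup H = Cfsg.pCore p H := by
  haveI := FittingCores.pPrimeCore_normal (G := H) p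
  exact Components.generalizedFitting_eq_pCore_iff.2 (Components.charP_congr
    ((QuotientGroup.quotientMulEquivOfEq hO).trans QuotientGroup.quotientBot)
    ((Components.layer_eq_bot_iff_charP (Components.pPrimeCore_quotient _)).1
      (Components.pLayer_eq_bot_iff.1 hL)))

end Cfsg.Agent.Signalizer.SFT
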