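import Cfsg.Agent.Lib.Solvable.Coprime
import Cfsg.Agent.Lib.Solvable.Fitting
import Cfsg.Agent.Lib.CharP.AxB
import Cfsg.Agent.Lib.Signalizer.Basic

/-!
In a solvable group `X`, a `p'`-subgroup of `C_X(U)`, `U` a `p`-subgroup, which is normalised by
`C_X(U)` lies in `O_{p'}(X)`.
-/

set_option autoImplicit false
set_option linter.style.haveILetI false
set_option linter.unusedSectionVars false
set_option linter.unusedVariables false

open scoped Pointwise commutatorElement

universe u

namespace Cfsg.Agent.Signalizer.SFT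

open Subgroup

variable {G : Type u} [Group G] [Finite G]

theorem eq_bot_of_normalized_centralizer {p : ℕ} [hp : Fact p.Prime] [Group.IsSolvable G]
    (hO : Cfsg.pPrimeCore p G = ⊥) {U Y : Subgroup G} (hU : IsPGroup p U)
    (hYU : Y ≤ centralizer (U : Set G)) (hn : centralizer (U : Set G) ≤ normalizer (Y : Set G))
    (hY : (Nat.card Y).Coprime p) : Y = ⊥ := by
  set T := Cfsg.pCore p G with hT
  haveI hTn : T.Normal := FittingCores.pCore_normal p
  have hTp : IsPGroup p T := FittingCores.pCore_isPGroup p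
  rw [eq_bot_iff]
  intro x hx
  have hox : (orderOf x).Coprime p := Nat.Coprime.coprime_dvd_left (by
    rw [← orderOf_mk (H := Y) x hx]; exact orderOf_dvd_natCard _) hY
  set R := T ⊓ centralizer (U : Set G) with hR
  have hRn : centralizer (U : Set G) ≤ normalizer (R : Set G) :=
    Signalizer.le_normalizer_inf le_normalizer_of_normal le_normalizer
  have hcop : (Nat.card Y).Coprime (Nat.card R) := by
    obtain ⟨n, hn⟩ := (hTp.to_le (inf_le_left : R ≤ T)).exists_card_eq
    rw [hn]
    exact hY.pow_right n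
  have hc : ∀ y ∈ R, x * y = y * x := fun y hy =>
    AxB.commute_of_coprime (H := Y) (K := R) (hYU.trans hRn) ((inf_le_right : R ≤ _).trans hn)
      hcop hx hy
  have hxT : x ∈ centralizer (T : Set G) := mem_centralizer_iff.2 fun y hy => (AxB.thompson hTp hU
    le_normalizer_of_normal (fun z hz => hTn.conj_mem z hz x)
    (fun a ha => mem_centralizer_iff.1 (hYU hx) a ha) (pow_orderOf_eq_one x) hox.symm
    (fun z hz hzU => hc z ⟨hz, mem_centralizer_iff.2 fun a ha => hzU a ha⟩) y hy).symm
  have hmem := FittingCores.centralizer_pCore_le hp.out hO hxT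
  obtain ⟨k, hk⟩ := IsPGroup.iff_orderOf.mp hTp ⟨x, hmem⟩
  rw [orderOf_mk] at hk
  rw [hk] at hox
  rw [mem_bot, ← orderOf_eq_one_iff, hk]
  exact (Nat.coprime_self _).1 (hox.pow_right k)

theorem le_pPrimeCore_of_normalized_centralizer {p : ℕ} [hp : Fact p.Prime] [Group.IsSolvable G]
    {U Y : Subgroup G} (hU : IsPGroup p U) (hYU : Y ≤ centralizer (U : Set G))
    (hn : centralizer (U : Set G) ≤ normalizer (Y : Set G)) (hY : (Nat.card Y).Coprime p) :
    Y ≤ Cfsg.pPrimeCore p G := by
  set N := Cfsg.pPrimeCore p G with hN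
  haveI : N.Normal := FittingCores.pPrimeCore_normal p
  set f := QuotientGroup.mk' N with hf
  haveI : Group.IsSolvable (G ⧸ N) :=
    Group.isSolvable_of_surjective (QuotientGroup.mk'_surjective N)
  have hcopUN : (Nat.card U).Coprime (Nat.card N) := by
    obtain ⟨n, hn⟩ := hU.exists_card_eq
    rw [hn]
    exact ((FittingCores.pPrimeCore_coprime p).symm).pow_left n
  have hbot := eq_bot_of_normalized_centralizer (FittingCores.pPrimeCore_quotient_eq_bot p N hN)
    (U := U.map f) (Y := Y.map f) (hU.map f) ?_ ?_ (hY.coprime_dvd_left (card_map_dvd _ f))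
  · rwa [Subgroup.map_eq_bot_iff, hf, QuotientGroup.ker_mk'] at hbot
  · rintro _ ⟨y, hy, rfl⟩
    refine mem_centralizer_iff.2 ?_
    rintro _ ⟨u, hu, rfl⟩
    rw [← map_mul, ← map_mul, mem_centralizer_iff.1 (hYU hy) u hu]
  · intro c hc
    obtain ⟨k, rfl⟩ := QuotientGroup.mk'_surjective N c
    have hB : MulAut.conj k • U ≤ N ⊔ U := by
      intro b hb
      rw [SolvBasic.mem_conjSmul] at hb
      set u := k⁻¹ * b * k with hu
      have h1 : f k * f u = f u * f k := (mem_centralizer_iff.1 hc _ ⟨u, hb, rfl⟩).symm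
      have h2 : k * u * k⁻¹ * u⁻¹ ∈ N := by
        rw [← QuotientGroup.eq_one_iff]
        change f _ = 1
        rw [map_mul, map_mul, map_mul, map_inv, map_inv, h1, mul_inv_cancel_right, mul_inv_cancel]
      have : b = (k * u * k⁻¹ * u⁻¹) * u := by rw [hu]; group
      rw [this]
      exact mul_mem (mem_sup_left h2) (mem_sup_right hb)
    obtain ⟨n, hn', hnU⟩ := SchurZ.conj_in (A := U) (K := N) le_normalizer_of_normal hcopUN
      (Or.inr inferInstance) hB (SolvBasic.card_conjSmul _ _)
    have hfk : f (n⁻¹ * k) = f k := by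
      rw [map_mul, map_inv, show f n = 1 from (QuotientGroup.eq_one_iff n).2 hn', inv_one, one_mul]
    have hkN : n⁻¹ * k ∈ normalizer (U : Set G) := by
      rw [SolvBasic.mem_normalizer_iff_conjSmul, ← SolvBasic.conjSmul_conjSmul, ← hnU,
        SolvBasic.conjSmul_inv_conjSmul]
    have hk : n⁻¹ * k ∈ centralizer (U : Set G) := by
      refine mem_centralizer_iff.2 fun u hu => ?_
      set m := n⁻¹ * k with hm
      have h1 : m * u * m⁻¹ * u⁻¹ ∈ U :=
        U.mul_mem ((mem_normalizer_iff.1 hkN u).1 hu) (U.inv_mem hu)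
      have h2 : m * u * m⁻¹ * u⁻¹ ∈ N := by
        rw [← QuotientGroup.eq_one_iff]
        change f _ = 1
        rw [map_mul, map_mul, map_mul, map_inv, map_inv, hfk,
          ← mem_centralizer_iff.1 hc _ ⟨u, hu, rfl⟩, mul_inv_cancel_right, mul_inv_cancel]
      have h3 : m * u * m⁻¹ * u⁻¹ = 1 :=
        (Subgroup.disjoint_def.1 (Subgroup.disjoint_of_coprime_natCard hcopUN)) h1 h2
      rw [mul_inv_eq_one, mul_inv_eq_iff_eq_mul] at h3
      exact h3.symm
    exact le_normalizer_map f ⟨n⁻¹ * k, hn hk, hfk⟩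

end Cfsg.Agent.Signalizer.SFT
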