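import Cfsg.Agent.Lib.Signalizer.Transitivity
import Mathlib.Data.Fintype.BigOperators
import Mathlib.Algebra.Order.BigOperators.Group.Finset

/-!
The setting of the solvable signalizer functor theorem for an elementary abelian group of order
`p ^ 3`: elementary facts and the geometry of the points and planes of `A`.
-/

set_option autoImplicit false
set_option linter.style.haveILetI false
set_option linter.unusedSectionVars false
set_option linter.unusedVariables false

open scoped Pointwise commutatorElement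

universe u

namespace Cfsg.Agent.Signalizer.SFT

open Subgroup

variable {G : Type u} [Group G]

/-- The functor is complete: some member contains every `θ a`. -/
def Complete (p : ℕ) (A : Subgroup G) (θ : G → Subgroup G) : Prop :=
  ∃ W ∈ Cfsg.signalizerFamily p A θ, ∀ a ∈ A, a ≠ 1 → θ a ≤ W

/-- The sum of the orders of the values. -/
noncomputable def size (A : Subgroup G) (θ : G → Subgroup G) : ℕ :=
  Nat.card (Σ a : {a : G // a ∈ A ∧ a ≠ 1}, θ a.1)

/-- A solvable signalizer functor on an elementary abelian group of order `p ^ 3`. -/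
structure Setup (p : ℕ) (A : Subgroup G) (θ : G → Subgroup G) : Prop where
  ea : IsElementaryAbelian p A
  card : Nat.card A = p ^ 3
  fn : IsSolvableSignalizerFunctor p A θ

/-- A plane of `A`. -/
def IsPlane (p : ℕ) (A E : Subgroup G) : Prop :=
  E ≤ A ∧ Nat.card E = p ^ 2

theorem commute_of_le_centralizer {H : Subgroup G} {S : Set G} (h : H ≤ centralizer S) {x y : G}
    (hx : x ∈ H) (hy : y ∈ S) : y * x = x * y :=
  mem_centralizer_iff.1 (h hx) y hy

theorem centralizer_zpowers_eq (x : G) :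
    centralizer (zpowers x : Set G) = centralizer ({x} : Set G) := by
  rw [zpowers_eq_closure, centralizer_closure]

theorem le_centralizer_singleton_iff {H : Subgroup G} {a : G} :
    H ≤ centralizer ({a} : Set G) ↔ ∀ h ∈ H, h * a = a * h :=
  ⟨fun h x hx => mem_centralizer_singleton_iff.1 (h hx),
    fun h x hx => mem_centralizer_singleton_iff.2 (h x hx)⟩

theorem le_normalizer_commutator {A K L : Subgroup G} (hK : A ≤ normalizer (K : Set G))
    (hL : A ≤ normalizer (L : Set G)) : A ≤ normalizer ((⁅K, L⁆ : Subgroup G) : Set G) := by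
  intro a ha
  rw [mem_normalizer_iff_map_conj_eq, map_commutator, mem_normalizer_iff_map_conj_eq.1 (hK ha),
    mem_normalizer_iff_map_conj_eq.1 (hL ha)]

theorem le_normalizer_sup {A K L : Subgroup G} (hK : A ≤ normalizer (K : Set G))
    (hL : A ≤ normalizer (L : Set G)) : A ≤ normalizer ((K ⊔ L : Subgroup G) : Set G) :=
  (le_inf hK hL).trans (normalizer_inf_normalizer_le_normalizer_sup _ _)

theorem le_normalizer_iSup {A : Subgroup G} {ι : Sort*} {K : ι → Subgroup G}
    (h : ∀ i, A ≤ normalizer (K i : Set G)) :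
    A ≤ normalizer ((⨆ i, K i : Subgroup G) : Set G) :=
  (le_iInf h).trans (iInf_normalizer_le_normalizer_iSup K)

theorem le_normalizer_iInf {A : Subgroup G} {ι : Sort*} {K : ι → Subgroup G}
    (h : ∀ i, A ≤ normalizer (K i : Set G)) :
    A ≤ normalizer ((⨅ i, K i : Subgroup G) : Set G) := by
  intro a ha
  rw [mem_normalizer_iff]
  intro y
  simp only [mem_iInf]
  exact ⟨fun hy i => (mem_normalizer_iff.1 (h i ha) y).1 (hy i),
    fun hy i => (mem_normalizer_iff.1 (h i ha) y).2 (hy i)⟩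

theorem le_normalizer_centralizer {A K : Subgroup G} (hK : A ≤ normalizer (K : Set G)) :
    A ≤ normalizer ((centralizer (K : Set G) : Subgroup G) : Set G) :=
  hK.trans ((normal_subgroupOf_iff_le_normalizer (centralizer_le_normalizer _)).1 inferInstance)

/-- A commutator with a centralised subgroup vanishes. -/
theorem commutator_eq_bot_of_le_centralizer {H K : Subgroup G} (h : H ≤ centralizer (K : Set G)) :
    ⁅H, K⁆ = ⊥ :=
  commutator_eq_bot_iff_le_centralizer.2 h

/-- Three subgroups: if `a` centralises `Z` and `Y` normalises `Z`, then `[Y, a]` centralises `Z`. -/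
theorem commutator_le_centralizer_three {Y Z : Subgroup G} {a : G} (ha : a ∈ centralizer (Z : Set G))
    (hY : Y ≤ normalizer (Z : Set G)) : ⁅Y, zpowers a⁆ ≤ centralizer (Z : Set G) := by
  rw [← commutator_eq_bot_iff_le_centralizer]
  refine commutator_commutator_eq_bot_of_rotate ?_ ?_
  · rw [commutator_eq_bot_of_le_centralizer (zpowers_le.2 ha), commutator_bot_left]
  · have h1 : ⁅Z, Y⁆ ≤ Z := CoprimeAct.commutator_le_left hY
    refine eq_bot_iff.2 ((commutator_mono h1 le_rfl).trans ?_)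
    rw [commutator_comm, commutator_eq_bot_of_le_centralizer (zpowers_le.2 ha)]

variable [Finite G] {p : ℕ} [hp : Fact p.Prime] {A : Subgroup G} {θ : G → Subgroup G}

omit hp in
theorem isSolvable_of_le {H K : Subgroup G} (h : H ≤ K) (hK : Group.IsSolvable K) :
    Group.IsSolvable H :=
  haveI := hK
  Group.isSolvable_of_isSolvable_injective (inclusion_injective h)

namespace Setup

variable (S : Setup p A θ)
include S

theorem card_le_three : p ^ 2 ≤ Nat.card A := S.card ▸ Nat.pow_le_pow_right hp.out.pos (by norm_num)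

theorem exists_point : ∃ a ∈ A, a ≠ 1 := by
  have h : (⊥ : Subgroup G) < A := bot_lt_iff_ne_bot.2 fun h => by
    have h1 := S.card
    rw [h, card_bot] at h1
    exact absurd h1.symm (Nat.one_lt_pow (by norm_num) hp.out.one_lt).ne'
  obtain ⟨a, ha, ha1⟩ := SetLike.exists_of_lt h
  exact ⟨a, ha, fun h => ha1 (h ▸ one_mem _)⟩

theorem orderOf_eq {a : G} (ha : a ∈ A) (ha1 : a ≠ 1) : orderOf a = p := ea_orderOf S.ea ha ha1

theorem theta_mem {a : G} (ha : a ∈ A) (ha1 : a ≠ 1) : θ a ∈ Cfsg.signalizerFamily p A θ :=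
  functor_mem_family S.fn ha ha1

theorem theta_le_centralizer {a : G} (ha : a ∈ A) (ha1 : a ≠ 1) : θ a ≤ centralizer ({a} : Set G) :=
  S.fn.1.1 a ha ha1

theorem inf_le {a : G} (ha : a ∈ A) (ha1 : a ≠ 1) : Cfsg.signalizerInf A θ ≤ θ a :=
  signalizerInf_le ha ha1

theorem core_mem : Cfsg.signalizerInf A θ ∈ Cfsg.signalizerFamily p A θ := by
  refine signalizerInf_mem_family S.fn S.ea.1 le_rfl fun h => ?_
  obtain ⟨a, ha, ha1⟩ := S.exists_point
  exact ha1 (by rw [h] at ha; exact ha)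

theorem core_le_centralizer : Cfsg.signalizerInf A θ ≤ centralizer (A : Set G) :=
  signalizerInf_le_centralizer S.fn.1 le_rfl

theorem mem_core_of_fixed {U : Subgroup G} (hU : U ∈ Cfsg.signalizerFamily p A θ) :
    U ⊓ centralizer (A : Set G) ≤ Cfsg.signalizerInf A θ :=
  family_inf_centralizer_le hU le_rfl

theorem le_theta {U : Subgroup G} (hU : U ∈ Cfsg.signalizerFamily p A θ) {a : G} (ha : a ∈ A)
    (ha1 : a ≠ 1) (h : U ≤ centralizer ({a} : Set G)) : U ≤ θ a :=
  (le_inf le_rfl h).trans (hU.2.2.2 a ha ha1)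

theorem plane_ea {E : Subgroup G} (hE : IsPlane p A E) : IsElementaryAbelian p E := ea_mono S.ea hE.1

theorem isPlane_of_hyperplane {D : Subgroup G} (hD : D ≤ A) (h : Nat.card D * p = Nat.card A) :
    IsPlane p A D := by
  refine ⟨hD, Nat.eq_of_mul_eq_mul_right hp.out.pos ?_⟩
  rw [h, S.card]; ring

theorem le_of_planes {X Y : Subgroup G} (hXA : A ≤ normalizer (X : Set G)) (hX : ¬ p ∣ Nat.card X)
    (h : ∀ E, IsPlane p A E → X ⊓ centralizer (E : Set G) ≤ Y) : X ≤ Y :=
  le_of_hyperplane_le S.ea S.card_le_three hXA hX fun D hD hc => h D (S.isPlane_of_hyperplane hD hc)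

theorem le_of_points {E : Subgroup G} (hE : IsPlane p A E) {X Y : Subgroup G}
    (hXA : E ≤ normalizer (X : Set G)) (hX : ¬ p ∣ Nat.card X)
    (h : ∀ e ∈ E, e ≠ 1 → X ⊓ centralizer ({e} : Set G) ≤ Y) : X ≤ Y :=
  le_of_centralizer_le (S.plane_ea hE) hE.2.ge hXA hX h

theorem meet {E F : Subgroup G} (hE : IsPlane p A E) (hF : IsPlane p A F) :
    ∃ a, a ∈ E ∧ a ∈ F ∧ a ≠ 1 :=
  exists_mem_inf_ne_one S.ea S.card hE.1 hF.1 hE.2 hF.2

theorem exists_ne_one {E : Subgroup G} (hE : IsPlane p A E) : ∃ a ∈ E, a ≠ 1 := by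
  obtain ⟨a, ha, -, ha1⟩ := S.meet hE hE
  exact ⟨a, ha, ha1⟩

theorem inv_plane {E : Subgroup G} (hE : IsPlane p A E) :
    A ≤ normalizer ((centralizer (E : Set G) : Subgroup G) : Set G) :=
  ea_le_normalizer_centralizer S.ea hE.1

theorem card_zpowers {a : G} (ha : a ∈ A) (ha1 : a ≠ 1) : Nat.card (zpowers a) = p := by
  rw [Nat.card_zpowers, S.orderOf_eq ha ha1]

theorem comm {x y : G} (hx : x ∈ A) (hy : y ∈ A) : x * y = y * x := ea_comm S.ea hx hy

theorem sup_eq {E : Subgroup G} (hE : IsPlane p A E) {a : G} (ha : a ∈ A) (haE : a ∉ E) :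
    E ⊔ zpowers a = A := by
  have ha1 : a ≠ 1 := fun h => haE (h ▸ one_mem _)
  have hn : zpowers a ≤ normalizer (E : Set G) :=
    (zpowers_le.2 ha).trans ((ea_le_centralizer S.ea hE.1).trans (centralizer_le_normalizer _))
  refine eq_of_le_of_card_ge (sup_le hE.1 (zpowers_le.2 ha)) ?_
  rw [SolvBasic.card_sup_of_inf_eq_bot hn, hE.2, S.card_zpowers ha ha1, S.card, ← pow_succ]
  rw [eq_bot_iff]
  intro z hz
  rw [mem_bot]
  by_contra hz1
  refine haE (zpowers_le.2 hz.1 ?_)
  have : zpowers z = zpowers a := by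
    refine eq_of_le_of_card_ge (zpowers_le.2 hz.2) ?_
    rw [S.card_zpowers ha ha1, S.card_zpowers (hE.1 hz.1) hz1]
  rw [this]
  exact mem_zpowers a

/-- Every proper subgroup of `A` lies in a plane. -/
theorem exists_plane_ge {B : Subgroup G} (hB : B ≤ A) (hne : B ≠ A) :
    ∃ E, IsPlane p A E ∧ B ≤ E := by
  obtain ⟨M, hBM, ⟨hMA, hMne⟩, hmax⟩ := Finite.exists_le_maximal
    (p := fun M : Subgroup G => M ≤ A ∧ M ≠ A) ⟨hB, hne⟩
  obtain ⟨x, hxA, hxM⟩ := SetLike.exists_of_lt (lt_of_le_of_ne hMA hMne)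
  have hn : zpowers x ≤ normalizer (M : Set G) :=
    (zpowers_le.2 hxA).trans ((ea_le_centralizer S.ea hMA).trans (centralizer_le_normalizer _))
  have hx1 : x ≠ 1 := fun h => hxM (h ▸ one_mem _)
  have htop : M ⊔ zpowers x = A := by
    by_contra h
    exact hxM (hmax (y := M ⊔ zpowers x) ⟨sup_le hMA (zpowers_le.2 hxA), h⟩ le_sup_left
      (mem_sup_right (mem_zpowers x)))
  refine ⟨M, ⟨hMA, Nat.eq_of_mul_eq_mul_right hp.out.pos ?_⟩, hBM⟩
  rw [← S.card_zpowers hxA hx1, ← SolvBasic.card_sup_of_inf_eq_bot hn, htop, S.card,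
    S.card_zpowers hxA hx1, ← pow_succ]
  rw [eq_bot_iff]
  intro z hz
  rw [mem_bot]
  by_contra hz1
  refine hxM (zpowers_le.2 hz.1 ?_)
  have : zpowers z = zpowers x := by
    refine eq_of_le_of_card_ge (zpowers_le.2 hz.2) ?_
    rw [S.card_zpowers hxA hx1, S.card_zpowers (hMA hz.1) hz1]
  rw [this]
  exact mem_zpowers x

theorem not_mem_of_zpowers {a : G} (ha : a ∈ A) (ha1 : a ≠ 1) :
    ∃ b ∈ A, b ∉ zpowers a := by
  refine SetLike.exists_of_lt (lt_of_le_of_ne (zpowers_le.2 ha) fun h => ?_)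
  have h1 := S.card_zpowers ha ha1
  rw [h, S.card] at h1
  exact absurd h1 (lt_self_pow₀ hp.out.one_lt (by norm_num)).ne'

/-- A plane through a given element. -/
theorem exists_plane_mem {a : G} (ha : a ∈ A) : ∃ E, IsPlane p A E ∧ a ∈ E := by
  rcases eq_or_ne (zpowers a) A with h | h
  · exfalso
    rcases eq_or_ne a 1 with rfl | ha1
    · obtain ⟨b, hb, hb1⟩ := S.exists_point
      rw [← h, zpowers_one_eq_bot] at hb
      exact hb1 hb
    · obtain ⟨b, hb, hb'⟩ := S.not_mem_of_zpowers ha ha1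
      exact hb' (h ▸ hb)
  · obtain ⟨E, hE, hle⟩ := S.exists_plane_ge (zpowers_le.2 ha) h
    exact ⟨E, hE, hle (mem_zpowers a)⟩

/-- A plane is not covered by two other planes. -/
theorem exists_mem_not_mem {E L₁ L₂ : Subgroup G} (hE : IsPlane p A E) (h₁ : IsPlane p A L₁)
    (h₂ : IsPlane p A L₂) (hne₁ : E ≠ L₁) (hne₂ : E ≠ L₂) :
    ∃ a ∈ E, a ≠ 1 ∧ a ∉ L₁ ∧ a ∉ L₂ := by
  have hnle : ∀ L, IsPlane p A L → E ≠ L → ¬ E ≤ L := fun L hL hne h =>
    hne (eq_of_le_of_card_ge h (by rw [hE.2, hL.2]))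
  obtain ⟨x, hxE, hx⟩ := SetLike.not_le_iff_exists.1 (hnle L₁ h₁ hne₁)
  obtain ⟨y, hyE, hy⟩ := SetLike.not_le_iff_exists.1 (hnle L₂ h₂ hne₂)
  by_cases hx2 : x ∈ L₂
  · by_cases hy1 : y ∈ L₁
    · refine ⟨x * y, E.mul_mem hxE hyE, fun h => hx ?_, fun h => hx ?_, fun h => hy ?_⟩
      · rw [eq_inv_of_mul_eq_one_left h]; exact inv_mem hy1
      · simpa using L₁.mul_mem h (L₁.inv_mem hy1)
      · simpa using L₂.mul_mem (L₂.inv_mem hx2) h
    · exact ⟨y, hyE, fun h => hy (h ▸ one_mem _), hy1, hy⟩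
  · exact ⟨x, hxE, fun h => hx (h ▸ one_mem _), hx, hx2⟩

/-- If `U ≤ θ a` is centralised by `d`, then `U ≤ θ d`. -/
theorem member_le_of_commute {U : Subgroup G} (hU : U ∈ Cfsg.signalizerFamily p A θ) {d : G}
    (hd : d ∈ A) (hd1 : d ≠ 1) (h : d ∈ centralizer (U : Set G)) : U ≤ θ d :=
  S.le_theta hU hd hd1 (le_centralizer_singleton_iff.2 fun x hx => mem_centralizer_iff.1 h x hx)

theorem mem_inf {E : Subgroup G} (hE : IsPlane p A E) {e : G} (he : e ∈ E) (he1 : e ≠ 1) :
    Cfsg.signalizerInf E θ ≤ θ e :=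
  signalizerInf_le he he1

theorem inf_mem {E : Subgroup G} (hE : IsPlane p A E) :
    Cfsg.signalizerInf E θ ∈ Cfsg.signalizerFamily p A θ := by
  refine signalizerInf_mem_family S.fn S.ea.1 hE.1 fun h => ?_
  obtain ⟨e, he, he1⟩ := S.exists_ne_one hE
  rw [h] at he
  exact he1 he

theorem fixed_le_inf {U E : Subgroup G} (hU : U ∈ Cfsg.signalizerFamily p A θ) (hE : IsPlane p A E) :
    U ⊓ centralizer (E : Set G) ≤ Cfsg.signalizerInf E θ :=
  family_inf_centralizer_le hU hE.1

theorem coprime {X : Subgroup G} (hX : X ∈ Cfsg.signalizerFamily p A θ) {B : Subgroup G}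
    (hB : B ≤ A) : (Nat.card B).Coprime (Nat.card X) :=
  coprime_card (ea_isPGroup (ea_mono S.ea hB)) hX.2.1

theorem isSolvable_zpowers (a : G) : Group.IsSolvable (zpowers a) :=
  Group.isSolvable_of_comm fun x y => mul_comm' x y

/-- `[X, a, a] = [X, a]` for a member `X`. -/
theorem commutator_idem {X : Subgroup G} (hX : X ∈ Cfsg.signalizerFamily p A θ) {a : G}
    (ha : a ∈ A) : ⁅⁅X, zpowers a⁆, zpowers a⁆ = ⁅X, zpowers a⁆ :=
  CoprimeAct.commutator_commutator ((zpowers_le.2 ha).trans (family_normalizer hX))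
    (S.coprime hX (zpowers_le.2 ha)) (Or.inl (S.isSolvable_zpowers a))

theorem commutator_sup {X : Subgroup G} (hX : X ∈ Cfsg.signalizerFamily p A θ) {a : G}
    (ha : a ∈ A) : ⁅X, zpowers a⁆ ⊔ (X ⊓ centralizer ({a} : Set G)) = X := by
  rw [← centralizer_zpowers_eq]
  exact CoprimeAct.commutator_sup_centralizer ((zpowers_le.2 ha).trans (family_normalizer hX))
    (S.coprime hX (zpowers_le.2 ha)) (Or.inl (S.isSolvable_zpowers a))

theorem inv_zpowers {a : G} (ha : a ∈ A) : A ≤ normalizer ((zpowers a : Subgroup G) : Set G) :=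
  (ea_le_centralizer S.ea (zpowers_le.2 ha)).trans (centralizer_le_normalizer _)

theorem commutator_mem {X : Subgroup G} (hX : X ∈ Cfsg.signalizerFamily p A θ) {a : G}
    (ha : a ∈ A) : ⁅X, zpowers a⁆ ∈ Cfsg.signalizerFamily p A θ :=
  family_mono hX (CoprimeAct.commutator_le_left ((zpowers_le.2 ha).trans (family_normalizer hX)))
    (le_normalizer_commutator (family_normalizer hX) (S.inv_zpowers ha))

theorem sub_mem {X Y : Subgroup G} (hX : X ∈ Cfsg.signalizerFamily p A θ)
    (hY : A ≤ normalizer (Y : Set G)) : X ⊓ Y ∈ Cfsg.signalizerFamily p A θ :=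
  family_mono hX inf_le_left (le_normalizer_inf (family_normalizer hX) hY)

theorem inf_centralizer_mem {X Y : Subgroup G} (hX : X ∈ Cfsg.signalizerFamily p A θ)
    (hY : A ≤ normalizer (Y : Set G)) :
    X ⊓ centralizer (Y : Set G) ∈ Cfsg.signalizerFamily p A θ :=
  S.sub_mem hX (le_normalizer_centralizer hY)

end Setup

end Cfsg.Agent.Signalizer.SFT
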