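import Cfsg.Agent.Lib.Signalizer.SFT.TransvectionCommute

/-!
An elementary abelian offender acting faithfully on a coprime group contains a transvection.
-/

set_option autoImplicit false
set_option linter.style.haveILetI false
set_option linter.unusedSectionVars false
set_option linter.unusedVariables false

universe u

namespace Cfsg.Agent.Signalizer.SFT

open Subgroup

variable {V : Type u} [CommGroup V] [Finite V] {r q : ℕ} [hr : Fact r.Prime] [hq : Fact q.Prime]

theorem exists_transvec (hqr : q ≠ r) (hexp : ∀ v : V, v ^ r = 1) {R B : Subgroup (MulAut V)}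
    (hR : IsPGroup q R) (hBea : Cfsg.IsElementaryAbelian r B)
    (hBR : ∀ b ∈ B, ∀ x ∈ R, b * x * b⁻¹ ∈ R)
    (hfaith : ∀ b ∈ B, (∀ y ∈ R, y * b = b * y) → b = 1) (hB1 : B ≠ ⊥)
    (hineq : Nat.card V ≤ Nat.card B * Nat.card (fixedOf B)) :
    ∃ b e, b ∈ B ∧ IsTransvec r q R b e := by
  obtain ⟨B₀, hle, ⟨hB₀1, hB₀i⟩, hmin⟩ := exists_minimal_le_of_wellFoundedLT
    (fun B₀ : Subgroup (MulAut V) => B₀ ≠ ⊥ ∧ Nat.card V ≤ Nat.card B₀ * Nat.card (fixedOf B₀))
    B ⟨hB1, hineq⟩
  have hB₀ea : Cfsg.IsElementaryAbelian r B₀ := ea_mono hBea hle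
  have hB₀p : IsPGroup r B₀ := ea_isPGroup hB₀ea
  have hVp : IsPGroup r V := fun v => ⟨1, by rw [pow_one]; exact hexp v⟩
  obtain ⟨k, hk⟩ := hB₀p.exists_card_eq
  obtain ⟨b, hb, hb1⟩ := (bot_or_exists_ne_one B₀).resolve_left hB₀1
  have hk0 : k ≠ 0 := fun h => hB₀1 (card_eq_one.1 (by rw [hk, h, pow_zero]))
  by_cases hk1 : k = 1
  · -- order `r`
    rw [hk1, pow_one] at hk
    have hbr : b ^ r = 1 := hBea.2 b (hle hb)
    have hgen : zpowers b = B₀ := eq_of_le_of_card_ge (zpowers_le.2 hb)
      (by rw [hk, Nat.card_zpowers, orderOf_eq_prime hbr hb1])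
    let d : V →* V := (b.toMonoidHom : V →* V) / MonoidHom.id V
    have hker : d.ker ≤ fixedOf B₀ := by
      intro v hv g hg
      have hbv : b v = v := div_eq_one.1 hv
      let S : Subgroup (MulAut V) :=
        { carrier := {g | g v = v}
          one_mem' := rfl
          mul_mem' := fun {g h} hg hh => (congrArg g hh).trans hg
          inv_mem' := fun {g} hg => by
            show g⁻¹ v = v
            conv_lhs => rw [← (hg : g v = v)]
            rw [MulAut.inv_apply_self] }
      rw [← hgen] at hg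
      exact (zpowers_le.2 (show b ∈ S from hbv) hg : g ∈ S)
    have hrange : d.range ≠ ⊥ := by
      intro h
      exact hb1 (MulEquiv.ext fun v => div_eq_one.1 ((eq_bot_iff_forall _).1 h _ ⟨v, rfl⟩))
    obtain ⟨e, he, he1⟩ := (bot_or_exists_ne_one d.range).resolve_left hrange
    have hcard : Nat.card d.range ≤ r := by
      have h1 : Nat.card d.ker * Nat.card d.range = Nat.card V := by
        rw [← Subgroup.index_ker, Subgroup.card_mul_index]
      have h2 : Nat.card d.ker * Nat.card d.range ≤ Nat.card d.ker * r := by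
        refine h1.le.trans ((hB₀i.trans ?_))
        rw [hk, mul_comm]
        refine Nat.mul_le_mul_right r (card_le_of_le ?_)
        exact fun v hv => div_eq_one.2 (hv b hb)
      exact Nat.le_of_mul_le_mul_left h2 Nat.card_pos
    have heq : zpowers e = d.range := eq_of_le_of_card_ge (zpowers_le.2 he)
      (by rw [Nat.card_zpowers, orderOf_eq_prime (hexp e) he1]; exact hcard)
    exact ⟨b, e, hle hb, hqr, hexp, hR, hbr, hb1, hBR b (hle hb), he1,
      fun v => heq.ge ⟨v, rfl⟩⟩
  · exfalso
    have hrk : r ^ 2 ≤ Nat.card B₀ := hk ▸ Nat.pow_le_pow_right hr.out.pos (by omega)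
    have hnorm : B₀ ≤ normalizer (R : Set (MulAut V)) := fun g hg =>
      mem_normalizer_iff.2 fun x => ⟨hBR g (hle hg) x, fun h => by
        simpa [mul_assoc] using hBR g⁻¹ (inv_mem (hle hg)) _ h⟩
    have hRr : ¬ r ∣ Nat.card R := fun hd => by
      obtain ⟨m, hm⟩ := hR.exists_card_eq
      rw [hm] at hd
      exact hqr ((Nat.prime_dvd_prime_iff_eq hr.out hq.out).1 (hr.out.dvd_of_dvd_pow hd)).symm
    have hcent : R ≤ centralizer (B₀ : Set (MulAut V)) := by
      refine Signalizer.le_of_hyperplane_le hB₀ea hrk hnorm hRr fun D hDB hD y hy => ?_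
      have hD1 : D ≠ ⊥ := fun h => by
        rw [h, card_bot, one_mul] at hD
        exact absurd hrk (not_le.2 (hD ▸ lt_self_pow₀ hr.out.one_lt (by norm_num)))
      have hDp : IsPGroup r D := hB₀p.to_le hDB
      have hlt : Nat.card D * Nat.card (fixedOf D) < Nat.card V := by
        by_contra hge
        have := hmin (y := D) ⟨hD1, not_lt.1 hge⟩ hDB
        rw [le_antisymm hDB this] at hD
        exact absurd hD (lt_mul_of_one_lt_right Nat.card_pos hr.out.one_lt).ne'
      have hsub : fixedOf B₀ ≤ fixedOf D := fun v hv g hg => hv g (hDB hg)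
      have hfix : fixedOf D = fixedOf B₀ := by
        refine (eq_of_le_of_card_ge hsub ?_).symm
        obtain ⟨i, hi⟩ := (hVp.to_subgroup (fixedOf D)).exists_card_eq
        obtain ⟨j, hj⟩ := (hVp.to_subgroup (fixedOf B₀)).exists_card_eq
        have h1 : Nat.card (fixedOf D) < r * Nat.card (fixedOf B₀) := by
          refine Nat.lt_of_mul_lt_mul_left (a := Nat.card D) (hlt.trans_le (hB₀i.trans ?_))
          rw [← hD, mul_assoc]
        rw [hi, hj, ← pow_succ'] at h1
        rw [hi, hj]
        exact Nat.pow_le_pow_right hr.out.pos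
          (Nat.lt_succ_iff.1 ((Nat.pow_lt_pow_iff_right hr.out.one_lt).1 h1))
      refine mem_centralizer_iff.2 fun g hg => ?_
      set c := y * (g * y⁻¹ * g⁻¹) with hc
      have hcR : c ∈ R := mul_mem hy.1 (hBR g (hle hg) _ (inv_mem hy.1))
      obtain ⟨i, hi⟩ := hR ⟨c, hcR⟩
      have hyD : ∀ x ∈ D, x * y = y * x := fun x hx => mem_centralizer_iff.1 hy.2 x hx
      have hc1 : c = 1 := by
        refine eq_one_of_fixes_fixedOf hexp hDp (n := q ^ i) (congrArg Subtype.val hi)
          (((Nat.coprime_primes hq.out hr.out).2 hqr).pow_left i) (fun x hx => ?_) fun v hv => ?_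
        · have hxy : Commute x y := hyD x hx
          have hxg : Commute x g := by
            haveI := hB₀ea.1
            exact setLike_mul_comm (s := B₀) (hDB hx) hg
          exact hxy.mul_right ((hxg.mul_right hxy.inv_right).mul_right hxg.inv_right)
        · have hv' : y⁻¹ v ∈ fixedOf D := fun x hx => by
            have hxy : Commute x y⁻¹ := (show Commute x y from hyD x hx).inv_right
            rw [← MulAut.mul_apply, hxy.eq, MulAut.mul_apply, hv x hx]
          rw [hfix] at hv hv'
          rw [hc, MulAut.mul_apply, MulAut.mul_apply, MulAut.mul_apply, hv g⁻¹ (inv_mem hg),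
            hv' g hg, MulAut.apply_inv_self]
      calc g * y = c⁻¹ * (y * g) := by rw [hc]; group
        _ = y * g := by rw [hc1, inv_one, one_mul]
    exact hb1 (hfaith b (hle hb) fun y hy => (mem_centralizer_iff.1 (hcent hy) b hb).symm)

end Cfsg.Agent.Signalizer.SFT
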