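import Cfsg.Agent.Lib.Signalizer.SFT.Layers
import Cfsg.Agent.Lib.Signalizer.SFT.Offender
import Cfsg.Agent.Lib.PLocal.ZJ

/-!
The Thompson subgroup of an `x`-group centralises, modulo the centralizer of a central elementary
abelian subgroup, a layer on which a coprime group fixes nothing outside what the `x`-group
centralises.
-/

set_option autoImplicit false
set_option linter.style.haveILetI false
set_option linter.unusedSectionVars false
set_option linter.unusedVariables false

open scoped Pointwise commutatorElement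

universe u

namespace Cfsg.Agent.Signalizer.SFT

open Subgroup
open Cfsg.Agent.OddOrder

variable {G : Type u} [Group G] [Finite G]

theorem normalizerMonoidHom_coe {W : Subgroup G} (g : normalizer (W : Set G)) (w : W) :
    ((W.normalizerMonoidHom g w : W) : G) = g * w * (g : G)⁻¹ := rfl

theorem normalizerMonoidHom_eq_one {W : Subgroup G} (g : normalizer (W : Set G)) :
    W.normalizerMonoidHom g = 1 ↔ (g : G) ∈ centralizer (W : Set G) := by
  rw [← MonoidHom.mem_ker, Subgroup.normalizerMonoidHom_ker, mem_subgroupOf]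

/-- The data of the offender argument. -/
structure OffenderData (p x y : ℕ) (A P V R : Subgroup G) : Prop where
  yx : y ≠ x
  px : p ≠ x
  py : p ≠ y
  Vea : Cfsg.IsElementaryAbelian x V
  VP : V ≤ P
  Pp : IsPGroup x P
  PV : P ≤ normalizer (V : Set G)
  RV : R ≤ normalizer (V : Set G)
  AV : A ≤ normalizer (V : Set G)
  AP : A ≤ normalizer (P : Set G)
  AR : A ≤ normalizer (R : Set G)
  PR : P ≤ normalizer (R : Set G)
  Rpow : ∀ r ∈ R, ∃ k : ℕ, r ^ y ^ k ∈ centralizer (V : Set G)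
  Apow : ∀ a ∈ A, a ^ p = 1
  Asolv : Group.IsSolvable A
  cop : (Nat.card A).Coprime (Nat.card R)
  fixed : ∀ r ∈ R, r ∈ centralizer (A : Set G) → ∀ b ∈ P, ⁅r, b⁆ ∈ centralizer (V : Set G)

theorem jSub_centralizes {p x y : ℕ} [hp : Fact p.Prime] [hx : Fact x.Prime] [hy : Fact y.Prime]
    {A P V R : Subgroup G} (D : OffenderData p x y A P V R) :
    ⁅R, ZJ.jSub x True P⁆ ≤ centralizer (V : Set G) := by
  classical
  set CV := centralizer (V : Set G) with hCV
  have hnCV : normalizer (V : Set G) ≤ normalizer (CV : Set G) :=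
    FitOf.normalizer_le_normalizer_centralizer V
  set P₁ := P ⊓ modCentralizer CV R with hP₁
  suffices hle : ZJ.jSub x True P ≤ P₁ by
    rw [commutator_comm]
    exact commutator_le_of_modCentralizer (hle.trans inf_le_right)
  set W := V ⊓ centralizer (P₁ : Set G) with hWdef
  set N := normalizer (W : Set G) with hN
  have hnP₁ : ∀ {B : Subgroup G}, B ≤ normalizer (P : Set G) → B ≤ normalizer (V : Set G) →
      B ≤ normalizer (R : Set G) → B ≤ normalizer (P₁ : Set G) := fun hP hV hR =>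
    Signalizer.le_normalizer_inf hP (le_normalizer_modCentralizer (hV.trans hnCV) hR)
  have hPW : P ≤ N := Signalizer.le_normalizer_inf D.PV
    (le_normalizer_centralizer (hnP₁ le_normalizer D.PV D.PR))
  have hAW : A ≤ N := Signalizer.le_normalizer_inf D.AV
    (le_normalizer_centralizer (hnP₁ D.AP D.AV D.AR))
  have hRstab : ∀ r ∈ R, ∀ w ∈ W, r * w * r⁻¹ ∈ W := by
    intro r hr w hw
    refine ⟨(mem_normalizer_iff.1 (D.RV hr) w).1 hw.1, mem_centralizer_iff.2 fun g hg => ?_⟩
    have hc : ⁅g, r⁆ ∈ CV := hg.2.2 r hr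
    have hgw : g * w = w * g := mem_centralizer_iff.1 hw.2 g hg
    have hv : r * w * r⁻¹ ∈ V := (mem_normalizer_iff.1 (D.RV hr) w).1 hw.1
    calc g * (r * w * r⁻¹) = ⁅g, r⁆ * (r * (g * w) * g⁻¹ * r⁻¹) * ⁅g, r⁆⁻¹ * g := by
          simp only [commutatorElement_def]; group
      _ = ⁅g, r⁆ * (r * w * r⁻¹) * ⁅g, r⁆⁻¹ * g := by rw [hgw]; group
      _ = r * w * r⁻¹ * g := by
          rw [← mem_centralizer_iff.1 hc _ hv, mul_inv_cancel_right]
  have hRW : R ≤ N := fun r hr => mem_normalizer_fintype fun w hw => hRstab r hr w hw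
  -- faithfulness
  have hVc : ∀ u v : V, u * v = v * u := fun u v => D.Vea.1.is_comm.comm u v
  letI : CommGroup V := { (inferInstance : Group V) with mul_comm := hVc }
  have hVexp : ∀ v : V, v ^ x = 1 := fun v => Subtype.ext (D.Vea.2 v v.2)
  set φV := V.normalizerMonoidHom with hφV
  have hfaith : ∀ r ∈ R, r ∈ centralizer (W : Set G) → r ∈ CV := by
    intro r hr hrW
    set r' : normalizer (V : Set G) := ⟨r, D.RV hr⟩ with hr'
    obtain ⟨k, hk⟩ := D.Rpow r hr
    have hk' : φV r' ^ y ^ k = 1 := by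
      rw [← map_pow]
      exact (normalizerMonoidHom_eq_one _).2 hk
    have hpow : φV r' = 1 := by
      refine eq_one_of_fixes_fixedOf hVexp
        (((D.Pp.to_le inf_le_left).of_equiv
          (subgroupOfEquivOfLe ((inf_le_left : P₁ ≤ P).trans D.PV)).symm).map φV) hk'
        (((Nat.coprime_primes hy.out hx.out).2 D.yx).pow_left k) ?_ ?_
      · rintro _ ⟨g, hg, rfl⟩
        have h1 : φV ⁅g, r'⁆ = 1 := (normalizerMonoidHom_eq_one _).2 (hg.2.2 r hr)
        rw [map_commutatorElement] at h1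
        exact commutatorElement_eq_one_iff_mul_comm.1 h1
      · intro v hv
        have hvW : (v : G) ∈ W := by
          refine ⟨v.2, mem_centralizer_iff.2 fun g hg => ?_⟩
          have h1 := hv (φV ⟨g, D.PV hg.1⟩) ⟨⟨g, D.PV hg.1⟩, hg, rfl⟩
          have h2 : g * v * g⁻¹ = v := congrArg Subtype.val h1
          calc g * v = g * v * g⁻¹ * g := by group
            _ = v * g := by rw [h2]
        refine Subtype.ext ?_
        rw [normalizerMonoidHom_coe]
        show r * v * r⁻¹ = v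
        rw [← mem_centralizer_iff.1 hrW _ hvW, mul_inv_cancel_right]
    exact (normalizerMonoidHom_eq_one r').1 hpow
  -- the action on `W`
  have hWc : ∀ u v : W, u * v = v * u := fun u v =>
    Subtype.ext (congrArg Subtype.val (hVc ⟨u, u.2.1⟩ ⟨v, v.2.1⟩) :)
  letI : CommGroup W := { (inferInstance : Group W) with mul_comm := hWc }
  have hWexp : ∀ w : W, w ^ x = 1 := fun w => Subtype.ext (D.Vea.2 w w.2.1)
  set φ := W.normalizerMonoidHom with hφ
  set R' := (R.subgroupOf N).map φ with hR'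
  set A' := (A.subgroupOf N).map φ with hA'
  have hR'p : IsPGroup y R' := by
    rintro ⟨_, g, hg, rfl⟩
    obtain ⟨k, hk⟩ := D.Rpow (g : G) hg
    refine ⟨k, Subtype.ext ?_⟩
    show φ g ^ y ^ k = 1
    rw [← map_pow]
    exact (normalizerMonoidHom_eq_one _).2 (centralizer_le (fun w hw => (hw.1 : w ∈ V)) hk)
  have hmem : ∀ b ∈ P, ∀ hbN : b ∈ N, (∀ z ∈ R', z * φ ⟨b, hbN⟩ = φ ⟨b, hbN⟩ * z) → b ∈ P₁ := by
    intro b hb hbN hc
    refine ⟨hb, hnCV (D.PV hb), fun r hr => hfaith _ ?_ ?_⟩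
    · rw [show ⁅b, r⁆ = (b * r * b⁻¹) * r⁻¹ by simp only [commutatorElement_def]]
      exact R.mul_mem ((mem_normalizer_iff.1 (D.PR hb) r).1 hr) (R.inv_mem hr)
    · refine (normalizerMonoidHom_eq_one (⁅(⟨b, hbN⟩ : N), ⟨r, hRW hr⟩⁆ : N)).1 ?_
      rw [map_commutatorElement]
      exact commutatorElement_eq_one_iff_mul_comm.2 (hc _ (mem_map_of_mem φ hr)).symm
  refine sSup_le fun B hB b₀ hb₀ => ?_
  haveI := hB.2.1.1
  have hBN : B ≤ N := hB.1.trans hPW
  set f := φ.comp (inclusion hBN) with hf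
  set B' := f.range with hB'
  by_cases hB'1 : B' = ⊥
  · refine hmem b₀ (hB.1 hb₀) (hBN hb₀) fun z hz => ?_
    rw [show φ ⟨b₀, hBN hb₀⟩ = 1 from (eq_bot_iff_forall _).1 hB'1 _ ⟨⟨b₀, hb₀⟩, rfl⟩, mul_one,
      one_mul]
  exfalso
  have hB'ea : Cfsg.IsElementaryAbelian x B' := by
    refine ⟨.of_setLike_mul_comm ?_, ?_⟩
    · rintro _ ⟨u, rfl⟩ _ ⟨v, rfl⟩
      rw [← map_mul, ← map_mul, show u * v = v * u from
        Subtype.ext (setLike_mul_comm (s := B) u.2 v.2)]
    · rintro _ ⟨u, rfl⟩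
      rw [← map_pow, show u ^ x = 1 from Subtype.ext (hB.2.1.2 trivial u u.2), map_one]
  have hB'R : ∀ b ∈ B', ∀ z ∈ R', b * z * b⁻¹ ∈ R' := by
    rintro _ ⟨u, rfl⟩ _ ⟨g, hg, rfl⟩
    refine ⟨inclusion hBN u * g * (inclusion hBN u)⁻¹, ?_, ?_⟩
    · exact (mem_normalizer_iff.1 (D.PR (hB.1 u.2)) (g : G)).1 hg
    · simp [f]
  have hB'f : ∀ b ∈ B', (∀ z ∈ R', z * b = b * z) → b = 1 := by
    rintro _ ⟨u, rfl⟩ hc
    have hu := hmem u (hB.1 u.2) (hBN u.2) hc
    refine (normalizerMonoidHom_eq_one _).2 (mem_centralizer_iff.2 fun w hw => ?_)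
    exact (mem_centralizer_iff.1 hw.2 (u : G) hu).symm
  -- the inequality
  set K₀ := B ⊓ centralizer (W : Set G) with hK₀
  set F := W ⊓ centralizer (B : Set G) with hF
  have hfix : Nat.card (fixedOf B') = Nat.card F := by
    refine Nat.card_congr
      { toFun := fun w => ⟨((w : W) : G), (w : W).2, mem_centralizer_iff.2 fun g hg => ?_⟩
        invFun := fun w => ⟨⟨(w : G), w.2.1⟩, ?_⟩
        left_inv := fun w => rfl
        right_inv := fun w => rfl }
    · have h1 := w.2 (f ⟨g, hg⟩) ⟨_, rfl⟩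
      have h2 : g * ((w : W) : G) * g⁻¹ = (w : W) := congrArg Subtype.val h1
      calc g * ((w : W) : G) = g * (w : W) * g⁻¹ * g := by group
        _ = (w : W) * g := by rw [h2]
    · rintro _ ⟨u, rfl⟩
      refine Subtype.ext ?_
      show (u : G) * (w : G) * (u : G)⁻¹ = w
      rw [mem_centralizer_iff.1 w.2.2 (u : G) u.2, mul_inv_cancel_right]
  have hB'card : Nat.card B' * Nat.card K₀ = Nat.card B := by
    have hker : f.ker = K₀.subgroupOf B := by
      ext u
      rw [MonoidHom.mem_ker, mem_subgroupOf]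
      exact ⟨fun h => ⟨u.2, (normalizerMonoidHom_eq_one _).1 h⟩,
        fun h => (normalizerMonoidHom_eq_one _).2 h.2⟩
    rw [hB', ← Subgroup.index_ker, mul_comm,
      ← Nat.card_congr (subgroupOfEquivOfLe (inf_le_left : K₀ ≤ B)).toEquiv, ← hker,
      Subgroup.card_mul_index]
  have hineq : Nat.card W ≤ Nat.card B' * Nat.card (fixedOf B') := by
    rw [hfix]
    have hKW : W ≤ normalizer (K₀ : Set G) :=
      (Subgroup.le_centralizer_iff.1 inf_le_right).trans (centralizer_le_normalizer _)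
    have h1 := SolvBasic.card_sup_mul_card_inf hKW
    have h2 : Nat.card ↥(K₀ ⊓ W) ≤ Nat.card F :=
      card_le_of_le (le_inf inf_le_right fun z hz => mem_centralizer_iff.2 fun g hg =>
        setLike_mul_comm (s := B) hg hz.1.1)
    have h3 : Nat.card ↥(K₀ ⊔ W) ≤ Nat.card B := by
      refine hB.2.2 _ (sup_le (inf_le_left.trans hB.1) (inf_le_left.trans D.VP))
        (ZJ.sml_of_comm ?_ fun _ z hz => ?_)
      · intro u hu v hv
        have hKc : K₀ ⊔ W ≤ centralizer ((K₀ ⊔ W : Subgroup G) : Set G) :=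
          sup_le
            (Subgroup.le_centralizer_iff.2 (sup_le
              (fun z hz => mem_centralizer_iff.2 fun g hg => setLike_mul_comm (s := B) hg.1 hz.1)
              (Subgroup.le_centralizer_iff.1 inf_le_right)))
            (Subgroup.le_centralizer_iff.2 (sup_le inf_le_right
              (fun z hz => mem_centralizer_iff.2 fun g hg =>
                (congrArg Subtype.val (hVc ⟨g, hg.1⟩ ⟨z, hz.1⟩) :))))
        exact (mem_centralizer_iff.1 (hKc hu) v hv).symm
      · obtain ⟨u, hu, v, hv, rfl⟩ := (SolvBasic.mem_sup_iff_of_le_normalizer hKW).1 hz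
        have hc : Commute u v := (mem_centralizer_iff.1 hu.2 v hv).symm
        rw [hc.mul_pow, hB.2.1.2 trivial u hu.1, D.Vea.2 v hv.1, one_mul]
    have h4 : Nat.card K₀ * Nat.card W ≤ Nat.card K₀ * (Nat.card B' * Nat.card F) :=
      calc Nat.card K₀ * Nat.card W = Nat.card ↥(K₀ ⊔ W) * Nat.card ↥(K₀ ⊓ W) := h1.symm
        _ ≤ Nat.card B * Nat.card F := Nat.mul_le_mul h3 h2
        _ = Nat.card K₀ * (Nat.card B' * Nat.card F) := by rw [← hB'card]; ring
    exact Nat.le_of_mul_le_mul_left h4 Nat.card_pos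
  obtain ⟨b, e, hbB, T⟩ := exists_transvec D.yx hWexp hR'p hB'ea hB'R hB'f hB'1 hineq
  -- the contradiction
  refine T.nontrivial (hB'f b hbB (T.commute_of_coprime_action D.px D.py (A := A') ?_ ?_ ?_))
  · rintro _ ⟨a, ha, rfl⟩
    rw [← map_pow, show a ^ p = 1 from Subtype.ext (by simpa using D.Apow _ ha), map_one]
  · rintro _ ⟨a, ha, rfl⟩ _ ⟨g, hg, rfl⟩
    exact ⟨a * g * a⁻¹, (mem_normalizer_iff.1 (D.AR ha) (g : G)).1 hg, by simp⟩
  · intro m hm hmA
    obtain ⟨u, rfl⟩ := hbB
    have hlift : m ∈ (R.subgroupOf N ⊓ centralizer (A.subgroupOf N : Set N)).map φ := by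
      rw [CoprimeAct.map_inf_centralizer φ
        (fun a ha => mem_normalizer_iff.2 fun g => mem_normalizer_iff.1 (D.AR ha) (g : G))
        (by rw [Nat.card_congr (subgroupOfEquivOfLe hAW).toEquiv,
          Nat.card_congr (subgroupOfEquivOfLe hRW).toEquiv]; exact D.cop)
        (Or.inl (by
          haveI := D.Asolv
          exact Group.isSolvable_of_surjective (f := (subgroupOfEquivOfLe hAW).symm.toMonoidHom)
            (subgroupOfEquivOfLe hAW).symm.surjective))]
      exact ⟨hm, mem_centralizer_iff.2 fun a ha => hmA a ha⟩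
    obtain ⟨g, ⟨hgR, hgA⟩, rfl⟩ := hlift
    have hgc : (g : G) ∈ centralizer (A : Set G) := mem_centralizer_iff.2 fun a ha =>
      (congrArg Subtype.val (mem_centralizer_iff.1 hgA ⟨a, hAW ha⟩ ha) :)
    have h1 : φ ⁅g, inclusion hBN u⁆ = 1 := (normalizerMonoidHom_eq_one _).2
      (centralizer_le (fun w hw => (hw.1 : w ∈ V)) (D.fixed _ hgR hgc u (hB.1 u.2)))
    rw [map_commutatorElement] at h1
    exact (commutatorElement_eq_one_iff_mul_comm.1 h1).symm

end Cfsg.Agent.Signalizer.SFT
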