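import Cfsg.Agent.Lib.Signalizer.SFT.TwoFull
import Cfsg.Agent.Lib.Signalizer.SFT.LayerOffender

/-!
Two primes without mixed maxima: the common kernel of the maxima for one of the primes.
-/

set_option autoImplicit false
set_option linter.style.haveILetI false
set_option linter.unusedSectionVars false
set_option linter.unusedVariables false

open scoped Pointwise commutatorElement

universe u

namespace Cfsg.Agent.Signalizer.SFT

open Subgroup
open Cfsg (pCoreOf fittingOf)
open Cfsg.Agent.OddOrder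

variable {G : Type u} [Group G]

/-- The elements of order dividing `x` of the centre of `T`. -/
def omegaCentre (x : ℕ) (T : Subgroup G) : Subgroup G where
  carrier := {v | v ∈ T ⊓ centralizer (T : Set G) ∧ v ^ x = 1}
  one_mem' := ⟨one_mem _, one_pow x⟩
  mul_mem' := fun {u v} hu hv => ⟨mul_mem hu.1 hv.1, by
    have h : Commute u v := (mem_centralizer_iff.1 hu.1.2 v hv.1.1).symm
    rw [h.mul_pow, hu.2, hv.2, one_mul]⟩
  inv_mem' := fun {u} hu => ⟨inv_mem hu.1, by rw [inv_pow, hu.2, inv_one]⟩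

variable [Finite G]

theorem omegaCentre_le (x : ℕ) (T : Subgroup G) : omegaCentre x T ≤ T ⊓ centralizer (T : Set G) :=
  fun _ h => h.1

theorem normalizer_le_normalizer_omegaCentre (x : ℕ) (T : Subgroup G) :
    normalizer (T : Set G) ≤ normalizer (omegaCentre x T : Set G) := fun g hg =>
  mem_normalizer_fintype fun v hv => ⟨⟨(mem_normalizer_iff.1 hg v).1 hv.1.1,
    (mem_normalizer_iff.1 (FitOf.normalizer_le_normalizer_centralizer T hg) v).1 hv.1.2⟩,
    by rw [conj_pow, hv.2, mul_one, mul_inv_cancel]⟩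

theorem omegaCentre_ea (x : ℕ) (T : Subgroup G) :
    Cfsg.IsElementaryAbelian x (omegaCentre x T) :=
  ⟨.of_setLike_mul_comm fun u hu v hv => (mem_centralizer_iff.1 hu.1.2 v hv.1.1).symm, fun v hv => hv.2⟩

theorem omegaCentre_ne_bot {x : ℕ} [hx : Fact x.Prime] {T : Subgroup G} (hT : IsPGroup x T)
    (hT1 : T ≠ ⊥) : omegaCentre x T ≠ ⊥ := by
  have hZ1 := inf_centralizer_self_ne_bot hT le_rfl le_normalizer hT1
  obtain ⟨n, hn⟩ := (hT.to_le inf_le_left : IsPGroup x ↥(T ⊓ centralizer (T : Set G))).exists_card_eq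
  obtain ⟨⟨z, hz⟩, ho⟩ := exists_prime_orderOf_dvd_card'
    (G := ↥(T ⊓ centralizer (T : Set G))) x
    (hn ▸ dvd_pow_self x fun h => hZ1 (card_eq_one.1 (by rw [hn, h, pow_zero])))
  rw [orderOf_mk] at ho
  intro h
  have hz1 : z = 1 := (eq_bot_iff_forall _).1 h z ⟨hz, ho ▸ pow_orderOf_eq_one z⟩
  rw [hz1, orderOf_one] at ho
  exact hx.out.ne_one ho.symm

/-- Modulo `T`, a group is generated by its commutators with a coprime group and the elements
centralising that group modulo `T`. -/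
theorem le_commutator_sup_modCentralizer {x y : ℕ} [hx : Fact x.Prime] [hy : Fact y.Prime]
    (hyx : y ≠ x) {R T J : Subgroup G} (hTR : T ≤ R) (hRT : R ≤ normalizer (T : Set G))
    (hR : ∀ r ∈ R, ∃ k : ℕ, r ^ y ^ k ∈ T) (hJ : IsPGroup x J) (hJT : J ≤ normalizer (T : Set G))
    (hJR : J ≤ normalizer (R : Set G)) : R ≤ ⁅R, J⁆ ⊔ (R ⊓ modCentralizer T J) := by
  set N := normalizer (T : Set G) with hN
  haveI : (T.subgroupOf N).Normal := normal_in_normalizer
  set f := QuotientGroup.mk' (T.subgroupOf N) with hf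
  set S := ⁅R, J⁆ ⊔ (R ⊓ modCentralizer T J) with hS
  have hTS : T ≤ S := le_sup_of_le_right (le_inf hTR (le_modCentralizer le_normalizer
    (CoprimeAct.commutator_le_left hJT)))
  set R' := (R.subgroupOf N).map f with hR'
  set J' := (J.subgroupOf N).map f with hJ'
  have hR'p : IsPGroup y R' := by
    rintro ⟨_, r, hr, rfl⟩
    obtain ⟨k, hk⟩ := hR r hr
    refine ⟨k, Subtype.ext ?_⟩
    show f r ^ y ^ k = 1
    rw [← map_pow]
    exact (QuotientGroup.eq_one_iff _).2 (show ((r ^ y ^ k : N) : G) ∈ T by simpa using hk)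
  have hJ'p : IsPGroup x J' := (hJ.of_equiv (subgroupOfEquivOfLe hJT).symm).map f
  have hJ'R : J' ≤ normalizer (R' : Set _) := (map_mono (fun j hj => mem_normalizer_iff.2 fun w =>
    mem_normalizer_iff.1 (hJR hj) (w : G) : J.subgroupOf N ≤ normalizer (R.subgroupOf N : Set N))).trans
      (le_normalizer_map f)
  have hgen := CoprimeAct.commutator_sup_centralizer hJ'R (coprime_of_isPGroup hyx.symm hJ'p hR'p)
    (Or.inl (by haveI := hJ'p.isNilpotent; infer_instance))
  have hle : R' ≤ (S.subgroupOf N).map f := by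
    rw [← hgen]
    refine sup_le ?_ ?_
    · rw [hR', hJ', ← map_commutator]
      refine map_mono fun z hz => show (z : G) ∈ S from mem_sup_left ?_
      have h1 := mem_map_of_mem N.subtype hz
      rw [map_commutator, subgroupOf_map_subtype, subgroupOf_map_subtype, inf_eq_left.2 hRT,
        inf_eq_left.2 hJT] at h1
      exact h1
    · rintro _ ⟨⟨c, hc, rfl⟩, hcJ⟩
      refine mem_map_of_mem f (show (c : G) ∈ S from mem_sup_right ⟨hc, c.2, fun j hj => ?_⟩)
      have h1 : f ⁅c, (⟨j, hJT hj⟩ : N)⁆ = 1 := by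
        rw [map_commutatorElement]
        exact commutatorElement_eq_one_iff_mul_comm.2
          (mem_centralizer_iff.1 hcJ (f ⟨j, hJT hj⟩) (mem_map_of_mem f hj)).symm
      exact (QuotientGroup.eq_one_iff (N := T.subgroupOf N) _).1 h1
  intro r hr
  obtain ⟨s, hs, hse⟩ := hle (mem_map_of_mem f (show (⟨r, hRT hr⟩ : N) ∈ R.subgroupOf N from hr))
  have h1 : ((s⁻¹ * ⟨r, hRT hr⟩ : N) : G) ∈ T := (QuotientGroup.eq (s := T.subgroupOf N)).1 hse
  simpa using mul_mem (show (s : G) ∈ S from hs) (hTS h1)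

variable {p : ℕ} [hp : Fact p.Prime] {A : Subgroup G} {θ : G → Subgroup G}

/-- The intersection of the `x`-cores of the maxima containing the greatest `x`-member. -/
def xKernel (p : ℕ) (A : Subgroup G) (θ : G → Subgroup G) (x : ℕ) : Subgroup G :=
  qOf p A θ x ⊓ ⨅ L : {L : Subgroup G // IsMax p A θ L ∧ qOf p A θ x ≤ L}, pCoreOf x L.1

/-- Two primes, no maximum with both, and a plane all of whose points avoid the second. -/
structure Colour (p : ℕ) (A : Subgroup G) (θ : G → Subgroup G) (x y : ℕ) : Prop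
    extends Min2 p A θ where
  xmem : x ∈ primes A θ
  xy : x ≠ y
  all : ∀ t ∈ primes A θ, t = x ∨ t = y
  nomix : ∀ M, IsMax p A θ M → ¬ (x ∈ fitPrimes M ∧ y ∈ fitPrimes M)
  plane : ∃ E, IsPlane p A E ∧
    ∀ e ∈ E, e ≠ 1 → ∀ H, IsMax p A θ H → θ e ≤ H → y ∉ fitPrimes H

namespace Min2

variable (M₀ : Min2 p A θ)
include M₀

theorem exists_fit {H : Subgroup G} (hH : IsMax p A θ H) : ∃ t, t ∈ fitPrimes H :=
  exists_fitPrime hH.mem.1 fun h => M₀.not_complete ⟨H, hH.mem, fun a ha ha1 =>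
    (hH.max _ (M₀.theta_mem ha ha1) (h.le.trans bot_le)).le⟩

/-- Without the other prime the Fitting subgroup is the core. -/
theorem fittingOf_le_core {x y : ℕ} (hall : ∀ t ∈ primes A θ, t = x ∨ t = y) {H : Subgroup G}
    (hH : H ∈ Cfsg.signalizerFamily p A θ) (hy : y ∉ fitPrimes H) : fittingOf H ≤ pCoreOf x H :=
  FitOf.fittingOf_le_iff.2 fun s hs => by
    by_cases hsH : s ∈ fitPrimes H
    · rcases M₀.fit_cases hall hH hsH with rfl | rfl
      · exact le_rfl
      · exact absurd hsH hy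
    · rw [pCoreOf_eq_bot hs hsH]
      exact bot_le

/-- An `x`-subgroup centralising the core of an `x`-maximum lies in it. -/
theorem le_core_of_centralizes {x y : ℕ} (hall : ∀ t ∈ primes A θ, t = x ∨ t = y) (hx : x.Prime)
    {H V : Subgroup G} (hH : H ∈ Cfsg.signalizerFamily p A θ) (hy : y ∉ fitPrimes H) (hV : V ≤ H)
    (hVp : IsPGroup x V) (hVc : V ≤ centralizer (pCoreOf x H : Set G)) : V ≤ pCoreOf x H :=
  M₀.mem_pCoreOf_of_centralizes hH hV hx hVp fun s hs => by
    by_cases hsH : s ∈ fitPrimes H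
    · rcases M₀.fit_cases hall hH hsH with rfl | rfl
      · exact hVc
      · exact absurd hsH hy
    · rw [pCoreOf_eq_bot hs hsH]
      exact le_centralizer_bot

theorem centre_props (x : ℕ) :
    qOf p A θ x ⊓ centralizer (qOf p A θ x : Set G) ∈ Cfsg.signalizerFamily p A θ ∧
      Cfsg.signalizerInf A θ ≤
        normalizer ((qOf p A θ x ⊓ centralizer (qOf p A θ x : Set G) : Subgroup G) : Set G) :=
  ⟨M₀.inf_centralizer_mem (M₀.qOf_props x).1 (family_normalizer (M₀.qOf_props x).1),
    le_normalizer_inf (M₀.qOf_props x).2.1 (le_normalizer_centralizer (M₀.qOf_props x).2.1)⟩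

end Min2

namespace Colour

variable {x y : ℕ} (C₀ : Colour p A θ x y)
include C₀

theorem x_prime : x.Prime := C₀.xmem.1

theorem fit {H : Subgroup G} (hH : IsMax p A θ H) (h : y ∉ fitPrimes H) : x ∈ fitPrimes H := by
  obtain ⟨t, ht⟩ := C₀.exists_fit hH
  rcases C₀.fit_cases C₀.all hH.mem ht with rfl | rfl
  · exact ht
  · exact absurd ht h

theorem not_y {H : Subgroup G} (hH : IsMax p A θ H) (h : x ∈ fitPrimes H) : y ∉ fitPrimes H :=
  fun hy => C₀.nomix H hH ⟨h, hy⟩

/-- A part of all cores over the plane is in no maximum for the other prime. -/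
theorem eq_bot_of_le {V X : Subgroup G} (hX : IsMax p A θ X) (hy : y ∈ fitPrimes X) (hVX : V ≤ X)
    (hV : ∀ H, IsMax p A θ H → x ∈ fitPrimes H → V ≤ pCoreOf x H) : V = ⊥ := by
  obtain ⟨E, hE, hEx⟩ := C₀.plane
  haveI := Fact.mk C₀.x_prime
  haveI := Fact.mk hy.1
  have hxX : x ∉ fitPrimes X := fun h => C₀.nomix X hX ⟨h, hy⟩
  have hTm := C₀.pCoreOf_mem hX.mem y
  have hc : pCoreOf y X ≤ centralizer (V : Set G) :=
    C₀.le_of_points hE (hE.1.trans (family_normalizer hTm)) hTm.2.1 fun e he he1 => by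
      obtain ⟨H, hH, heH⟩ := C₀.exists_maxOf (hE.1 he) he1
      exact le_centralizer_of_normalizes (W := pCoreOf y X) inf_le_left
        (hV H hH (C₀.fit hH (hEx e he he1 H hH heH)))
        (hVX.trans (FitOf.le_normalizer_pCoreOf y X))
        (((hTm.2.2.2 e (hE.1 he) he1).trans heH).trans (FitOf.le_normalizer_pCoreOf x H))
        (coprime_of_ne hy.1 C₀.x_prime (Ne.symm C₀.xy) (FitOf.isPGroup_pCoreOf y X)
          (FitOf.isPGroup_pCoreOf x H))
  obtain ⟨e, he, he1⟩ := C₀.exists_ne_one hE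
  obtain ⟨H, hH, heH⟩ := C₀.exists_maxOf (hE.1 he) he1
  have hVp : IsPGroup x V :=
    (FitOf.isPGroup_pCoreOf x H).to_le (hV H hH (C₀.fit hH (hEx e he he1 H hH heH)))
  refine le_bot_iff.1 ?_
  rw [← pCoreOf_eq_bot C₀.x_prime hxX]
  refine C₀.mem_pCoreOf_of_centralizes hX.mem hVX C₀.x_prime hVp fun s hs => ?_
  by_cases hsX : s ∈ fitPrimes X
  · rcases C₀.fit_cases C₀.all hX.mem hsX with rfl | rfl
    · exact absurd hsX hxX
    · exact Subgroup.le_centralizer_iff.1 hc
  · rw [pCoreOf_eq_bot hs hsX]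
    exact le_centralizer_bot

theorem centre_le_core {H : Subgroup G} (hH : IsMax p A θ H) (hx : x ∈ fitPrimes H) :
    qOf p A θ x ⊓ centralizer (qOf p A θ x : Set G) ≤ pCoreOf x H := by
  have hc : qOf p A θ x ⊓ centralizer (qOf p A θ x : Set G) ≤
      centralizer (pCoreOf x H : Set G) :=
    inf_le_right.trans (centralizer_le (C₀.max_core_le_qOf hx.1 hH))
  exact C₀.le_core_of_centralizes C₀.all hx.1 hH.mem (C₀.not_y hH hx)
    (C₀.le_of_centralizes_core hH hx (C₀.centre_props x).1 hc)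
    ((C₀.qOf_isPGroup hx.1).to_le inf_le_left) hc

theorem qOf_ne_bot : qOf p A θ x ≠ ⊥ := by
  obtain ⟨E, hE, hEx⟩ := C₀.plane
  obtain ⟨e, he, he1⟩ := C₀.exists_ne_one hE
  obtain ⟨H, hH, heH⟩ := C₀.exists_maxOf (hE.1 he) he1
  exact fun h => (C₀.fit hH (hEx e he he1 H hH heH)).2
    (le_bot_iff.1 ((C₀.max_core_le_qOf C₀.x_prime hH).trans h.le))

/-- A maximum with a part of the centre of `Q_x` is an `x`-maximum. -/
theorem fit_of_centre {X V : Subgroup G} (hX : IsMax p A θ X) (hVX : V ≤ X) (hV1 : V ≠ ⊥)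
    (hV : V ≤ qOf p A θ x ⊓ centralizer (qOf p A θ x : Set G)) : x ∈ fitPrimes X :=
  C₀.fit hX fun hy => hV1 (C₀.eq_bot_of_le hX hy hVX fun H hH hx => hV.trans (C₀.centre_le_core hH hx))

theorem fit_of_qOf {X : Subgroup G} (hX : IsMax p A θ X) (h : qOf p A θ x ≤ X) : x ∈ fitPrimes X :=
  haveI := Fact.mk C₀.x_prime
  C₀.fit_of_centre hX (inf_le_left.trans h)
    (inf_centralizer_self_ne_bot (C₀.qOf_isPGroup C₀.x_prime) le_rfl le_normalizer C₀.qOf_ne_bot)
    le_rfl

theorem xKernel_props : xKernel p A θ x ∈ Cfsg.signalizerFamily p A θ ∧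
    Cfsg.signalizerInf A θ ≤ normalizer (xKernel p A θ x : Set G) ∧
      qOf p A θ x ≤ normalizer (xKernel p A θ x : Set G) ∧ xKernel p A θ x ≠ ⊥ := by
  haveI := Fact.mk C₀.x_prime
  have hQ := C₀.qOf_props x
  refine ⟨family_mono hQ.1 inf_le_left (le_normalizer_inf (family_normalizer hQ.1)
      (le_normalizer_iInf fun L =>
        (family_normalizer L.2.1.mem).trans (normalizer_le_normalizer_pCoreOf x _))),
    le_normalizer_inf hQ.2.1
      (le_normalizer_iInf fun L => L.2.1.core.trans (FitOf.le_normalizer_pCoreOf x _)),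
    Signalizer.le_normalizer_inf le_normalizer
      (le_normalizer_iInf fun L => L.2.2.trans (FitOf.le_normalizer_pCoreOf x _)), fun h => ?_⟩
  refine inf_centralizer_self_ne_bot (C₀.qOf_isPGroup C₀.x_prime) le_rfl le_normalizer C₀.qOf_ne_bot
    (le_bot_iff.1 (le_trans ?_ h.le))
  exact le_inf inf_le_left (le_iInf fun L => C₀.centre_le_core L.2.1 (C₀.fit_of_qOf L.2.1 L.2.2))

theorem layer_le_core {H R : Subgroup G} (hH : IsMax p A θ H) {z : ℕ} (hz : z.Prime) (hzx : z ≠ x)
    (hzy : z ∉ primes A θ) (hR : IsLayer x z H R) : R ≤ pCoreOf x H := by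
  haveI := Fact.mk C₀.x_prime
  refine hR.pgroup_le hz hzx ?_ le_rfl
  rw [← isSigma_singleton_iff C₀.x_prime]
  intro q hq hd
  rcases hR.dvd hz hq hd with h | h
  · exact h
  · exact absurd (h ▸ C₀.mem_primes (C₀.layer_mem hH.mem hR) hq hd) hzy

/-- The kernel lies in the core of every `x`-maximum. -/
theorem xKernel_le_core : ∀ {H : Subgroup G}, IsMax p A θ H → x ∈ fitPrimes H →
    xKernel p A θ x ≤ pCoreOf x H := by
  haveI := Fact.mk C₀.x_prime
  set Q := qOf p A θ x with hQdef
  have hQm := C₀.qOf_props x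
  have hQp : IsPGroup x Q := C₀.qOf_isPGroup C₀.x_prime
  set J₀ := xKernel p A θ x with hJ₀
  suffices key : ∀ (n : ℕ) (H : Subgroup G), IsMax p A θ H → x ∈ fitPrimes H →
      Nat.card G - Nat.card ↥(Q ⊓ H) = n → J₀ ≤ pCoreOf x H from
    fun {H} hH hx => key _ H hH hx rfl
  intro n
  induction n using Nat.strong_induction_on with
  | _ n ih =>
  intro H hH hx hn
  by_cases hQH : Q ≤ H
  · exact inf_le_right.trans
      (iInf_le (fun L : {L : Subgroup G // IsMax p A θ L ∧ Q ≤ L} => pCoreOf x L.1) ⟨H, hH, hQH⟩)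
  set T := pCoreOf x H with hT
  have hTQ : T ≤ Q := C₀.max_core_le_qOf C₀.x_prime hH
  have hTA : A ≤ normalizer (T : Set G) :=
    (family_normalizer hH.mem).trans (normalizer_le_normalizer_pCoreOf x H)
  have h1 : J₀ ⊓ H ≤ T := by
    refine le_pCoreOf_of_layers hH.mem.1 inf_le_right (hQp.to_le (inf_le_left.trans inf_le_left))
      fun z R hz hzx hR => ?_
    by_cases hzp : z ∈ primes A θ
    swap
    · exact (commutator_mono (C₀.layer_le_core hH hz hzx hzp hR) le_rfl).trans
        (CoprimeAct.commutator_le_left (inf_le_right.trans (FitOf.le_normalizer_pCoreOf x H)))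
    obtain rfl : z = y := (C₀.all z hzp).resolve_left hzx
    haveI := Fact.mk hz
    have hRm := C₀.layer_mem hH.mem hR
    set P := Q ⊓ H with hP
    have hTP : T ≤ P := le_inf hTQ (FitOf.pCoreOf_le x H)
    have hPA : A ≤ normalizer (P : Set G) :=
      le_normalizer_inf (family_normalizer hQm.1) (family_normalizer hH.mem)
    have hPC : Cfsg.signalizerInf A θ ≤ normalizer (P : Set G) :=
      le_normalizer_inf hQm.2.1 (hH.core.trans le_normalizer)
    have hPm : P ∈ Cfsg.signalizerFamily p A θ := family_mono hQm.1 inf_le_left hPA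
    have hPR : P ≤ normalizer (R : Set G) := inf_le_right.trans (le_normalizer.trans hR.inv)
    set J := ZJ.jSub x True P with hJ
    have hJP : J ≤ P := ZJ.jSub_le P
    have hJA : A ≤ normalizer (J : Set G) := hPA.trans (ZJ.normalizer_le_normalizer_jSub P)
    set V := omegaCentre x T with hV
    set U := omegaCentre x Q with hU
    have hU1 : U ≠ ⊥ := omegaCentre_ne_bot hQp C₀.qOf_ne_bot
    have hUT : U ≤ T := (omegaCentre_le x Q).trans (C₀.centre_le_core hH hx)
    have hUV : U ≤ V := fun u hu =>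
      ⟨⟨hUT hu, centralizer_le hTQ ((omegaCentre_le x Q hu).2)⟩, hu.2⟩
    have hTV : T ≤ centralizer (V : Set G) :=
      Subgroup.le_centralizer_iff.1 ((omegaCentre_le x T).trans inf_le_right)
    have hHV : H ≤ normalizer (V : Set G) :=
      (FitOf.le_normalizer_pCoreOf x H).trans (normalizer_le_normalizer_omegaCentre x T)
    have hRP : R ⊓ P ≤ T := hR.pgroup_le hz hzx (hQp.to_le (inf_le_right.trans inf_le_left)) inf_le_left
    have D : OffenderData p x z A P V R :=
      { yx := hzx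
        px := (C₀.prime_ne_p C₀.xmem).symm
        py := (C₀.prime_ne_p hzp).symm
        Vea := omegaCentre_ea x T
        VP := (omegaCentre_le x T).trans (inf_le_left.trans hTP)
        Pp := hQp.to_le inf_le_left
        PV := inf_le_right.trans hHV
        RV := hR.le.trans hHV
        AV := hTA.trans (normalizer_le_normalizer_omegaCentre x T)
        AP := hPA
        AR := family_normalizer hRm
        PR := hPR
        Rpow := fun r hr => (hR.pow r hr).imp fun k hk => hTV hk
        Apow := C₀.ea.2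
        Asolv := Group.isSolvable_of_comm fun a b => Subtype.ext (C₀.comm a.2 b.2)
        cop := C₀.coprime hRm le_rfl
        fixed := fun r hr hrA b hb => by
          have hrC := C₀.mem_core_of_fixed hRm ⟨hr, hrA⟩
          refine hTV (hRP ⟨?_, ?_⟩)
          · rw [show ⁅r, b⁆ = r * (b * r⁻¹ * b⁻¹) by simp only [commutatorElement_def]; group]
            exact R.mul_mem hr ((mem_normalizer_iff.1 (hPR hb) _).1 (R.inv_mem hr))
          · rw [show ⁅r, b⁆ = (r * b * r⁻¹) * b⁻¹ by simp only [commutatorElement_def]]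
            exact P.mul_mem ((mem_normalizer_iff.1 (hPC hrC) b).1 hb) (P.inv_mem hb) }
    set X₁ := ⁅R, J⁆ with hX₁
    have hX₁R : X₁ ≤ R := CoprimeAct.commutator_le_left (hJP.trans hPR)
    have hX₁m : X₁ ∈ Cfsg.signalizerFamily p A θ :=
      family_mono hRm hX₁R (le_normalizer_commutator (family_normalizer hRm) hJA)
    have hX₁U : X₁ ≤ centralizer (U : Set G) := (jSub_centralizes D).trans (centralizer_le hUV)
    set X₂ := R ⊓ modCentralizer T J with hX₂
    have hX₂m : X₂ ∈ Cfsg.signalizerFamily p A θ := family_mono hRm inf_le_left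
      (le_normalizer_inf (family_normalizer hRm) (le_normalizer_modCentralizer hTA hJA))
    have hX₂J : X₂ ≤ normalizer (J : Set G) := by
      intro r hr
      have hr' : r ∈ normalizer ((T ⊔ J : Subgroup G) : Set G) := by
        refine mem_normalizer_fintype fun u hu => ?_
        suffices hle : T ⊔ J ≤ (T ⊔ J).comap (MulAut.conj r).toMonoidHom from hle hu
        refine sup_le (fun t ht => mem_sup_left ((mem_normalizer_iff.1 hr.2.1 t).1 ht)) fun j hj => ?_
        show r * j * r⁻¹ ∈ T ⊔ J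
        rw [show r * j * r⁻¹ = ⁅r, j⁆ * j by simp only [commutatorElement_def]; group]
        exact mul_mem (mem_sup_left (hr.2.2 j hj)) (mem_sup_right hj)
      have hTJP : T ⊔ J ≤ P := sup_le hTP hJP
      have heq : ZJ.jSub x True (T ⊔ J) = J := by
        refine congrArg sSup (Set.ext fun B => ⟨fun hB => ?_, fun hB => ?_⟩)
        · obtain ⟨B₀, hB₀⟩ := ZJ.exists_isMaxIn x True P
          exact ⟨hB.1.trans hTJP, hB.2.1, fun B' hB'P hB' => (hB₀.2.2 B' hB'P hB').trans
            (hB.2.2 B₀ ((ZJ.le_jSub hB₀).trans le_sup_right) hB₀.2.1)⟩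
        · exact ⟨(ZJ.le_jSub hB).trans le_sup_right, hB.2.1,
            fun B' hB' hB's => hB.2.2 B' (hB'.trans hTJP) hB's⟩
      exact heq ▸ ZJ.normalizer_le_normalizer_jSub (T ⊔ J) hr'
    refine (commutator_mono ((le_commutator_sup_modCentralizer hzx hR.ge hR.normalizes hR.pow
      (hQp.to_le (hJP.trans inf_le_left)) (hJP.trans (inf_le_right.trans (FitOf.le_normalizer_pCoreOf x H)))
      (hJP.trans hPR)).trans (sup_le ?_ ?_ :
        X₁ ⊔ X₂ ≤ modCentralizer T (J₀ ⊓ H))) le_rfl).trans (commutator_le_of_modCentralizer le_rfl)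
    · -- a piece in a top
      have hUC : Cfsg.signalizerInf A θ ≤ normalizer (U : Set G) :=
        hQm.2.1.trans (normalizer_le_normalizer_omegaCentre x Q)
      have hUm : U ∈ Cfsg.signalizerFamily p A θ :=
        family_mono hQm.1 ((omegaCentre_le x Q).trans inf_le_left)
          ((family_normalizer hQm.1).trans (normalizer_le_normalizer_omegaCentre x Q))
      obtain ⟨W, hW, -, hWmax⟩ := C₀.exists_greatest hUm hU1
      obtain ⟨L, hL, hWL⟩ := C₀.exists_max hW ((hWmax _ C₀.core_mem hUC).trans le_normalizer)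
      have hQL : Q ≤ L := (hWmax Q hQm.1 (le_normalizer.trans
        (normalizer_le_normalizer_omegaCentre x Q))).trans hWL
      have hX₁L : X₁ ≤ L := (hWmax X₁ hX₁m (hX₁U.trans (centralizer_le_normalizer _))).trans hWL
      refine le_modCentralizer (hX₁R.trans hR.normalizes) ((commutator_le_inf hX₁R
        ((inf_le_left.trans inf_le_right).trans
          (iInf_le (fun L : {L : Subgroup G // IsMax p A θ L ∧ Q ≤ L} => pCoreOf x L.1) ⟨L, hL, hQL⟩))
        (inf_le_right.trans (le_normalizer.trans hR.inv))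
        (hX₁L.trans (FitOf.le_normalizer_pCoreOf x L))).trans ?_)
      exact hR.pgroup_le hz hzx ((FitOf.isPGroup_pCoreOf x L).to_le inf_le_right) inf_le_left
    · -- a piece normalising `J`
      have hJm : J ∈ Cfsg.signalizerFamily p A θ := family_mono hPm hJP hJA
      have hJ1 : J ≠ ⊥ := by
        intro h
        obtain ⟨B₀, hB₀⟩ := ZJ.exists_isMaxIn x True P
        have h2 := hB₀.2.2 U (hUT.trans hTP)
          ⟨(omegaCentre_ea x Q).1, fun _ => (omegaCentre_ea x Q).2⟩
        have h3 : B₀ = ⊥ := le_bot_iff.1 ((ZJ.le_jSub hB₀).trans h.le)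
        rw [h3, card_bot] at h2
        exact hU1 (card_eq_one.1 (le_antisymm h2 Nat.card_pos))
      obtain ⟨W, hW, -, hWmax⟩ := C₀.exists_greatest hJm hJ1
      obtain ⟨L, hL, hWL⟩ := C₀.exists_max hW
        ((hWmax _ C₀.core_mem (hPC.trans (ZJ.normalizer_le_normalizer_jSub P))).trans le_normalizer)
      have hX₂L : X₂ ≤ L := (hWmax X₂ hX₂m hX₂J).trans hWL
      have hY : normalizer (P : Set G) ⊓ Q ≤ L := (hWmax _ (family_mono hQm.1 inf_le_right
        (le_normalizer_inf (hPA.trans le_normalizer) (family_normalizer hQm.1)))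
        (inf_le_left.trans (ZJ.normalizer_le_normalizer_jSub P))).trans hWL
      have hlt : Nat.card P < Nat.card ↥(Q ⊓ L) := by
        have hle : P ≤ Q ⊓ L :=
          le_inf inf_le_left ((le_inf le_normalizer inf_le_left).trans hY)
        refine lt_of_le_of_ne (card_le_of_le hle) fun e => normalizer_inf_not_le hQp inf_le_left
          (fun h => hQH (h.ge.trans inf_le_right)) ?_
        exact (le_inf inf_le_right hY).trans (eq_of_le_of_card_ge hle e.ge).ge
      have hxL : x ∈ fitPrimes L := C₀.fit_of_centre hL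
        ((hUT.trans hTP).trans ((le_inf le_normalizer inf_le_left).trans hY)) hU1 (omegaCentre_le x Q)
      have hJL : J₀ ≤ pCoreOf x L := ih _ (by
        have := card_le_card_group (H := Q ⊓ L)
        omega) L hL hxL rfl
      refine le_modCentralizer (inf_le_left.trans hR.normalizes) ((commutator_le_inf inf_le_left
        (inf_le_left.trans hJL) (inf_le_right.trans (le_normalizer.trans hR.inv))
        (hX₂L.trans (FitOf.le_normalizer_pCoreOf x L))).trans ?_)
      exact hR.pgroup_le hz hzx ((FitOf.isPGroup_pCoreOf x L).to_le inf_le_right) inf_le_left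
  by_contra hno
  have hn : T ≤ normalizer (J₀ : Set G) := hTQ.trans C₀.xKernel_props.2.2.1
  have hKQ : J₀ ⊔ T ≤ Q := sup_le inf_le_left hTQ
  have hne : T ≠ J₀ ⊔ T := fun e => hno (e.symm ▸ le_sup_left)
  refine normalizer_inf_not_le (hQp.to_le hKQ) le_sup_right hne ?_
  have hYm : normalizer (T : Set G) ⊓ (J₀ ⊔ T) ∈ Cfsg.signalizerFamily p A θ :=
    family_mono hQm.1 (inf_le_right.trans hKQ) (le_normalizer_inf (hTA.trans le_normalizer)
      (le_normalizer_sup (family_normalizer C₀.xKernel_props.1) hTA))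
  have hYH := C₀.le_of_normalizes_core hH hx hYm inf_le_left
  intro w hw
  obtain ⟨j, hj, t, ht, rfl⟩ := (SolvBasic.mem_sup_iff_of_le_normalizer hn).1 hw.2
  refine mul_mem (h1 ⟨hj, ?_⟩) ht
  simpa using mul_mem (hYH hw) (inv_mem (FitOf.pCoreOf_le x H ht))

/-- A point with a maximum for the other prime fixes nothing in the kernel. -/
theorem xKernel_inf_eq_bot {b : G} (hb : b ∈ A) (hb1 : b ≠ 1) {X : Subgroup G}
    (hX : IsMax p A θ X) (hbX : θ b ≤ X) (hy : y ∈ fitPrimes X) :
    xKernel p A θ x ⊓ centralizer ({b} : Set G) = ⊥ :=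
  C₀.eq_bot_of_le hX hy ((C₀.xKernel_props.1.2.2.2 b hb hb1).trans hbX)
    fun H hH hx => inf_le_left.trans (C₀.xKernel_le_core hH hx)

/-- A subgroup of `Q_x` centralising the layers of every top lies in the kernel. -/
theorem le_xKernel {P : Subgroup G} (hPQ : P ≤ qOf p A θ x)
    (h : ∀ L R : Subgroup G, IsMax p A θ L → qOf p A θ x ≤ L → y.Prime → y ∈ primes A θ →
      IsLayer x y L R → ⁅R, P⁆ ≤ pCoreOf x L) : P ≤ xKernel p A θ x := by
  haveI := Fact.mk C₀.x_prime
  refine le_inf hPQ (le_iInf fun ⟨L, hL, hQL⟩ => ?_)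
  refine le_pCoreOf_of_layers hL.mem.1 (hPQ.trans hQL)
    ((C₀.qOf_isPGroup C₀.x_prime).to_le hPQ) fun z R hz hzx hR => ?_
  by_cases hzp : z ∈ primes A θ
  · obtain rfl : z = y := (C₀.all z hzp).resolve_left hzx
    exact h L R hL hQL hz hzp hR
  · exact (commutator_mono (C₀.layer_le_core hL hz hzx hzp hR) le_rfl).trans
      (CoprimeAct.commutator_le_left ((hPQ.trans hQL).trans (FitOf.le_normalizer_pCoreOf x L)))

/-- A plane avoiding the other prime normalises the kernel. -/
theorem plane_normalizes {E : Subgroup G} (hE : IsPlane p A E)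
    (hEx : ∀ e ∈ E, e ≠ 1 → ∀ H, IsMax p A θ H → θ e ≤ H → y ∉ fitPrimes H) :
    Cfsg.signalizerInf E θ ≤ normalizer (xKernel p A θ x : Set G) := by
  haveI := Fact.mk C₀.x_prime
  let I := {i : G × Subgroup G // i.1 ∈ E ∧ i.1 ≠ 1 ∧ IsMax p A θ i.2 ∧ θ i.1 ≤ i.2}
  obtain ⟨e₀, he₀, he₀1⟩ := C₀.exists_ne_one hE
  obtain ⟨H₀, hH₀, he₀H⟩ := C₀.exists_maxOf (hE.1 he₀) he₀1
  set P := ⨅ i : I, pCoreOf x i.1.2 with hP
  have hPQ : P ≤ qOf p A θ x :=
    (iInf_le (fun i : I => pCoreOf x i.1.2) ⟨(e₀, H₀), he₀, he₀1, hH₀, he₀H⟩).trans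
      (C₀.max_core_le_qOf C₀.x_prime hH₀)
  have hθE : Cfsg.signalizerInf E θ ≤ normalizer (P : Set G) := le_normalizer_iInf fun i =>
    ((C₀.mem_inf hE i.2.1 i.2.2.1).trans i.2.2.2.2).trans (FitOf.le_normalizer_pCoreOf x _)
  suffices heq : P = xKernel p A θ x by rw [← heq]; exact hθE
  refine le_antisymm (C₀.le_xKernel hPQ fun L R hL hQL hy hyp hR => ?_)
    (le_iInf fun i => C₀.xKernel_le_core i.2.2.2.1
      (C₀.fit i.2.2.2.1 (hEx _ i.2.1 i.2.2.1 _ i.2.2.2.1 i.2.2.2.2)))
  have hRm := C₀.layer_mem hL.mem hR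
  refine commutator_le_of_modCentralizer (C₀.le_of_points hE
    (hE.1.trans (family_normalizer hRm)) hRm.2.1 fun e he he1 => ?_)
  obtain ⟨H, hH, heH⟩ := C₀.exists_maxOf (hE.1 he) he1
  refine le_modCentralizer (inf_le_left.trans hR.normalizes) ((commutator_le_inf inf_le_left
    (iInf_le (fun i : I => pCoreOf x i.1.2) ⟨(e, H), he, he1, hH, heH⟩)
    ((hPQ.trans hQL).trans (le_normalizer.trans hR.inv))
    (((hRm.2.2.2 e (hE.1 he) he1).trans heH).trans (FitOf.le_normalizer_pCoreOf x H))).trans ?_)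
  exact hR.pgroup_le hy (Ne.symm C₀.xy) ((FitOf.isPGroup_pCoreOf x H).to_le inf_le_right) inf_le_left

/-- If every plane missing one point avoids the other prime, there is no counterexample. -/
theorem false_of_collinear {d : G} (hd : d ∈ A) (hd1 : d ≠ 1)
    (h : ∀ E, IsPlane p A E → d ∉ E →
      ∀ e ∈ E, e ≠ 1 → ∀ H, IsMax p A θ H → θ e ≤ H → y ∉ fitPrimes H) : False := by
  obtain ⟨hJm, -, -, hJ1⟩ := C₀.xKernel_props
  obtain ⟨W, hW, -, hWmax⟩ := C₀.exists_greatest hJm hJ1
  exact C₀.false_of_planes hd hd1 hW fun E hE hdE =>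
    hWmax _ (C₀.inf_mem hE) (C₀.plane_normalizes hE (h E hE hdE))

end Colour

end Cfsg.Agent.Signalizer.SFT
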