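import Cfsg.Agent.Lib.Signalizer.SFT.Basic
import Mathlib.GroupTheory.Solvable

/-!
Commutators with an element of `A` are generated by the commutators of the plane centralisers, and
the completeness criterion derived from this.
-/

set_option autoImplicit false
set_option linter.style.haveILetI false
set_option linter.unusedSectionVars false
set_option linter.unusedVariables false

open scoped Pointwise commutatorElement

universe u

namespace Cfsg.Agent.Signalizer.SFT

open Subgroup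

variable {G : Type u} [Group G] [Finite G]

theorem inv_mem_of_mul_mem {S : Set G} (hone : (1 : G) ∈ S) (hmul : ∀ a ∈ S, ∀ b ∈ S, a * b ∈ S)
    {a : G} (ha : a ∈ S) : a⁻¹ ∈ S := by
  have hpow : ∀ n : ℕ, a ^ n ∈ S := fun n => by
    induction n with
    | zero => simpa using hone
    | succ n ih => rw [pow_succ]; exact hmul _ ih _ ha
  rw [inv_eq_of_mul_eq_one_right (a := a) (b := a ^ (orderOf a - 1))
    (by rw [← pow_succ', Nat.sub_add_cancel (orderOf_pos a), pow_orderOf_eq_one])]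
  exact hpow _

variable {p : ℕ} [hp : Fact p.Prime] {A : Subgroup G} {θ : G → Subgroup G}

namespace Setup

variable (S : Setup p A θ)
include S

/-- `[X, d]` lies in the subgroup generated by the `[C_X(E), d]` over the planes `E`. -/
theorem commutator_le_of_planes {X : Subgroup G} (hX : X ∈ Cfsg.signalizerFamily p A θ) {d : G}
    (hd : d ∈ A) {K : Subgroup G}
    (hK : ∀ E, IsPlane p A E → ⁅X ⊓ centralizer (E : Set G), zpowers d⁆ ≤ K) :
    ⁅X, zpowers d⁆ ≤ K := by
  classical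
  set Γ := ⨆ E : {E : Subgroup G // IsPlane p A E},
    ⁅X ⊓ centralizer (E.1 : Set G), zpowers d⁆ with hΓ
  refine le_trans ?_ (iSup_le fun E => hK E.1 E.2 : Γ ≤ K)
  have hXA := family_normalizer hX
  haveI := hX.1
  let D : ℕ → Subgroup G := fun j => (derivedSeries X j).map X.subtype
  have hD0 : D 0 = X := by simp [D, ← MonoidHom.range_eq_map, X.range_subtype]
  have hDs : ∀ j, D (j + 1) = ⁅D j, D j⁆ := fun j => by
    simp only [D, derivedSeries_succ, map_commutator]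
  have hDle : ∀ j, D j ≤ X := fun j => map_subtype_le _
  have hDA : ∀ j, A ≤ normalizer (D j : Set G) := by
    intro j
    induction j with
    | zero => rwa [hD0]
    | succ j ih => rw [hDs]; exact le_normalizer_commutator ih ih
  have hDX : ∀ j, X ≤ normalizer (D j : Set G) := by
    intro j
    induction j with
    | zero => rw [hD0]; exact le_normalizer
    | succ j ih => rw [hDs]; exact le_normalizer_commutator ih ih
  obtain ⟨n₀, hn₀⟩ : ∃ n, D n = ⊥ := by
    obtain ⟨n, hn⟩ := hX.1.solvable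
    exact ⟨n, by simp [D, hn]⟩
  have hzA : zpowers d ≤ A := zpowers_le.2 hd
  have hgenX : ∀ E : Subgroup G, IsPlane p A E →
      ⁅X ⊓ centralizer (E : Set G), zpowers d⁆ ≤ X ⊓ centralizer (E : Set G) := fun E hE =>
    CoprimeAct.commutator_le_left (hzA.trans (le_normalizer_inf hXA (S.inv_plane hE)))
  have hΓX : Γ ≤ X := iSup_le fun E => (hgenX _ E.2).trans inf_le_left
  have hΓA : A ≤ normalizer (Γ : Set G) := le_normalizer_iSup fun E =>
    le_normalizer_commutator (le_normalizer_inf hXA (S.inv_plane E.2)) (S.inv_zpowers hd)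
  suffices h : ∀ j, ⁅X, zpowers d⁆ ≤ Γ ⊔ D j by
    simpa [hn₀] using h n₀
  intro j
  induction j with
  | zero =>
    rw [hD0]
    exact (CoprimeAct.commutator_le_left (hzA.trans hXA)).trans le_sup_right
  | succ j ih =>
    set K' := Γ ⊔ D (j + 1) with hK'
    set R := D j with hR
    have hK'X : K' ≤ X := sup_le hΓX (hDle _)
    have hK'A : A ≤ normalizer (K' : Set G) := le_normalizer_sup hΓA (hDA _)
    have hRA : A ≤ normalizer (R : Set G) := hDA j
    -- commutators of `R` with `d`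
    have hRd : ∀ δ ∈ zpowers d, ∀ r ∈ R, ⁅r, δ⁆ ∈ K' := by
      intro δ hδ
      have hcR : ∀ r ∈ R, ⁅r, δ⁆ ∈ R := fun r hr =>
        R.mul_mem (R.mul_mem hr ((mem_normalizer_iff.1 (hRA (hzA hδ)) _).1 (R.inv_mem hr)))
          (one_mem R) |> fun h => by
            rw [mul_one] at h; rw [commutatorElement_def]; simpa [mul_assoc] using h
      have hmul : ∀ r ∈ {r | r ∈ R ∧ ⁅r, δ⁆ ∈ K'}, ∀ r' ∈ {r | r ∈ R ∧ ⁅r, δ⁆ ∈ K'},
          r * r' ∈ {r | r ∈ R ∧ ⁅r, δ⁆ ∈ K'} := by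
        rintro r ⟨hr, hrK⟩ r' ⟨hr', hr'K⟩
        refine ⟨R.mul_mem hr hr', ?_⟩
        have h1 : ⁅r * r', δ⁆ = ⁅r, ⁅r', δ⁆⁆ * ⁅r', δ⁆ * ⁅r, δ⁆ := by
          simp only [commutatorElement_def]; group
        rw [h1]
        refine K'.mul_mem (K'.mul_mem (mem_sup_right ?_) hr'K) hrK
        rw [hDs]
        exact commutator_mem_commutator hr (hcR r' hr')
      have hone : (1 : G) ∈ {r | r ∈ R ∧ ⁅r, δ⁆ ∈ K'} := ⟨one_mem _, by simp⟩
      let T : Subgroup G :=
        { carrier := {r | r ∈ R ∧ ⁅r, δ⁆ ∈ K'}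
          one_mem' := hone
          mul_mem' := fun {a b} ha hb => hmul a ha b hb
          inv_mem' := fun {a} ha => inv_mem_of_mul_mem hone hmul ha }
      have hle : R ≤ T := S.le_of_planes hRA
        (fun hd' => hX.2.1 (hd'.trans (card_dvd_of_le (hDle j)))) fun E hE x hx =>
          ⟨hx.1, mem_sup_left (mem_iSup_of_mem (⟨E, hE⟩ : {E : Subgroup G // IsPlane p A E})
            (commutator_mem_commutator ⟨hDle j hx.1, hx.2⟩ hδ))⟩
      exact fun r hr => (hle hr).2
    -- the kernel of the action on `R / (R ⊓ K')`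
    set N₀ := normalizer (R : Set G) ⊓ normalizer ((R ⊓ K' : Subgroup G) : Set G) with hN₀
    have hmulZ : ∀ g ∈ {g | g ∈ N₀ ∧ ∀ r ∈ R, ⁅g, r⁆ ∈ R ⊓ K'},
        ∀ h ∈ {g | g ∈ N₀ ∧ ∀ r ∈ R, ⁅g, r⁆ ∈ R ⊓ K'},
        g * h ∈ {g | g ∈ N₀ ∧ ∀ r ∈ R, ⁅g, r⁆ ∈ R ⊓ K'} := by
      rintro g ⟨hg, hgr⟩ h ⟨hh, hhr⟩
      refine ⟨N₀.mul_mem hg hh, fun r hr => ?_⟩
      have h1 : ⁅g * h, r⁆ = g * ⁅h, r⁆ * g⁻¹ * ⁅g, r⁆ := by
        simp only [commutatorElement_def]; group
      rw [h1]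
      exact mul_mem ((mem_normalizer_iff.1 hg.2 _).1 (hhr r hr)) (hgr r hr)
    have honeZ : (1 : G) ∈ {g | g ∈ N₀ ∧ ∀ r ∈ R, ⁅g, r⁆ ∈ R ⊓ K'} :=
      ⟨one_mem _, fun r _ => by simp⟩
    let Z : Subgroup G :=
      { carrier := {g | g ∈ N₀ ∧ ∀ r ∈ R, ⁅g, r⁆ ∈ R ⊓ K'}
        one_mem' := honeZ
        mul_mem' := fun {a b} ha hb => hmulZ a ha b hb
        inv_mem' := fun {a} ha => inv_mem_of_mul_mem honeZ hmulZ ha }
    have hZconj : ∀ n ∈ N₀, ∀ g ∈ Z, n * g * n⁻¹ ∈ Z := by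
      rintro n hn g ⟨hg, hgr⟩
      refine ⟨N₀.mul_mem (N₀.mul_mem hn hg) (N₀.inv_mem hn), fun r hr => ?_⟩
      have h1 : ⁅n * g * n⁻¹, r⁆ = n * ⁅g, n⁻¹ * r * n⁆ * n⁻¹ := by
        simp only [commutatorElement_def]; group
      rw [h1]
      exact (mem_normalizer_iff.1 hn.2 _).1 (hgr _ ((mem_normalizer_iff''.1 hn.1 r).1 hr))
    have hK'N : K' ≤ N₀ := le_inf (hK'X.trans (hDX j))
      (le_normalizer_inf (hK'X.trans (hDX j)) le_normalizer)
    have hdN : zpowers d ≤ N₀ := hzA.trans (le_inf hRA (le_normalizer_inf hRA hK'A))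
    have hdZ : zpowers d ≤ Z := fun δ hδ => ⟨hdN hδ, fun r hr => by
      refine ⟨R.mul_mem ((mem_normalizer_iff.1 (hdN hδ).1 r).1 hr) (R.inv_mem hr), ?_⟩
      rw [← commutatorElement_inv]
      exact K'.inv_mem (hRd δ hδ r hr)⟩
    have hK'Z : K' ≤ Z := by
      refine sup_le (iSup_le fun E => ?_) fun y hy => ⟨hK'N (mem_sup_right hy), fun r hr => ?_⟩
      · have hmem : X ⊓ centralizer (E.1 : Set G) ∈ Cfsg.signalizerFamily p A θ :=
          S.inf_centralizer_mem hX ((ea_le_centralizer S.ea E.2.1).trans (centralizer_le_normalizer _))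
        rw [← S.commutator_idem hmem hd, commutator_le]
        intro k hk δ hδ
        have hk' : k ∈ N₀ := hK'N (mem_sup_left (mem_iSup_of_mem E hk))
        rw [show ⁅k, δ⁆ = (k * δ * k⁻¹) * δ⁻¹ by rw [commutatorElement_def]]
        exact Z.mul_mem (hZconj k hk' δ (hdZ hδ)) (Z.inv_mem (hdZ hδ))
      · have h1 : ⁅y, r⁆ ∈ D (j + 1) := by
          have h2 : ⁅y, r⁆ = y * (r * y⁻¹ * r⁻¹) := by rw [commutatorElement_def]; group
          rw [h2]
          exact mul_mem hy ((mem_normalizer_iff.1 (hDX (j + 1) (hDle j hr)) _).1 (inv_mem hy))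
        exact ⟨by rw [hDs] at h1
                  exact CoprimeAct.commutator_le_left (le_normalizer (H := R)) h1,
          mem_sup_right h1⟩
    have hRK' : R ≤ normalizer (K' : Set G) := fun r hr => mem_normalizer_fintype fun y hy => by
      have h1 := ((hK'Z hy).2 r hr).2
      rw [show r * y * r⁻¹ = (⁅y, r⁆)⁻¹ * y by rw [commutatorElement_def]; group]
      exact K'.mul_mem (K'.inv_mem h1) hy
    -- conclusion
    have hle : ⁅X, zpowers d⁆ ≤ K' ⊔ R :=
      ih.trans (sup_le (le_sup_left.trans le_sup_left) le_sup_right)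
    rw [← S.commutator_idem hX hd]
    refine (commutator_mono hle le_rfl).trans (commutator_le.2 fun x hx δ hδ => ?_)
    obtain ⟨k, hk, r, hr, rfl⟩ := (SolvBasic.mem_sup_iff_of_le_normalizer hRK').1 hx
    have h1 : ⁅k * r, δ⁆ = k * ⁅r, δ⁆ * k⁻¹ * ⁅k, δ⁆ := by
      simp only [commutatorElement_def]; group
    rw [h1]
    refine K'.mul_mem (K'.mul_mem (K'.mul_mem hk (hRd δ hδ r hr)) (K'.inv_mem hk)) ?_
    rw [show ⁅k, δ⁆ = k * (δ * k⁻¹ * δ⁻¹) by rw [commutatorElement_def]; group]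
    exact K'.mul_mem hk ((mem_normalizer_iff.1 (hK'A (hzA hδ)) _).1 (K'.inv_mem hk))

end Setup

end Cfsg.Agent.Signalizer.SFT
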