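import Cfsg.Agent.Lib.Signalizer.SFT.Sinks

/-!
A mixed maximum containing all Fitting subgroups, with all its primes sinks, gives completeness; in
particular no maximum involves all the primes.
-/

set_option autoImplicit false
set_option linter.style.haveILetI false
set_option linter.unusedSectionVars false
set_option linter.unusedVariables false

open scoped Pointwise commutatorElement

universe u

namespace Cfsg.Agent.Signalizer.SFT

open Subgroup
open Cfsg (pCoreOf fittingOf)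
open Cfsg.Agent.OddOrder

variable {G : Type u} [Group G] [Finite G]
variable {p : ℕ} [hp : Fact p.Prime] {A : Subgroup G} {θ : G → Subgroup G}

/-- A mixed maximum containing every Fitting subgroup, whose primes are sinks. -/
structure IsHub (p : ℕ) (A : Subgroup G) (θ : G → Subgroup G) (M : Subgroup G) : Prop where
  isMax : IsMax p A θ M
  mixed : ∀ t, ∃ s ∈ fitPrimes M, s ≠ t
  fit : ∀ H, IsMax p A θ H → fittingOf H ≤ M
  sink : ∀ s ∈ fitPrimes M, sinkY p A θ s ≠ ⊥

namespace Min3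

variable (M₀ : Min3 p A θ)
include M₀

theorem hub_flex {M H : Subgroup G} (hM : IsHub p A θ M) (hH : IsMax p A θ H) {s : ℕ}
    (hs : s ∈ fitPrimes M) (hY : sinkY p A θ s ≤ H)
    (hF : ∀ v : ℕ, v ≠ s → v ∈ fitPrimes M → pCoreOf v M ≤ H) : H ≤ M := by
  haveI := Fact.mk hs.1
  have hsH : s ∈ fitPrimes H := M₀.mem_fitPrimes_of_le hs.1 hH le_rfl (hM.sink s hs) hY
  obtain ⟨v, hv, hvs⟩ := hM.mixed s
  -- `H` is mixed
  obtain ⟨r, hr, hrs⟩ : ∃ r ∈ fitPrimes H, r ≠ s := by
    by_contra hno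
    have hFH : fittingOf H ≤ pCoreOf s H := FitOf.fittingOf_le_iff.2 fun t ht => by
      by_cases hts : t = s
      · rw [hts]
      · rw [show pCoreOf t H = ⊥ from Classical.byContradiction fun h => hno ⟨t, ⟨ht, h⟩, hts⟩]
        exact bot_le
    have hsM : pCoreOf s H ≤ M := (FitOf.pCoreOf_le_fittingOf hs.1 H).trans (hM.fit H hH)
    have hcent : pCoreOf v M ≤ centralizer (pCoreOf s H : Set G) :=
      le_centralizer_of_coprime ((hF v hvs hv).trans (FitOf.le_normalizer_pCoreOf s H))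
        (hsM.trans (FitOf.le_normalizer_pCoreOf v M))
        (coprime_of_ne hv.1 hs.1 hvs (FitOf.isPGroup_pCoreOf v M) (FitOf.isPGroup_pCoreOf s H))
    haveI := hH.mem.1
    have h1 : pCoreOf v M ≤ pCoreOf s H :=
      ((le_inf (hF v hvs hv) (hcent.trans (centralizer_le hFH))).trans
        (FitOf.inf_centralizer_fittingOf_le H)).trans hFH
    refine hv.2 (Subgroup.card_eq_one.1 (Nat.eq_one_of_dvd_coprimes
      (coprime_of_ne hv.1 hs.1 hvs (FitOf.isPGroup_pCoreOf v M) (FitOf.isPGroup_pCoreOf s H))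
      dvd_rfl (card_dvd_of_le h1)))
  by_cases hfull : ∀ t ∈ primes A θ, t ∈ fitPrimes H
  · have hle : M ≤ H := M₀.le_max_of_primes hH hsH hr hrs hM.isMax.mem (hM.fit H hH)
      fun t ht hd => hfull t (M₀.mem_primes hM.isMax.mem ht hd)
    rw [hM.isMax.max H hH.mem hle]
  · simp only [not_forall] at hfull
    obtain ⟨t, ht, htH⟩ := hfull
    have hQ := M₀.qOf_le_max hH hsH hr hrs ⟨t, ht, htH⟩
    have hFM : fittingOf M ≤ H := FitOf.fittingOf_le_iff.2 fun w hw => by
      by_cases hws : w = s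
      · subst hws; exact (M₀.max_core_le_qOf hw hM.isMax).trans hQ
      · by_cases hwM : w ∈ fitPrimes M
        · exact hF w hws hwM
        · rw [show pCoreOf w M = ⊥ from Classical.byContradiction fun h => hwM ⟨hw, h⟩]
          exact bot_le
    exact M₀.le_max_of_fitting hM.isMax hs hv hvs hH.mem hFM (hM.fit H hH)
      fun Z hZ hZc => M₀.le_of_centralizes_core hH hsH hZ hZc

/-- A member normalising `R`, where `R` contains the kernel and centralises `O_{s'}(F(M))`, lies
in the hub. -/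
theorem hub_le_of_normalizes {M R : Subgroup G} (hM : IsHub p A θ M) {s : ℕ} (hs : s ∈ fitPrimes M)
    (hR : R ∈ Cfsg.signalizerFamily p A θ)
    (hRC : Cfsg.signalizerInf A θ ≤ normalizer (R : Set G)) (hY : sinkY p A θ s ≤ R)
    (hcent : ∀ v : ℕ, v ≠ s → v ∈ fitPrimes M → R ≤ centralizer (pCoreOf v M : Set G))
    {X : Subgroup G} (hX : X ∈ Cfsg.signalizerFamily p A θ) (hXR : X ≤ normalizer (R : Set G)) :
    X ≤ M := by
  have hR1 : R ≠ ⊥ := fun h => hM.sink s hs (le_bot_iff.1 (hY.trans h.le))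
  obtain ⟨W, hW, hWN, hWmax⟩ := M₀.exists_greatest hR hR1
  have hCW : Cfsg.signalizerInf A θ ≤ W := hWmax _ M₀.core_mem hRC
  obtain ⟨H, hH, hWH⟩ := M₀.exists_max hW (hCW.trans le_normalizer)
  exact ((hWmax X hX hXR).trans hWH).trans (M₀.hub_flex hM hH hs
    ((hY.trans (hWmax R hR le_normalizer)).trans hWH) fun v hv hvM =>
      (hWmax _ (M₀.pCoreOf_mem hM.isMax.mem v)
        ((Subgroup.le_centralizer_iff.1 (hcent v hv hvM)).trans (centralizer_le_normalizer _))).trans hWH)

/-- A plane with two points good for a hub prime lies in the hub. -/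
theorem hub_plane {M : Subgroup G} (hM : IsHub p A θ M) {s : ℕ} (hs : s ∈ fitPrimes M)
    {E : Subgroup G} (hE : IsPlane p A E) {g h : G} (hg : g ∈ E) (hg1 : g ≠ 1) (hh : h ∈ E)
    (hhg : h ∉ zpowers g) (hgood : Good p A θ s g) (hgood' : Good p A θ s h) :
    Cfsg.signalizerInf E θ ≤ M := by
  classical
  haveI := Fact.mk hs.1
  let I := {i : G × Subgroup G // i.1 ∈ E ∧ i.1 ≠ 1 ∧ IsMax p A θ i.2 ∧ θ i.1 ≤ i.2 ∧ s ∈ fitPrimes i.2}
  set R := ⨅ i : I, FitOf.centreCore s i.1.2 with hRdef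
  obtain ⟨H₀, hH₀, hgH₀, hsH₀⟩ := hgood
  let i₀ : I := ⟨(g, H₀), hg, hg1, hH₀, hgH₀, hsH₀⟩
  have hR0 : R ≤ FitOf.centreCore s H₀ := iInf_le (fun i : I => FitOf.centreCore s i.1.2) i₀
  have hRA : A ≤ normalizer (R : Set G) := le_normalizer_iInf fun i =>
    (family_normalizer i.2.2.2.1.mem).trans (normalizer_le_normalizer_centreCore s _)
  have hRm : R ∈ Cfsg.signalizerFamily p A θ :=
    family_mono hH₀.mem (hR0.trans (inf_le_left.trans (FitOf.pCoreOf_le s H₀))) hRA
  have hθE : Cfsg.signalizerInf E θ ≤ normalizer (R : Set G) := le_normalizer_iInf fun i =>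
    ((M₀.mem_inf hE i.2.1 i.2.2.1).trans i.2.2.2.2.1).trans (FitOf.le_normalizer_centreCore s _)
  have hRC : Cfsg.signalizerInf A θ ≤ normalizer (R : Set G) :=
    (signalizerInf_anti hE.1).trans hθE
  have hY : sinkY p A θ s ≤ R := le_iInf fun i => M₀.sinkY_le_centreCore i.2.2.2.1 i.2.2.2.2.2
  have hRp : IsPGroup s R := (isPGroup_centreCore s H₀).to_le hR0
  have hRab : IsMulCommutative R := by
    have := FitOf.isMulCommutative_centreCore s H₀
    exact .of_setLike_mul_comm fun a ha b hb => setLike_mul_comm (hR0 ha) (hR0 hb)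
  have hRM : R ≤ M := (hR0.trans (FitOf.centreCore_le hs.1 H₀)).trans (inf_le_left.trans (hM.fit _ hH₀))
  have hfix : ∀ v : ℕ, v ≠ s → v ∈ fitPrimes M → ∀ e ∈ E, e ≠ 1 → Good p A θ s e →
      R ≤ centralizer ((pCoreOf v M ⊓ centralizer ({e} : Set G) : Subgroup G) : Set G) := by
    rintro v hv hvM e he he1 ⟨H, hH, heH, hsH⟩
    rw [Subgroup.le_centralizer_iff]
    have hle : R ≤ FitOf.centreCore s H :=
      iInf_le (fun i : I => FitOf.centreCore s i.1.2) ⟨(e, H), he, he1, hH, heH, hsH⟩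
    refine le_trans (le_centralizer_of_mutual (P := FitOf.centreCore s H) (K := pCoreOf v M)
      (((M₀.pCoreOf_mem hM.isMax.mem v).2.2.2 e (hE.1 he) he1).trans heH) inf_le_left
      ((FitOf.centreCore_le hs.1 H).trans ((inf_le_left.trans (hM.fit H hH)).trans
        (FitOf.le_normalizer_pCoreOf v M)))
      (inf_le_left.trans (FitOf.pCoreOf_le s H)) (FitOf.le_normalizer_centreCore s H)
      (coprime_of_ne hvM.1 hs.1 hv (FitOf.isPGroup_pCoreOf v M) (isPGroup_centreCore s H)))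
      (centralizer_le hle)
  by_cases hbad : ∃ b ∈ E, b ≠ 1 ∧ ¬ Good p A θ s b
  · obtain ⟨b, hb, hb1, hbad⟩ := hbad
    have hEn : A ≤ normalizer (E : Set G) :=
      (ea_le_centralizer M₀.ea hE.1).trans (centralizer_le_normalizer _)
    have hR1R : ⁅R, E⁆ ≤ R := CoprimeAct.commutator_le_left (hE.1.trans hRA)
    have hθE1 : Cfsg.signalizerInf E θ ≤ normalizer ((⁅R, E⁆ : Subgroup G) : Set G) :=
      le_normalizer_commutator hθE
        ((signalizerInf_le_centralizer M₀.fn.1 hE.1).trans (centralizer_le_normalizer _))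
    refine M₀.hub_le_of_normalizes hM hs (R := ⁅R, E⁆)
      (family_mono hRm hR1R (le_normalizer_commutator hRA hEn))
      ((signalizerInf_anti hE.1).trans hθE1)
      ((M₀.le_commutator_of_bad hs.1 (hE.1 hb) hb1 hbad).trans
        (commutator_mono hY (zpowers_le.2 hb))) ?_ (M₀.inf_mem hE) hθE1
    intro v hv hvM
    have hkey : ∀ e ∈ E, e ≠ 1 → Good p A θ s e →
        ⁅R, zpowers e⁆ ≤ centralizer (pCoreOf v M : Set G) := fun e he he1 hge => by
      haveI := Fact.mk hvM.1
      exact SFT.hh hv (M₀.ne_p hM.isMax.mem hvM) (M₀.ne_p hM.isMax.mem hs)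
        (M₀.orderOf_eq (hE.1 he) he1) hRp (Or.inr hRab) (hRA (hE.1 he))
        (FitOf.isPGroup_pCoreOf v M)
        (((family_normalizer hM.isMax.mem).trans (normalizer_le_normalizer_pCoreOf v M)) (hE.1 he))
        (hRM.trans (FitOf.le_normalizer_pCoreOf v M)) (hfix v hv hvM e he he1 hge)
    exact M₀.commutator_plane_le hE hg hg1 hh hhg
      (le_normalizer_centralizer
        ((family_normalizer hM.isMax.mem).trans (normalizer_le_normalizer_pCoreOf v M)))
      (hkey g hg hg1 ⟨H₀, hH₀, hgH₀, hsH₀⟩) (hkey h hh (fun e => hhg (e ▸ one_mem _)) hgood')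
  · refine M₀.hub_le_of_normalizes hM hs hRm hRC hY ?_ (M₀.inf_mem hE) hθE
    intro v hv hvM
    rw [Subgroup.le_centralizer_iff]
    refine M₀.le_of_points hE (hE.1.trans ((family_normalizer hM.isMax.mem).trans
      (normalizer_le_normalizer_pCoreOf v M))) (M₀.pCoreOf_mem hM.isMax.mem v).2.1 fun e he he1 => ?_
    exact Subgroup.le_centralizer_iff.1 (hfix v hv hvM e he he1
      (Classical.byContradiction fun h => hbad ⟨e, he, he1, h⟩))

theorem hub_false {M : Subgroup G} (hM : IsHub p A θ M) : False := by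
  classical
  obtain ⟨d₀, hd₀, hd₀1⟩ := M₀.exists_point
  obtain ⟨x, hx, -⟩ := hM.mixed 0
  haveI := Fact.mk hx.1
  refine M₀.false_of_planes hd₀ hd₀1 hM.isMax.mem fun E hE _ => ?_
  -- a point good for `x`
  obtain ⟨d, hd, hd1, hdY⟩ := M₀.exists_fixed_ne_bot (M₀.sinkY_props x).1 (hM.sink x hx) hE
  have hdg : Good p A θ x d := M₀.good_of_fixed hx.1 (hE.1 hd) hd1 hdY
  by_cases htwo : ∃ g ∈ E, g ∉ zpowers d ∧ Good p A θ x g
  · obtain ⟨g, hg, hgd, hgg⟩ := htwo
    exact M₀.hub_plane hM hx hE hd hd1 hg hgd hdg hgg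
  by_cases hv2 : ∃ v ∈ fitPrimes M, v ≠ x ∧ ∃ g ∈ E, ∃ h ∈ E,
      g ≠ 1 ∧ h ∉ zpowers g ∧ Good p A θ v g ∧ Good p A θ v h
  · obtain ⟨v, hv, -, g, hg, h, hh, hg1, hhg, hgg, hgh⟩ := hv2
    exact M₀.hub_plane hM hv hE hg hg1 hh hhg hgg hgh
  -- exactly one good point for each prime
  obtain ⟨H, hH, hdH, hxH⟩ := hdg
  set Z := FitOf.centreCore x H with hZ
  have hEn : A ≤ normalizer (E : Set G) :=
    (ea_le_centralizer M₀.ea hE.1).trans (centralizer_le_normalizer _)
  have hZA : A ≤ normalizer (Z : Set G) :=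
    (family_normalizer hH.mem).trans (normalizer_le_normalizer_centreCore x H)
  have hZm : Z ∈ Cfsg.signalizerFamily p A θ :=
    family_mono hH.mem (inf_le_left.trans (FitOf.pCoreOf_le x H)) hZA
  have hZM : Z ≤ M := (FitOf.centreCore_le hx.1 H).trans (inf_le_left.trans (hM.fit H hH))
  obtain ⟨b, hb, hbd⟩ := M₀.exists_not_zpowers hE (hE.1 hd) hd1
  have hb1 : b ≠ 1 := fun e => hbd (e ▸ one_mem _)
  have hθE1 : Cfsg.signalizerInf E θ ≤ normalizer ((⁅Z, E⁆ : Subgroup G) : Set G) :=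
    le_normalizer_commutator
      (((M₀.mem_inf hE hd hd1).trans hdH).trans (FitOf.le_normalizer_centreCore x H))
      ((signalizerInf_le_centralizer M₀.fn.1 hE.1).trans (centralizer_le_normalizer _))
  refine M₀.hub_le_of_normalizes hM hx (R := ⁅Z, E⁆)
    (family_mono hZm (CoprimeAct.commutator_le_left (hE.1.trans hZA)) (le_normalizer_commutator hZA hEn))
    ((signalizerInf_anti hE.1).trans hθE1)
    ((M₀.le_commutator_of_bad hx.1 (hE.1 hb) hb1 fun h => htwo ⟨b, hb, hbd, h⟩).trans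
      (commutator_mono (M₀.sinkY_le_centreCore hH hxH) (zpowers_le.2 hb))) ?_ (M₀.inf_mem hE) hθE1
  intro v hv hvM
  haveI := Fact.mk hvM.1
  set W := pCoreOf v M with hW
  have hWA : A ≤ normalizer (W : Set G) :=
    (family_normalizer hM.isMax.mem).trans (normalizer_le_normalizer_pCoreOf v M)
  have hfixgood : ∀ e ∈ E, e ≠ 1 → ¬ Good p A θ v e → W ⊓ centralizer ({e} : Set G) = ⊥ := by
    intro e he he1 hne
    obtain ⟨K, hK, heK⟩ := M₀.exists_maxOf (hE.1 he) he1
    have hvK : v ∉ fitPrimes K := fun h => hne ⟨K, hK, heK, h⟩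
    have hUK : W ⊓ centralizer ({e} : Set G) ≤ K :=
      ((M₀.pCoreOf_mem hM.isMax.mem v).2.2.2 e (hE.1 he) he1).trans heK
    have hle : W ⊓ centralizer ({e} : Set G) ≤ pCoreOf v K := by
      refine M₀.mem_pCoreOf_of_centralizes hK.mem hUK hvM.1
        ((FitOf.isPGroup_pCoreOf v M).to_le inf_le_left) fun t ht => ?_
      by_cases htv : t = v
      · subst htv
        rw [show pCoreOf t K = ⊥ from Classical.byContradiction fun h => hvK ⟨ht, h⟩]
        exact fun z _ => mem_centralizer_iff.2 fun y hy => by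
          rw [mem_bot.1 hy, one_mul, mul_one]
      · exact le_centralizer_of_mutual (K := W) hUK inf_le_left
          (((FitOf.pCoreOf_le_fittingOf ht K).trans (hM.fit K hK)).trans (FitOf.le_normalizer_pCoreOf v M))
          (FitOf.pCoreOf_le t K) (FitOf.le_normalizer_pCoreOf t K)
          (coprime_of_ne hvM.1 ht (Ne.symm htv) (FitOf.isPGroup_pCoreOf v M) (FitOf.isPGroup_pCoreOf t K))
    exact le_bot_iff.1 (hle.trans (le_of_eq (Classical.byContradiction fun h => hvK ⟨hvM.1, h⟩)))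
  obtain ⟨e₀, he₀, he₀1, hne₀⟩ :=
    M₀.exists_fixed_ne_bot (M₀.pCoreOf_mem hM.isMax.mem v) hvM.2 hE
  have he₀g : Good p A θ v e₀ := Classical.byContradiction fun h => hne₀ (hfixgood e₀ he₀ he₀1 h)
  have hWfix : W ≤ centralizer ({e₀} : Set G) := by
    refine M₀.le_of_points hE (hE.1.trans hWA) (M₀.pCoreOf_mem hM.isMax.mem v).2.1 fun e he he1 => ?_
    by_cases hez : e ∈ zpowers e₀
    · rw [M₀.centralizer_eq_of_mem (hE.1 he₀) he₀1 hez he1]
      exact inf_le_right
    · rw [hfixgood e he he1 fun h => hv2 ⟨v, hvM, hv, e₀, he₀, e, he, he₀1, hez, he₀g, h⟩]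
      exact bot_le
  have hWn : Z ≤ normalizer (W : Set G) := hZM.trans (FitOf.le_normalizer_pCoreOf v M)
  have hd' : Z ≤ centralizer ((W ⊓ centralizer ({d} : Set G) : Subgroup G) : Set G) :=
    Subgroup.le_centralizer_iff.1 (le_centralizer_of_mutual (K := W)
      (((M₀.pCoreOf_mem hM.isMax.mem v).2.2.2 d (hE.1 hd) hd1).trans hdH) inf_le_left hWn
      (inf_le_left.trans (FitOf.pCoreOf_le x H)) (FitOf.le_normalizer_centreCore x H)
      (coprime_of_ne hvM.1 hx.1 hv (FitOf.isPGroup_pCoreOf v M) (isPGroup_centreCore x H)))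
  by_cases he₀d : e₀ ∈ zpowers d
  · rw [M₀.centralizer_eq_of_mem (hE.1 hd) hd1 he₀d he₀1] at hWfix
    rw [inf_eq_left.2 hWfix] at hd'
    exact (CoprimeAct.commutator_le_left (hE.1.trans hZA)).trans hd'
  · refine M₀.commutator_plane_le hE hd hd1 he₀ he₀d (le_normalizer_centralizer hWA) ?_
      (commutator_le_centralizer_three (mem_centralizer_iff.2 fun w hw =>
        mem_centralizer_singleton_iff.1 (hWfix hw)) hWn)
    exact hh hv (M₀.ne_p hM.isMax.mem hvM) (M₀.ne_p hH.mem hxH) (M₀.orderOf_eq (hE.1 hd) hd1)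
      (isPGroup_centreCore x H) (Or.inr (FitOf.isMulCommutative_centreCore x H)) (hZA (hE.1 hd))
      (FitOf.isPGroup_pCoreOf v M) (hWA (hE.1 hd)) hWn hd'

/-- No maximum involves all the primes. -/
theorem no_full {M : Subgroup G} (hM : IsMax p A θ M) : ∃ t ∈ primes A θ, t ∉ fitPrimes M := by
  by_contra hno
  have hfull : ∀ t ∈ primes A θ, t ∈ fitPrimes M := fun t ht =>
    Classical.byContradiction fun h => hno ⟨t, ht, h⟩
  have hmixed : ∀ t, ∃ s ∈ fitPrimes M, s ≠ t := fun t => by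
    obtain ⟨s, hs, hne⟩ := M₀.two t
    exact ⟨s, hfull s hs, hne⟩
  -- every prime is a sink
  have hsink : ∀ x ∈ fitPrimes M, sinkY p A θ x ≠ ⊥ := by
    intro x hx
    haveI := Fact.mk hx.1
    set T := pCoreOf x M with hT
    have hTQ : T ≤ qOf p A θ x := M₀.max_core_le_qOf hx.1 hM
    have hTI : T ≤ sinkCore p A θ x := by
      refine le_inf hTQ (le_iInf fun ⟨w, hw, hwx⟩ => ?_)
      set X := wc p A θ w with hXdef
      obtain ⟨hXm, hXC, hXσ, hXmax⟩ := M₀.wc_props hw
      have hTX : ∀ t ∈ primes A θ, t ≠ w → pCoreOf t M ≤ X := fun t ht htw =>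
        (M₀.max_core_le_qOf ht.1 hM).trans (M₀.qOf_le_wc ht.1 hw htw)
      have hxw : x ≠ w := Ne.symm hwx
      have hTX' := hTX x (M₀.fit_mem_primes hM.mem hx) hxw
      have hK : T ≤ X ⊓ ⨅ s : {s // s ∈ primes A θ ∧ s ≠ x ∧ s ≠ w}, oP s.1 X := by
        refine le_inf hTX' (le_iInf fun ⟨s, hs, hsx, hsw⟩ => ?_)
        haveI := Fact.mk hs.1
        refine le_oP hXm.1 (hTX s hs hsw) (FitOf.isPGroup_pCoreOf s M) hTX'
          (FitOf.pCoreOf_le_centralizer hx.1 hs.1 (Ne.symm hsx) M) ?_ ?_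
        · exact (M₀.le_of_centralizes_core hM (hfull s hs) (M₀.inf_centralizer_mem hXm
            ((family_normalizer hM.mem).trans (normalizer_le_normalizer_pCoreOf s M))) inf_le_right).trans
              (FitOf.le_normalizer_pCoreOf x M)
        · obtain ⟨n, hn⟩ := (FitOf.isPGroup_pCoreOf x M).exists_card_eq
          rw [hn]
          exact ((Nat.coprime_primes hx.1 hs.1).2 (Ne.symm hsx)).pow_left n
      refine hK.trans (AxB.le_pCoreOf inf_le_left
        (Signalizer.le_normalizer_inf le_normalizer (le_normalizer_iInf fun s => le_normalizer_oP s.1 X)) ?_)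
      rw [← isSigma_singleton_iff hx.1]
      intro t ht hd
      by_contra htx
      have hdX := hd.trans (card_dvd_of_le inf_le_left)
      exact ht.ne_one (Nat.dvd_one.1 (oP_coprime t X ▸ Nat.dvd_gcd (hd.trans (card_dvd_of_le
        (inf_le_right.trans (iInf_le (fun s : {s // s ∈ primes A θ ∧ s ≠ x ∧ s ≠ w} => oP s.1 X)
          ⟨t, M₀.mem_primes hXm ht hdX, htx, hXσ t ht hdX⟩)))) dvd_rfl))
    have hQI : qOf p A θ x ≤ normalizer (sinkCore p A θ x : Set G) :=
      Signalizer.le_normalizer_inf le_normalizer (le_normalizer_iInf fun w =>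
        (M₀.qOf_le_wc hx.1 w.2.1 (Ne.symm w.2.2)).trans (FitOf.le_normalizer_pCoreOf x _))
    intro hbot
    have hne : sinkCore p A θ x ≠ ⊥ := fun h => hx.2 (le_bot_iff.1 (hTI.trans h.le))
    haveI : Nontrivial (qOf p A θ x) :=
      (nontrivial_iff_ne_bot _).2 fun h => hx.2 (le_bot_iff.1 (hTQ.trans h.le))
    haveI : Nontrivial ((sinkCore p A θ x).subgroupOf (qOf p A θ x)) :=
      (nontrivial_iff_ne_bot _).2 fun h => hne (by
        rw [subgroupOf_eq_bot, disjoint_iff] at h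
        exact (inf_eq_left.2 (inf_le_left : sinkCore p A θ x ≤ qOf p A θ x)).symm.trans h)
    haveI : ((sinkCore p A θ x).subgroupOf (qOf p A θ x)).Normal :=
      normal_subgroupOf_of_le_normalizer hQI
    haveI := (M₀.qOf_isPGroup hx.1).isNilpotent
    refine SolvStruct.inf_center_ne_bot (N := (sinkCore p A θ x).subgroupOf (qOf p A θ x))
      (nontrivial_iff_ne_bot _ |>.1 inferInstance) ((eq_bot_iff_forall _).2 ?_)
    rintro z ⟨hzI, hz⟩
    exact Subtype.ext ((eq_bot_iff_forall _).1 hbot z ⟨hzI, mem_centralizer_iff.2 fun y hy =>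
      (congrArg Subtype.val (mem_center_iff.1 hz ⟨y, hy⟩) :)⟩)
  refine M₀.hub_false ⟨hM, hmixed, fun H hH => ?_, hsink⟩
  obtain ⟨a, ha, ha1⟩ := M₀.exists_point
  obtain ⟨q, hq, -⟩ := hmixed 0
  by_cases hH1 : fittingOf H = ⊥
  · rw [hH1]; exact bot_le
  obtain ⟨s, hs⟩ := exists_fitPrime hH.mem.1 (fun h => hH1 (le_bot_iff.1 ((FitOf.fittingOf_le H).trans h.le)))
  have hsM : s ∈ fitPrimes M := hfull s (M₀.fit_mem_primes hH.mem hs)
  obtain ⟨W, hW, -, hWmax⟩ := M₀.exists_greatest (M₀.sinkY_props s).1 (hsink s hsM)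
  obtain ⟨r, hr, hrs⟩ := hmixed s
  have hWM : W ≤ M := M₀.le_max_of_primes hM hsM hr hrs hW
    (hWmax _ (family_mono hM.mem (FitOf.fittingOf_le M) ((family_normalizer hM.mem).trans
      (normalizer_le_normalizer_map _ (FittingCores.fitting_characteristic (G := M)))))
        (M₀.fittingOf_le_normalizer hM hsM))
    fun t ht hd => hfull t (M₀.mem_primes hW ht hd)
  exact (hWmax _ (family_mono hH.mem (FitOf.fittingOf_le H) ((family_normalizer hH.mem).trans
    (normalizer_le_normalizer_map _ (FittingCores.fitting_characteristic (G := H)))))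
      (M₀.fittingOf_le_normalizer hH hs)).trans hWM

end Min3

end Cfsg.Agent.Signalizer.SFT
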