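import Cfsg.Agent.Lib.Signalizer.SFT.Tools

/-!
The layers of a solvable group over the core for one prime.
-/

set_option autoImplicit false
set_option linter.style.haveILetI false
set_option linter.unusedSectionVars false
set_option linter.unusedVariables false

open scoped Pointwise commutatorElement

universe u

namespace Cfsg.Agent.Signalizer.SFT

open Subgroup
open Cfsg (pCoreOf fittingOf)
open Cfsg.Agent.OddOrder

variable {G : Type u} [Group G]

/-- `R` is a `z`-layer over the `x`-core of `W`. -/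
structure IsLayer (x z : ℕ) (W R : Subgroup G) : Prop where
  ge : pCoreOf x W ≤ R
  le : R ≤ W
  inv : normalizer (W : Set G) ≤ normalizer (R : Set G)
  pow : ∀ r ∈ R, ∃ k : ℕ, r ^ z ^ k ∈ pCoreOf x W

/-- The elements commuting with `P` modulo `T`. -/
def modCentralizer (T P : Subgroup G) : Subgroup G where
  carrier := {r | r ∈ normalizer (T : Set G) ∧ ∀ v ∈ P, ⁅r, v⁆ ∈ T}
  one_mem' := ⟨one_mem _, fun v _ => by rw [commutatorElement_one_left]; exact one_mem T⟩
  mul_mem' := by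
    rintro a b ⟨ha, ha'⟩ ⟨hb, hb'⟩
    refine ⟨mul_mem ha hb, fun v hv => ?_⟩
    rw [show ⁅a * b, v⁆ = a * ⁅b, v⁆ * a⁻¹ * ⁅a, v⁆ by simp only [commutatorElement_def]; group]
    exact mul_mem ((mem_normalizer_iff.1 ha _).1 (hb' v hv)) (ha' v hv)
  inv_mem' := by
    rintro a ⟨ha, ha'⟩
    refine ⟨inv_mem ha, fun v hv => ?_⟩
    rw [show ⁅a⁻¹, v⁆ = a⁻¹ * ⁅a, v⁆⁻¹ * a⁻¹⁻¹ by simp only [commutatorElement_def]; group]
    exact (mem_normalizer_iff.1 (inv_mem ha) _).1 (inv_mem (ha' v hv))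

theorem le_modCentralizer {R T P : Subgroup G} (hn : R ≤ normalizer (T : Set G))
    (h : ⁅R, P⁆ ≤ T) : R ≤ modCentralizer T P :=
  fun r hr => ⟨hn hr, fun v hv => h (commutator_mem_commutator hr hv)⟩

theorem le_normalizer_modCentralizer {B T P : Subgroup G} (hT : B ≤ normalizer (T : Set G))
    (hP : B ≤ normalizer (P : Set G)) : B ≤ normalizer (modCentralizer T P : Set G) := by
  intro b hb
  have key : ∀ c ∈ B, ∀ r ∈ modCentralizer T P, c * r * c⁻¹ ∈ modCentralizer T P := by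
    rintro c hc r ⟨hr, hr'⟩
    refine ⟨mul_mem (mul_mem (hT hc) hr) (inv_mem (hT hc)), fun v hv => ?_⟩
    rw [show ⁅c * r * c⁻¹, v⁆ = c * ⁅r, c⁻¹ * v * c⁻¹⁻¹⁆ * c⁻¹ by
      simp only [commutatorElement_def]; group]
    exact (mem_normalizer_iff.1 (hT hc) _).1
      (hr' _ ((mem_normalizer_iff.1 (inv_mem (hP hc)) _).1 hv))
  refine mem_normalizer_iff.2 fun r => ⟨key b hb r, fun h => ?_⟩
  have h1 := key b⁻¹ (inv_mem hb) _ h
  simpa [mul_assoc] using h1

theorem commutator_le_of_modCentralizer {R T P : Subgroup G} (h : R ≤ modCentralizer T P) :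
    ⁅R, P⁆ ≤ T :=
  commutator_le.2 fun r hr v hv => (h hr).2 v hv

variable [Finite G]

theorem eq_one_of_pow_mem {x z : ℕ} [hx : Fact x.Prime] (hz : z.Prime) (hne : z ≠ x) {K : Subgroup G}
    (hK : IsPGroup x K) {T : Subgroup G} {r : G} (hr : r ∈ K) {k : ℕ} (h : r ^ z ^ k ∈ T) : r ∈ T := by
  obtain ⟨n, hn⟩ := IsPGroup.iff_orderOf.1 hK ⟨r, hr⟩
  rw [orderOf_mk] at hn
  have hco : (orderOf r).Coprime (z ^ k) :=
    hn ▸ Nat.Coprime.pow _ _ ((Nat.coprime_primes hx.out hz).2 (Ne.symm hne))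
  obtain ⟨m, hm⟩ := exists_pow_eq_self_of_coprime hco.symm
  rw [← hm]
  exact pow_mem h m

theorem IsLayer.pgroup_le {x z : ℕ} [Fact x.Prime] (hz : z.Prime) (hne : z ≠ x) {W R K : Subgroup G}
    (hR : IsLayer x z W R) (hK : IsPGroup x K) (hKR : K ≤ R) : K ≤ pCoreOf x W := fun r hr => by
  obtain ⟨k, hk⟩ := hR.pow r (hKR hr)
  exact eq_one_of_pow_mem hz hne hK hr hk

theorem IsLayer.normalizes {x z : ℕ} {W R : Subgroup G} (hR : IsLayer x z W R) :
    R ≤ normalizer (pCoreOf x W : Set G) :=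
  hR.le.trans (FitOf.le_normalizer_pCoreOf x W)

theorem IsLayer.dvd {x z : ℕ} [hx : Fact x.Prime] (hz : z.Prime) {W R : Subgroup G}
    (hR : IsLayer x z W R) {q : ℕ} (hq : q.Prime) (hd : q ∣ Nat.card R) : q = x ∨ q = z := by
  haveI := Fact.mk hq
  obtain ⟨⟨r, hr⟩, ho⟩ := exists_prime_orderOf_dvd_card' q hd
  rw [orderOf_mk] at ho
  obtain ⟨k, hk⟩ := hR.pow r hr
  by_contra h
  simp only [not_or] at h
  have hco : (orderOf r).Coprime (z ^ k) :=
    ho ▸ ((Nat.coprime_primes hq hz).2 h.2).pow_right k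
  obtain ⟨m, hm⟩ := exists_pow_eq_self_of_coprime hco.symm
  have hrT : r ∈ pCoreOf x W := hm ▸ pow_mem hk m
  obtain ⟨n, hn⟩ := IsPGroup.iff_orderOf.1 (FitOf.isPGroup_pCoreOf x W) ⟨r, hrT⟩
  rw [orderOf_mk, ho] at hn
  exact h.1 ((Nat.prime_dvd_prime_iff_eq hq hx.out).1 (hq.dvd_of_dvd_pow hn.dvd))

/-- An `x`-subgroup centralising all layers over the `x`-core lies in the `x`-core. -/
theorem le_pCoreOf_of_layers {x : ℕ} [hx : Fact x.Prime] {W J : Subgroup G} (hW : Group.IsSolvable W)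
    (hJW : J ≤ W) (hJ : IsPGroup x J)
    (h : ∀ (z : ℕ) (R : Subgroup G), z.Prime → z ≠ x → IsLayer x z W R → ⁅R, J⁆ ≤ pCoreOf x W) :
    J ≤ pCoreOf x W := by
  haveI := hW
  set T := Cfsg.pCore x W with hT
  haveI : T.Normal := FittingCores.pCore_normal x
  set f := QuotientGroup.mk' T with hf
  haveI : Group.IsSolvable (W ⧸ T) :=
    Group.isSolvable_of_surjective (QuotientGroup.mk'_surjective T)
  have hbot : Cfsg.pCore x (W ⧸ T) = ⊥ := by
    rw [eq_bot_iff]
    intro y hy
    obtain ⟨a, rfl⟩ := QuotientGroup.mk'_surjective _ y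
    exact Subgroup.mem_bot.2 ((QuotientGroup.eq_one_iff a).2 (FittingCores.le_pCore
      ((FittingCores.pCore_normal x).comap f) ((FittingCores.pCore_isPGroup x).comap_of_ker_isPGroup f
        (by rw [hf, QuotientGroup.ker_mk']; exact FittingCores.pCore_isPGroup x)) hy))
  set K := (J.subgroupOf W).map f with hK
  have hKp : IsPGroup x K := (hJ.of_equiv (subgroupOfEquivOfLe hJW).symm).map f
  have hKc : Cfsg.fittingSubgroup (W ⧸ T) ≤ centralizer (K : Set _) := by
    rw [FittingCores.fitting_eq_iSup_pCore]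
    refine iSup_le fun ⟨z, hz⟩ => ?_
    by_cases hzx : z = x
    · subst hzx
      rw [hbot]
      exact bot_le
    set R₀ := (Cfsg.pCore z (W ⧸ T)).comap f with hR₀
    haveI hn : R₀.Normal := (FittingCores.pCore_normal z).comap f
    have hchar : R₀.Characteristic := by
      refine characteristic_iff_map_le.2 fun φ => map_le_iff_le_comap.2 fun a ha => ?_
      have hTc : T.map φ.toMonoidHom = T :=
        characteristic_iff_map_eq.1 (FittingCores.pCore_characteristic x) φ
      let ψ := QuotientGroup.congr T T φ hTc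
      show f (φ a) ∈ Cfsg.pCore z (W ⧸ T)
      have := (characteristic_iff_map_eq.1 (FittingCores.pCore_characteristic (G := W ⧸ T) z) ψ).le
        ⟨f a, ha, rfl⟩
      exact this
    have hlayer : IsLayer x z W (R₀.map W.subtype) := by
      refine ⟨map_mono fun a ha => ?_, map_subtype_le _, normalizer_le_normalizer_map _ hchar, ?_⟩
      · show f a ∈ Cfsg.pCore z (W ⧸ T)
        rw [show f a = 1 from (QuotientGroup.eq_one_iff a).2 ha]
        exact one_mem _
      · rintro _ ⟨a, ha, rfl⟩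
        obtain ⟨k, hk⟩ := (FittingCores.pCore_isPGroup z) ⟨f a, ha⟩
        refine ⟨k, a ^ z ^ k, (QuotientGroup.eq_one_iff _).1 ?_, by simp⟩
        exact (map_pow f a _).trans (congrArg Subtype.val hk :)
    have hcomm := h z _ hz hzx hlayer
    intro y hy
    obtain ⟨a, rfl⟩ := QuotientGroup.mk'_surjective _ y
    refine mem_centralizer_iff.2 ?_
    rintro _ ⟨j, hj, rfl⟩
    obtain ⟨t, ht, hte⟩ := hcomm (commutator_mem_commutator
      (show (a : G) ∈ R₀.map W.subtype from ⟨a, hy, rfl⟩) (show (j : G) ∈ J from hj))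
    have hte' : t = ⁅a, j⁆ := Subtype.ext (by simpa [commutatorElement_def] using hte)
    have h1 : ⁅f a, f j⁆ = 1 := by
      rw [← map_commutatorElement, ← hte']
      exact (QuotientGroup.eq_one_iff t).2 ht
    exact ((commutatorElement_eq_one_iff_mul_comm).1 h1).symm
  have hKF : K ≤ Cfsg.fittingSubgroup (W ⧸ T) :=
    (Subgroup.le_centralizer_iff.1 hKc).trans FittingCores.centralizer_fitting_le
  haveI := FittingCores.fitting_nilpotent (G := W ⧸ T)
  obtain ⟨S, hS⟩ := (hKp.of_equiv (subgroupOfEquivOfLe hKF).symm).exists_le_sylow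
  have hKb : K ≤ ⊥ := fun y hy => hbot ▸ FittingCores.sylow_le_pCore_of_nilpotent (G := W ⧸ T)
    FittingCores.fitting_normal x S ⟨⟨y, hKF hy⟩, hS hy, rfl⟩
  intro j hj
  exact ⟨⟨j, hJW hj⟩, (QuotientGroup.eq_one_iff _).1 (mem_bot.1 (hKb ⟨⟨j, hJW hj⟩, hj, rfl⟩)), rfl⟩

/-- The fixed point criterion of Hall and Higman, modulo a coprime normal subgroup. -/
theorem hh_mod {p t s : ℕ} [hp : Fact p.Prime] [Fact t.Prime] [Fact s.Prime] (hst : s ≠ t)
    (hsp : s ≠ p) (htp : t ≠ p) {P R T : Subgroup G} {a : G} (ha : orderOf a = p)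
    (hP : IsPGroup t P) (ht : t ≠ 2 ∨ IsMulCommutative P) (haP : a ∈ normalizer (P : Set G))
    (hTR : T ≤ R) (hR : ∀ r ∈ R, ∃ k : ℕ, r ^ s ^ k ∈ T) (hRp : ¬ p ∣ Nat.card R)
    (haT : a ∈ normalizer (T : Set G)) (hPT : P ≤ normalizer (T : Set G))
    (hRT : R ≤ normalizer (T : Set G)) (haR : a ∈ normalizer (R : Set G))
    (hPR : P ≤ normalizer (R : Set G)) (hfix : ⁅R ⊓ centralizer ({a} : Set G), P⁆ ≤ T) :
    ⁅R, ⁅P, zpowers a⁆⁆ ≤ T := by
  set N := normalizer (T : Set G) with hN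
  haveI : (T.subgroupOf N).Normal := normal_in_normalizer
  set f := QuotientGroup.mk' (T.subgroupOf N) with hf
  set a' : N := ⟨a, haT⟩
  have hTp : ¬ p ∣ Nat.card T := fun h => hRp (h.trans (card_dvd_of_le hTR))
  have hfa : orderOf (f a') = p := by
    refine orderOf_eq_prime ?_ fun h => ?_
    · rw [← map_pow]
      have : a' ^ p = 1 := Subtype.ext (by simpa [ha] using pow_orderOf_eq_one a)
      rw [this, map_one]
    · have h1 : a ∈ T := (QuotientGroup.eq_one_iff (N := T.subgroupOf N) a').1 h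
      exact hTp (ha ▸ orderOf_mk (H := T) a h1 ▸ orderOf_dvd_natCard _)
  set P' := (P.subgroupOf N).map f with hP'
  set R' := (R.subgroupOf N).map f with hR'
  have hnorm : ∀ (X : Subgroup G) (y : N), (y : G) ∈ normalizer (X : Set G) →
      f y ∈ normalizer ((X.subgroupOf N).map f : Set _) := fun X y hy =>
    Subgroup.le_normalizer_map f ⟨y, mem_normalizer_iff.2 fun w => mem_normalizer_iff.1 hy (w : G), rfl⟩
  have hR's : IsPGroup s R' := by
    rintro ⟨_, r, hr, rfl⟩
    obtain ⟨k, hk⟩ := hR r hr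
    refine ⟨k, Subtype.ext ?_⟩
    show f r ^ s ^ k = 1
    rw [← map_pow]
    exact (QuotientGroup.eq_one_iff _).2 (show ((r ^ s ^ k : N) : G) ∈ T by simpa using hk)
  have hcop : (Nat.card (zpowers a')).Coprime (Nat.card (R.subgroupOf N)) := by
    rw [Nat.card_zpowers, ← orderOf_injective N.subtype N.subtype_injective a',
      show orderOf (N.subtype a') = p from ha, Nat.card_congr (subgroupOfEquivOfLe hRT).toEquiv]
    exact hp.out.coprime_iff_not_dvd.2 hRp
  have hz : zpowers a' ≤ normalizer (R.subgroupOf N : Set N) :=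
    zpowers_le.2 (mem_normalizer_iff.2 fun w => mem_normalizer_iff.1 haR (w : G))
  have hmap := CoprimeAct.map_inf_centralizer f hz hcop
    (Or.inl (Group.isSolvable_of_comm fun x y => mul_comm' x y))
  rw [MonoidHom.map_zpowers, centralizer_zpowers_eq, centralizer_zpowers_eq] at hmap
  have key : ⁅P', zpowers (f a')⁆ ≤ centralizer (R' : Set _) := by
    refine hh hst hsp htp hfa ((hP.of_equiv (subgroupOfEquivOfLe hPT).symm).map f)
      (ht.imp_right fun hab => isMulCommutative_map (P := P.subgroupOf N) (.of_setLike_mul_comm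
        fun y hy w hw => Subtype.ext
          (by haveI := hab; exact setLike_mul_comm (S := Subgroup G) (s := P) hy hw)) f) (hnorm P a' haP) hR's (hnorm R a' haR) ?_ ?_
    · rintro _ ⟨y, hy, rfl⟩
      exact hnorm R y (hPR hy)
    · rw [← hmap]
      rintro _ ⟨y, hy, rfl⟩
      refine mem_centralizer_iff.2 ?_
      rintro _ ⟨r, ⟨hr, hra⟩, rfl⟩
      have hra' : (r : G) ∈ centralizer ({a} : Set G) := mem_centralizer_singleton_iff.2
        (congrArg Subtype.val (mem_centralizer_singleton_iff.1 hra) :)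
      have h1 : ⁅f r, f y⁆ = 1 := by
        rw [← map_commutatorElement]
        exact (QuotientGroup.eq_one_iff _).2 (show ((⁅r, y⁆ : N) : G) ∈ T from
          hfix (commutator_mem_commutator (show (r : G) ∈ R ⊓ centralizer ({a} : Set G) from
            ⟨hr, hra'⟩) hy))
      exact commutatorElement_eq_one_iff_mul_comm.1 h1
  refine commutator_le.2 fun r hr v hv => ?_
  have hPa : ⁅P, zpowers a⁆ ≤ (⁅P.subgroupOf N, zpowers a'⁆).map N.subtype := by
    rw [map_commutator, subgroupOf_map_subtype, inf_eq_left.2 hPT, MonoidHom.map_zpowers]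
    rfl
  obtain ⟨v', hv', rfl⟩ := hPa hv
  have hv'' : f v' ∈ ⁅P', zpowers (f a')⁆ := by
    rw [hP', ← MonoidHom.map_zpowers, ← map_commutator]
    exact mem_map_of_mem f hv'
  have h1 := mem_centralizer_iff.1 (key hv'') (f ⟨r, hRT hr⟩) (mem_map_of_mem f hr)
  have h2 : f ⁅(⟨r, hRT hr⟩ : N), v'⁆ = 1 := by
    rw [map_commutatorElement]
    exact commutatorElement_eq_one_iff_mul_comm.2 h1
  exact (QuotientGroup.eq_one_iff (N := T.subgroupOf N) _).1 h2

end Cfsg.Agent.Signalizer.SFT
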