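import Cfsg.Agent.Lib.Signalizer.SFT.Hub
import Cfsg.Agent.Lib.Signalizer.SFT.Layers

/-!
The kernel of a prime with at least three primes: its position relative to the maxima.
-/

set_option autoImplicit false
set_option linter.style.haveILetI false
set_option linter.unusedSectionVars false
set_option linter.unusedVariables false

open scoped Pointwise commutatorElement

universe u

namespace Cfsg.Agent.Signalizer.SFT

open Subgroup
open Cfsg (pCoreOf fittingOf)
open Cfsg.Agent.OddOrder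

variable {G : Type u} [Group G] [Finite G]

/-- `U ≤ W` and `V ≤ T` commute when they normalise each other's containers. -/
theorem le_centralizer_of_normalizes {U V W T : Subgroup G} (hUW : U ≤ W) (hVT : V ≤ T)
    (hVW : V ≤ normalizer (W : Set G)) (hUT : U ≤ normalizer (T : Set G))
    (hco : (Nat.card W).Coprime (Nat.card T)) : U ≤ centralizer (V : Set G) := by
  intro u hu
  refine mem_centralizer_iff.2 fun v hv => ?_
  have h1 : ⁅u, v⁆ ∈ W := by
    rw [show ⁅u, v⁆ = u * (v * u⁻¹ * v⁻¹) by simp only [commutatorElement_def]; group]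
    exact mul_mem (hUW hu) ((mem_normalizer_iff.1 (hVW hv) _).1 (inv_mem (hUW hu)))
  have h2 : ⁅u, v⁆ ∈ T := by
    rw [show ⁅u, v⁆ = (u * v * u⁻¹) * v⁻¹ by simp only [commutatorElement_def]]
    exact mul_mem ((mem_normalizer_iff.1 (hUT hu) _).1 (hVT hv)) (inv_mem (hVT hv))
  exact ((commutatorElement_eq_one_iff_mul_comm).1
    (Subgroup.disjoint_def.1 (Subgroup.disjoint_of_coprime_natCard hco) h1 h2)).symm

/-- A commutator of normalised subgroups of `R` and `T` lies in both. -/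
theorem commutator_le_inf {U V R T : Subgroup G} (hUR : U ≤ R) (hVT : V ≤ T)
    (hVR : V ≤ normalizer (R : Set G)) (hUT : U ≤ normalizer (T : Set G)) : ⁅U, V⁆ ≤ R ⊓ T := by
  refine commutator_le.2 fun u hu v hv => Subgroup.mem_inf.2 ⟨?_, ?_⟩
  · rw [show ⁅u, v⁆ = u * (v * u⁻¹ * v⁻¹) by simp only [commutatorElement_def]; group]
    exact mul_mem (hUR hu) ((mem_normalizer_iff.1 (hVR hv) _).1 (inv_mem (hUR hu)))
  · rw [show ⁅u, v⁆ = (u * v * u⁻¹) * v⁻¹ by simp only [commutatorElement_def]]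
    exact mul_mem ((mem_normalizer_iff.1 (hUT hu) _).1 (hVT hv)) (inv_mem (hVT hv))

variable {p : ℕ} [hp : Fact p.Prime] {A : Subgroup G} {θ : G → Subgroup G}

namespace Setup

variable (S : Setup p A θ)
include S

theorem layer_mem {W R : Subgroup G} (hW : W ∈ Cfsg.signalizerFamily p A θ) {x z : ℕ}
    (hR : IsLayer x z W R) : R ∈ Cfsg.signalizerFamily p A θ :=
  family_mono hW hR.le ((family_normalizer hW).trans hR.inv)

theorem isPlane_sup {g h : G} (hg : g ∈ A) (hg1 : g ≠ 1) (hh : h ∈ A) (hhg : h ∉ zpowers g) :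
    IsPlane p A (zpowers g ⊔ zpowers h) := by
  have hn : zpowers h ≤ normalizer ((zpowers g : Subgroup G) : Set G) :=
    (zpowers_le.2 hh).trans (S.inv_zpowers hg)
  have h1 : h ≠ 1 := fun e => hhg (e ▸ one_mem _)
  refine ⟨sup_le (zpowers_le.2 hg) (zpowers_le.2 hh), ?_⟩
  rw [SolvBasic.card_sup_of_inf_eq_bot hn, S.card_zpowers hg hg1, S.card_zpowers hh h1, pow_two]
  rw [eq_bot_iff]
  intro z hz
  rw [mem_bot]
  by_contra hz1
  refine hhg ?_
  rw [← S.zpowers_eq_of_mem hg hg1 hz.1 hz1, S.zpowers_eq_of_mem hh h1 hz.2 hz1]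
  exact mem_zpowers h

theorem plane_eq {E F : Subgroup G} (hE : IsPlane p A E) (hF : IsPlane p A F) {g h : G}
    (hg : g ∈ E) (hg' : g ∈ F) (hg1 : g ≠ 1) (hh : h ∈ E) (hh' : h ∈ F) (hhg : h ∉ zpowers g) :
    E = F := by
  rw [← S.plane_gen hE hg hg1 hh hhg, S.plane_gen hF hg' hg1 hh' hhg]

end Setup

namespace Min2

variable (M₀ : Min2 p A θ)
include M₀

theorem layer_le_wc {W R : Subgroup G} (hW : W ∈ Cfsg.signalizerFamily p A θ)
    (hC : Cfsg.signalizerInf A θ ≤ normalizer (W : Set G)) {x z w : ℕ} [Fact x.Prime] (hz : z.Prime)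
    (hR : IsLayer x z W R) (hw : w ∈ primes A θ) (hwx : w ≠ x) (hwz : w ≠ z) :
    R ≤ wc p A θ w :=
  (M₀.wc_props hw).2.2.2 _ (M₀.layer_mem hW hR) (hC.trans hR.inv) fun q hq hd => by
    rcases hR.dvd hz hq hd with rfl | rfl
    · exact Ne.symm hwx
    · exact Ne.symm hwz

theorem sinkCore_props (x : ℕ) : sinkCore p A θ x ∈ Cfsg.signalizerFamily p A θ ∧
    Cfsg.signalizerInf A θ ≤ normalizer (sinkCore p A θ x : Set G) := by
  have hQ := M₀.qOf_props x
  exact ⟨family_mono hQ.1 inf_le_left (le_normalizer_inf (family_normalizer hQ.1)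
      (le_normalizer_iInf fun w => (family_normalizer (M₀.wc_props w.2.1).1).trans
        (normalizer_le_normalizer_pCoreOf x _))),
    le_normalizer_inf hQ.2.1 (le_normalizer_iInf fun w =>
      (M₀.wc_props w.2.1).2.1.trans (normalizer_le_normalizer_pCoreOf x _))⟩

theorem sinkCore_isPGroup {x : ℕ} (hx : x.Prime) : IsPGroup x (sinkCore p A θ x) :=
  (M₀.qOf_isPGroup hx).to_le inf_le_left

theorem qOf_normalizes_sinkCore {x : ℕ} (hx : x.Prime) :
    qOf p A θ x ≤ normalizer (sinkCore p A θ x : Set G) :=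
  Signalizer.le_normalizer_inf le_normalizer (le_normalizer_iInf fun w =>
    (M₀.qOf_le_wc hx w.2.1 (Ne.symm w.2.2)).trans (FitOf.le_normalizer_pCoreOf x _))

end Min2

namespace Min3

variable (M₀ : Min3 p A θ)
include M₀

/-- A part of the kernel centralises the other Fitting cores of a member containing it. -/
theorem sinkCore_centralizes {x : ℕ} (hx : x.Prime) {X V : Subgroup G}
    (hX : X ∈ Cfsg.signalizerFamily p A θ) (hC : Cfsg.signalizerInf A θ ≤ normalizer (X : Set G))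
    (hV : V ≤ sinkCore p A θ x) (hVX : V ≤ X) {s : ℕ} (hs : s.Prime) (hsx : s ≠ x) :
    V ≤ centralizer (pCoreOf s X : Set G) := by
  obtain ⟨v, hv, hvs, hvx⟩ := M₀.three s x
  haveI := Fact.mk hx
  exact le_centralizer_of_mutual hVX (hV.trans (M₀.sinkCore_le_wc hv hvx))
    (((M₀.pCoreOf_le_qOf hs hX hC).trans (M₀.qOf_le_wc hs hv (Ne.symm hvs))).trans
      (FitOf.le_normalizer_pCoreOf x _))
    (FitOf.pCoreOf_le s X) (FitOf.le_normalizer_pCoreOf s X)
    (coprime_of_ne hx hs (Ne.symm hsx) (FitOf.isPGroup_pCoreOf x _) (FitOf.isPGroup_pCoreOf s _))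

theorem mem_fitPrimes_of_kernel {x : ℕ} (hx : x.Prime) {H V : Subgroup G} (hH : IsMax p A θ H)
    (hV : V ≤ sinkCore p A θ x) (hV1 : V ≠ ⊥) (hVH : V ≤ H) : x ∈ fitPrimes H := by
  refine ⟨hx, fun h0 => hV1 (le_bot_iff.1 (h0 ▸ M₀.mem_pCoreOf_of_centralizes hH.mem hVH hx
    ((M₀.sinkCore_isPGroup hx).to_le hV) fun s hs => ?_))⟩
  by_cases hsx : s = x
  · rw [hsx, h0]
    exact fun z _ => mem_centralizer_iff.2 fun y hy => by rw [mem_bot.1 hy, one_mul, mul_one]
  · exact M₀.sinkCore_centralizes hx hH.mem (hH.core.trans le_normalizer) hV hVH hs hsx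

/-- The kernel is fixed-point-free under a bad point. -/
theorem sinkCore_inf_eq_bot {x : ℕ} (hx : x.Prime) {b : G} (hb : b ∈ A) (hb1 : b ≠ 1)
    (hbad : ¬ Good p A θ x b) : sinkCore p A θ x ⊓ centralizer ({b} : Set G) = ⊥ := by
  obtain ⟨H, hH, hbH⟩ := M₀.exists_maxOf hb hb1
  exact Classical.byContradiction fun h => hbad ⟨H, hH, hbH, M₀.mem_fitPrimes_of_kernel hx hH
    inf_le_left h (((M₀.sinkCore_props x).1.2.2.2 b hb hb1).trans hbH)⟩

/-- The kernel lies in the core of every maximum with that prime. -/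
theorem sinkCore_le_core {x : ℕ} {H : Subgroup G} (hH : IsMax p A θ H) (hx : x ∈ fitPrimes H) :
    sinkCore p A θ x ≤ pCoreOf x H := by
  haveI := Fact.mk hx.1
  set J := sinkCore p A θ x with hJ
  set T := pCoreOf x H with hT
  have h1 : J ⊓ H ≤ T := by
    refine le_pCoreOf_of_layers hH.mem.1 inf_le_right
      ((M₀.sinkCore_isPGroup hx.1).to_le inf_le_left) fun z R hz hzx hR => ?_
    obtain ⟨w, hw, hwx, hwz⟩ := M₀.three x z
    have h2 : ⁅R, J ⊓ H⁆ ≤ R ⊓ pCoreOf x (wc p A θ w) :=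
      commutator_le_inf le_rfl (inf_le_left.trans (M₀.sinkCore_le_wc hw hwx))
        ((inf_le_right.trans le_normalizer).trans hR.inv)
        ((M₀.layer_le_wc hH.mem (hH.core.trans le_normalizer) hz hR hw hwx hwz).trans
          (FitOf.le_normalizer_pCoreOf x _))
    exact h2.trans (hR.pgroup_le hz hzx ((FitOf.isPGroup_pCoreOf x _).to_le inf_le_right) inf_le_left)
  by_contra hno
  have hTQ : T ≤ qOf p A θ x := M₀.max_core_le_qOf hx.1 hH
  have hn : T ≤ normalizer (J : Set G) := hTQ.trans (M₀.qOf_normalizes_sinkCore hx.1)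
  have hKQ : J ⊔ T ≤ qOf p A θ x := sup_le inf_le_left hTQ
  have hne : T ≠ J ⊔ T := fun e => hno (e.symm ▸ le_sup_left)
  refine normalizer_inf_not_le ((M₀.qOf_isPGroup hx.1).to_le hKQ) le_sup_right hne ?_
  have hYm : normalizer (T : Set G) ⊓ (J ⊔ T) ∈ Cfsg.signalizerFamily p A θ :=
    family_mono (M₀.qOf_props x).1 (inf_le_right.trans hKQ) (le_normalizer_inf
      (((family_normalizer hH.mem).trans (normalizer_le_normalizer_pCoreOf x H)).trans le_normalizer)
      (le_normalizer_sup (family_normalizer (M₀.sinkCore_props x).1)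
        ((family_normalizer hH.mem).trans (normalizer_le_normalizer_pCoreOf x H))))
  have hYH := M₀.le_of_normalizes_core hH hx hYm inf_le_left
  intro y hy
  obtain ⟨j, hj, t, ht, rfl⟩ := (SolvBasic.mem_sup_iff_of_le_normalizer hn).1 hy.2
  refine mul_mem (h1 ⟨hj, ?_⟩) ht
  simpa using mul_mem (hYH hy) (inv_mem (FitOf.pCoreOf_le x H ht))

/-- A plane with two good points normalises the kernel, for an odd prime. -/
theorem plane_normalizes_sinkCore {x : ℕ} (hx : x.Prime) (hx2 : x ≠ 2) (hxp : x ≠ p)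
    {E : Subgroup G} (hE : IsPlane p A E) {g h : G} (hg : g ∈ E) (hg1 : g ≠ 1) (hh : h ∈ E)
    (hhg : h ∉ zpowers g) (hgood : Good p A θ x g) (hgood' : Good p A θ x h) :
    Cfsg.signalizerInf E θ ≤ normalizer (sinkCore p A θ x : Set G) := by
  classical
  haveI := Fact.mk hx
  let I := {i : G × Subgroup G // i.1 ∈ E ∧ i.1 ≠ 1 ∧ IsMax p A θ i.2 ∧ θ i.1 ≤ i.2 ∧ x ∈ fitPrimes i.2}
  set P := ⨅ i : I, pCoreOf x i.1.2 with hPdef
  obtain ⟨H₀, hH₀, hgH₀, hxH₀⟩ := hgood
  let i₀ : I := ⟨(g, H₀), hg, hg1, hH₀, hgH₀, hxH₀⟩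
  have hP0 : P ≤ pCoreOf x H₀ := iInf_le (fun i : I => pCoreOf x i.1.2) i₀
  have hPA : A ≤ normalizer (P : Set G) := le_normalizer_iInf fun i =>
    (family_normalizer i.2.2.2.1.mem).trans (normalizer_le_normalizer_pCoreOf x _)
  have hθE : Cfsg.signalizerInf E θ ≤ normalizer (P : Set G) := le_normalizer_iInf fun i =>
    ((M₀.mem_inf hE i.2.1 i.2.2.1).trans i.2.2.2.2.1).trans (FitOf.le_normalizer_pCoreOf x _)
  have hJP : sinkCore p A θ x ≤ P := le_iInf fun i => M₀.sinkCore_le_core i.2.2.2.1 i.2.2.2.2.2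
  have hPQ : P ≤ qOf p A θ x := hP0.trans (M₀.max_core_le_qOf hx hH₀)
  have hPp : IsPGroup x P := (FitOf.isPGroup_pCoreOf x H₀).to_le hP0
  have hfix : ∀ (w z : ℕ) (R : Subgroup G), w ∈ primes A θ → w ≠ x → z.Prime → z ≠ x →
      IsLayer x z (wc p A θ w) R → ∀ e ∈ E, e ≠ 1 → Good p A θ x e →
      ⁅R ⊓ centralizer ({e} : Set G), P⁆ ≤ pCoreOf x (wc p A θ w) := by
    rintro w z R hw hwx hz hzx hR e he he1 ⟨H, hH, heH, hxH⟩
    have hle : P ≤ pCoreOf x H :=
      iInf_le (fun i : I => pCoreOf x i.1.2) ⟨(e, H), he, he1, hH, heH, hxH⟩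
    refine (commutator_le_inf inf_le_left hle
      ((hPQ.trans (M₀.qOf_le_wc hx hw (Ne.symm hwx))).trans (le_normalizer.trans hR.inv))
      ((((M₀.layer_mem (M₀.wc_props hw).1 hR).2.2.2 e (hE.1 he) he1).trans heH).trans
        (FitOf.le_normalizer_pCoreOf x H))).trans ?_
    exact hR.pgroup_le hz hzx ((FitOf.isPGroup_pCoreOf x H).to_le inf_le_right) inf_le_left
  have heq : ∀ R' : Subgroup G, R' ≤ P → sinkCore p A θ x ≤ R' →
      (∀ (w z : ℕ) (R : Subgroup G), w ∈ primes A θ → w ≠ x → z.Prime → z ≠ x →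
        IsLayer x z (wc p A θ w) R → ⁅R, R'⁆ ≤ pCoreOf x (wc p A θ w)) →
      R' = sinkCore p A θ x := fun R' hR' hJR' hcomm =>
    le_antisymm (le_inf (hR'.trans hPQ) (le_iInf fun ⟨w, hw, hwx⟩ =>
      le_pCoreOf_of_layers (M₀.wc_props hw).1.1 ((hR'.trans hPQ).trans (M₀.qOf_le_wc hx hw (Ne.symm hwx)))
        (hPp.to_le hR') fun z R hz hzx hR => hcomm w z R hw hwx hz hzx hR)) hJR'
  by_cases hbad : ∃ b ∈ E, b ≠ 1 ∧ ¬ Good p A θ x b
  · obtain ⟨b, hb, hb1, hbad⟩ := hbad
    have hJb : sinkCore p A θ x ≤ ⁅P, E⁆ := by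
      have h1 := M₀.commutator_sup (M₀.sinkCore_props x).1 (hE.1 hb)
      rw [M₀.sinkCore_inf_eq_bot hx (hE.1 hb) hb1 hbad, sup_bot_eq] at h1
      exact h1.ge.trans (commutator_mono hJP (zpowers_le.2 hb))
    rw [← heq ⁅P, E⁆ (CoprimeAct.commutator_le_left (hE.1.trans hPA)) hJb ?_]
    · exact le_normalizer_commutator hθE
        ((signalizerInf_le_centralizer M₀.fn.1 hE.1).trans (centralizer_le_normalizer _))
    intro w z R hw hwx hz hzx hR
    haveI := Fact.mk hz
    have hWm := (M₀.wc_props hw).1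
    have hRm := M₀.layer_mem hWm hR
    have hTA : A ≤ normalizer (pCoreOf x (wc p A θ w) : Set G) :=
      (family_normalizer hWm).trans (normalizer_le_normalizer_pCoreOf x _)
    by_cases hzp : z = p
    · -- a layer for `p` is trivial
      have hR0 : R ≤ pCoreOf x (wc p A θ w) := by
        refine hR.pgroup_le hz hzx ?_ le_rfl
        rw [← isSigma_singleton_iff hx]
        intro q hq hd
        rcases hR.dvd hz hq hd with h | h
        · exact h
        · exact absurd ((h.trans hzp) ▸ hd) hRm.2.1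
      rw [commutator_comm]
      exact (commutator_mono le_rfl hR0).trans ((commutator_comm _ _).trans_le
        (CoprimeAct.commutator_le_left
          (((CoprimeAct.commutator_le_left (hE.1.trans hPA)).trans hPQ).trans
            ((M₀.qOf_le_wc hx hw (Ne.symm hwx)).trans (FitOf.le_normalizer_pCoreOf x _)))))
    have hkey : ∀ e ∈ E, e ≠ 1 → Good p A θ x e →
        ⁅R, ⁅P, zpowers e⁆⁆ ≤ pCoreOf x (wc p A θ w) := fun e he he1 hge =>
      hh_mod hzx hzp hxp (M₀.orderOf_eq (hE.1 he) he1) hPp (Or.inl hx2) (hPA (hE.1 he)) hR.ge hR.pow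
        hRm.2.1 (hTA (hE.1 he))
        ((hPQ.trans (M₀.qOf_le_wc hx hw (Ne.symm hwx))).trans (FitOf.le_normalizer_pCoreOf x _))
        hR.normalizes (family_normalizer hRm (hE.1 he))
        ((hPQ.trans (M₀.qOf_le_wc hx hw (Ne.symm hwx))).trans (le_normalizer.trans hR.inv))
        (hfix w z R hw hwx hz hzx hR e he he1 hge)
    have hD : ∀ e ∈ E, e ≠ 1 → Good p A θ x e → ⁅P, zpowers e⁆ ≤ modCentralizer (pCoreOf x (wc p A θ w)) R :=
      fun e he he1 hge => le_modCentralizer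
        ((((CoprimeAct.commutator_le_left ((zpowers_le.2 (hE.1 he)).trans hPA)).trans hPQ).trans
          (M₀.qOf_le_wc hx hw (Ne.symm hwx))).trans (FitOf.le_normalizer_pCoreOf x _))
        ((commutator_comm _ _).trans_le (hkey e he he1 hge))
    rw [commutator_comm]
    refine commutator_le_of_modCentralizer (M₀.commutator_plane_le hE hg hg1 hh hhg ?_
      (hD g hg hg1 ⟨H₀, hH₀, hgH₀, hxH₀⟩) (hD h hh (fun e => hhg (e ▸ one_mem _)) hgood'))
    exact le_normalizer_modCentralizer hTA (family_normalizer hRm)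
  · rw [← heq P le_rfl hJP ?_]
    · exact hθE
    intro w z R hw hwx hz hzx hR
    have hRm := M₀.layer_mem (M₀.wc_props hw).1 hR
    exact commutator_le_of_modCentralizer (M₀.le_of_points hE (hE.1.trans (family_normalizer hRm))
      hRm.2.1 fun e he he1 => le_modCentralizer (inf_le_left.trans hR.normalizes)
        (hfix w z R hw hwx hz hzx hR e he he1 (Classical.byContradiction fun h => hbad ⟨e, he, he1, h⟩)))

end Min3

end Cfsg.Agent.Signalizer.SFT
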