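import Cfsg.Agent.Lib.Signalizer.SFT.Crit

/-!
A minimal counterexample to the solvable signalizer functor theorem: greatest members in normalizers,
and the completeness criteria.
-/

set_option autoImplicit false
set_option linter.style.haveILetI false
set_option linter.unusedSectionVars false
set_option linter.unusedVariables false

open scoped Pointwise commutatorElement

universe u

namespace Cfsg.Agent.Signalizer.SFT

open Subgroup

variable {G : Type u} [Group G] [Finite G]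

/-- A counterexample of least size. -/
structure Min (p : ℕ) (A : Subgroup G) (θ : G → Subgroup G) : Prop extends Setup p A θ where
  ih : ∀ (H : Type u) [Group H] [Finite H] (A' : Subgroup H) (θ' : H → Subgroup H),
    Setup p A' θ' → size A' θ' < size A θ → Complete p A' θ'
  not_complete : ¬ Complete p A θ

theorem size_lt_of_le {A : Subgroup G} {θ θ' : G → Subgroup G}
    (hle : ∀ a ∈ A, a ≠ 1 → Nat.card (θ' a) ≤ Nat.card (θ a))
    (hlt : ∃ a ∈ A, a ≠ 1 ∧ Nat.card (θ' a) < Nat.card (θ a)) : size A θ' < size A θ := by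
  classical
  haveI := Fintype.ofFinite {a : G // a ∈ A ∧ a ≠ 1}
  unfold size
  rw [Nat.card_sigma, Nat.card_sigma]
  obtain ⟨a, ha, ha1, h⟩ := hlt
  exact Finset.sum_lt_sum (fun b _ => hle b.1 b.2.1 b.2.2) ⟨⟨a, ha, ha1⟩, Finset.mem_univ _, h⟩

variable {p : ℕ} [hp : Fact p.Prime] {A : Subgroup G} {θ : G → Subgroup G}

namespace Min

variable (M₀ : Min p A θ)
include M₀

/-- A smaller functor on the same group is complete. -/
theorem complete_of_lt {θ' : G → Subgroup G} (h : IsSolvableSignalizerFunctor p A θ')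
    (hle : ∀ a ∈ A, a ≠ 1 → θ' a ≤ θ a) (hlt : ∃ a ∈ A, a ≠ 1 ∧ θ' a ≠ θ a) : Complete p A θ' := by
  refine M₀.ih G A θ' ⟨M₀.ea, M₀.card, h⟩ (size_lt_of_le (fun a ha ha1 => card_le_of_le (hle a ha ha1)) ?_)
  obtain ⟨a, ha, ha1, hne⟩ := hlt
  exact ⟨a, ha, ha1, lt_of_le_of_ne (card_le_of_le (hle a ha ha1)) fun h =>
    hne (eq_of_le_of_card_ge (hle a ha ha1) h.ge)⟩

/-- The normalizer of a non-trivial member has a greatest member. -/
theorem exists_greatest {U : Subgroup G} (hU : U ∈ Cfsg.signalizerFamily p A θ) (hU1 : U ≠ ⊥) :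
    ∃ W ∈ Cfsg.signalizerFamily p A θ, W ≤ normalizer (U : Set G) ∧
      ∀ X ∈ Cfsg.signalizerFamily p A θ, X ≤ normalizer (U : Set G) → X ≤ W := by
  classical
  set N := normalizer (U : Set G) with hN
  have hAN : A ≤ N := family_normalizer hU
  haveI hUn : (U.subgroupOf N).Normal := normal_in_normalizer
  set f := QuotientGroup.mk' (U.subgroupOf N) with hf
  set A₀ := A.subgroupOf N with hA₀
  have hinj : ∀ a b : N, (a : G) ∈ A → (b : G) ∈ A → f a = f b → a = b := by
    intro a b ha hb h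
    have h1 : ((a⁻¹ * b : N) : G) ∈ U :=
      (QuotientGroup.eq (s := U.subgroupOf N)).1 h
    have h2 : ((a⁻¹ * b : N) : G) ∈ A := A.mul_mem (A.inv_mem ha) hb
    have h3 := Subgroup.disjoint_def.1
      (Subgroup.disjoint_of_coprime_natCard (M₀.coprime hU le_rfl)) h2 h1
    exact inv_mul_eq_one.1 (Subtype.ext h3 : a⁻¹ * b = 1)
  let A' := A₀.map f
  let θ' : (N ⧸ U.subgroupOf N) → Subgroup (N ⧸ U.subgroupOf N) := fun h =>
    ⨆ a : {a : N // (a : G) ∈ A ∧ f a = h}, ((θ (a.1 : G)).subgroupOf N).map f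
  have hθ' : ∀ a : N, (a : G) ∈ A → θ' (f a) = ((θ (a : G)).subgroupOf N).map f := by
    intro a ha
    refine le_antisymm (iSup_le fun b => ?_) ?_
    · rw [hinj b.1 a b.2.1 ha b.2.2]
    · exact le_iSup (fun b : {b : N // (b : G) ∈ A ∧ f b = f a} =>
        ((θ (b.1 : G)).subgroupOf N).map f) ⟨a, ha, rfl⟩
  have hsingle : ∀ a b : N, f a * f b = f b * f a → ∀ x ∈ centralizer ({f a} : Set _), x * f a = f a * x :=
    fun a b _ x hx => mem_centralizer_singleton_iff.1 hx
  have hS : Setup p A' θ' := by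
    refine ⟨⟨⟨⟨?_⟩⟩, ?_⟩, ?_, ⟨?_, ?_, ?_, ?_⟩, ?_⟩
    · rintro ⟨_, x, hx, rfl⟩ ⟨_, y, hy, rfl⟩
      exact Subtype.ext (by
        show f x * f y = f y * f x
        rw [← map_mul, ← map_mul, show x * y = y * x from Subtype.ext (M₀.comm hx hy)])
    · rintro _ ⟨x, hx, rfl⟩
      rw [← map_pow, show x ^ p = 1 from Subtype.ext (by simpa using M₀.ea.2 _ hx), map_one]
    · rw [← M₀.card, ← Nat.card_congr (subgroupOfEquivOfLe hAN).toEquiv]
      refine (Nat.card_congr (Equiv.ofBijective (fun a : A₀ => (⟨f a, a, a.2, rfl⟩ : A')) ⟨?_, ?_⟩)).symm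
      · intro a b h
        exact Subtype.ext (hinj a b a.2 b.2 (congrArg Subtype.val h))
      · rintro ⟨_, a, ha, rfl⟩
        exact ⟨⟨a, ha⟩, rfl⟩
    · rintro _ ⟨a, ha, rfl⟩ ha1
      have ha1' : (a : G) ≠ 1 := fun h => ha1 (by rw [show a = 1 from Subtype.ext h, map_one])
      rw [hθ' a ha]
      rintro _ ⟨x, hx, rfl⟩
      refine mem_centralizer_singleton_iff.2 ?_
      rw [← map_mul, ← map_mul, show x * a = a * x from
        Subtype.ext (mem_centralizer_singleton_iff.1 (M₀.theta_le_centralizer ha ha1' hx))]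
    · rintro _ ⟨a, ha, rfl⟩ ha1
      have ha1' : (a : G) ≠ 1 := fun h => ha1 (by rw [show a = 1 from Subtype.ext h, map_one])
      rw [hθ' a ha]
      intro hd
      refine M₀.fn.1.2.1 _ ha ha1' (hd.trans ((card_map_dvd _ f).trans ?_))
      rw [← inf_subgroupOf_right (θ (a : G)) N,
        Nat.card_congr (subgroupOfEquivOfLe (inf_le_right : θ (a : G) ⊓ N ≤ N)).toEquiv]
      exact card_dvd_of_le inf_le_left
    · rintro _ ⟨a, ha, rfl⟩ ha1 _ ⟨b, hb, rfl⟩ x hx
      have ha1' : (a : G) ≠ 1 := fun h => ha1 (by rw [show a = 1 from Subtype.ext h, map_one])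
      rw [hθ' a ha] at hx ⊢
      obtain ⟨y, hy, rfl⟩ := hx
      exact ⟨b * y * b⁻¹, M₀.fn.1.2.2.1 _ ha ha1' _ hb _ hy, by simp⟩
    · rintro _ ⟨a, ha, rfl⟩ ha1 _ ⟨b, hb, rfl⟩ hb1
      have ha1' : (a : G) ≠ 1 := fun h => ha1 (by rw [show a = 1 from Subtype.ext h, map_one])
      have hb1' : (b : G) ≠ 1 := fun h => hb1 (by rw [show b = 1 from Subtype.ext h, map_one])
      rw [hθ' a ha, hθ' b hb]
      set K := (θ (a : G)).subgroupOf N with hK
      have hzb : zpowers b ≤ normalizer (K : Set N) := by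
        refine zpowers_le.2 (mem_normalizer_fintype fun y hy => ?_)
        exact M₀.fn.1.2.2.1 _ ha ha1' _ hb _ hy
      have hcop : (Nat.card (zpowers b)).Coprime (Nat.card K) := by
        rw [Nat.card_zpowers, ← orderOf_injective N.subtype N.subtype_injective b,
          show orderOf (N.subtype b) = p from M₀.orderOf_eq hb hb1']
        refine hp.out.coprime_iff_not_dvd.2 fun hd => M₀.fn.1.2.1 _ ha ha1' (hd.trans ?_)
        rw [hK, ← inf_subgroupOf_right (θ (a : G)) N,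
          Nat.card_congr (subgroupOfEquivOfLe (inf_le_right : θ (a : G) ⊓ N ≤ N)).toEquiv]
        exact card_dvd_of_le inf_le_left
      have h := CoprimeAct.map_inf_centralizer f hzb hcop
        (Or.inl (Group.isSolvable_of_comm fun x y => mul_comm' x y))
      rw [MonoidHom.map_zpowers, centralizer_zpowers_eq, centralizer_zpowers_eq] at h
      rw [← h]
      exact map_mono fun y hy => M₀.fn.1.2.2.2 _ ha ha1' _ hb hb1'
        ⟨hy.1, mem_centralizer_singleton_iff.2
          (congrArg Subtype.val (mem_centralizer_singleton_iff.1 hy.2) :)⟩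
    · rintro _ ⟨a, ha, rfl⟩ ha1
      have ha1' : (a : G) ≠ 1 := fun h => ha1 (by rw [show a = 1 from Subtype.ext h, map_one])
      rw [hθ' a ha]
      haveI : Group.IsSolvable (θ (a : G)) := M₀.fn.2 _ ha ha1'
      haveI : Group.IsSolvable ((θ (a : G)).subgroupOf N) :=
        Group.isSolvable_of_isSolvable_injective
          (f := (N.subtype.comp ((θ (a : G)).subgroupOf N).subtype).codRestrict (θ (a : G))
            fun x => x.2)
          (fun x y h => Subtype.ext (Subtype.ext (congrArg Subtype.val h :)))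
      exact Group.isSolvable_of_surjective (MonoidHom.subgroupMap_surjective f _)
  have hcardle : ∀ a : N, (a : G) ∈ A → Nat.card (θ' (f a)) ≤ Nat.card (θ (a : G)) := by
    intro a ha
    rw [hθ' a ha]
    refine (Nat.le_of_dvd Nat.card_pos (card_map_dvd _ f)).trans ?_
    rw [← inf_subgroupOf_right (θ (a : G)) N,
      Nat.card_congr (subgroupOfEquivOfLe (inf_le_right : θ (a : G) ⊓ N ≤ N)).toEquiv]
    exact card_le_of_le inf_le_left
  have hlt : size A' θ' < size A θ := by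
    haveI := Fintype.ofFinite {a : G // a ∈ A ∧ a ≠ 1}
    haveI := Fintype.ofFinite {h : N ⧸ U.subgroupOf N // h ∈ A' ∧ h ≠ 1}
    unfold size
    rw [Nat.card_sigma, Nat.card_sigma]
    let e : {a : G // a ∈ A ∧ a ≠ 1} → {h : N ⧸ U.subgroupOf N // h ∈ A' ∧ h ≠ 1} := fun a =>
      ⟨f ⟨a.1, hAN a.2.1⟩, ⟨_, a.2.1, rfl⟩, fun h => a.2.2 (congrArg Subtype.val
        (hinj ⟨a.1, hAN a.2.1⟩ 1 a.2.1 (one_mem A) (h.trans (map_one f).symm)) :)⟩
    have he : Function.Bijective e := by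
      refine ⟨fun a b h => Subtype.ext (congrArg Subtype.val
        (hinj ⟨a.1, hAN a.2.1⟩ ⟨b.1, hAN b.2.1⟩ a.2.1 b.2.1 (congrArg Subtype.val h)) :), ?_⟩
      rintro ⟨_, ⟨a, ha, rfl⟩, ha1⟩
      exact ⟨⟨a.1, ha, fun h => ha1 (by rw [show a = 1 from Subtype.ext h, map_one])⟩, rfl⟩
    rw [← Fintype.sum_bijective e he (fun a => Nat.card (θ' (e a).1)) _ (fun a => rfl)]
    refine Finset.sum_lt_sum (fun a _ => hcardle ⟨a.1, hAN a.2.1⟩ a.2.1) ?_
    obtain ⟨E, hE⟩ : ∃ E, IsPlane p A E := by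
      obtain ⟨a, ha, -⟩ := M₀.exists_point
      obtain ⟨E, hE, -⟩ := M₀.exists_plane_mem ha
      exact ⟨E, hE⟩
    obtain ⟨a, ha, ha1, hne⟩ : ∃ a ∈ A, a ≠ 1 ∧ U ⊓ centralizer ({a} : Set G) ≠ ⊥ := by
      by_contra hno
      exact hU1 (le_bot_iff.1 (M₀.le_of_points hE (hE.1.trans (family_normalizer hU)) hU.2.1
        fun e he he1 => le_of_eq (Classical.byContradiction fun h => hno ⟨e, hE.1 he, he1, h⟩)))
    refine ⟨⟨a, ha, ha1⟩, Finset.mem_univ _, ?_⟩
    show Nat.card (θ' (f ⟨a, hAN ha⟩)) < Nat.card (θ a)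
    rw [hθ' _ ha]
    refine lt_of_lt_of_le ?_ (card_le_of_le (inf_le_left : θ a ⊓ N ≤ θ a))
    rw [← Nat.card_congr (subgroupOfEquivOfLe (inf_le_right : θ a ⊓ N ≤ N)).toEquiv,
      inf_subgroupOf_right]
    refine lt_of_le_of_ne (Nat.le_of_dvd Nat.card_pos (card_map_dvd _ f)) fun heq => hne ?_
    rw [eq_bot_iff]
    intro x hx
    have hxθ : x ∈ θ a := hU.2.2.2 a ha ha1 hx
    have hxN : x ∈ N := le_normalizer hx.1
    have hinj2 : Function.Injective (f.subgroupMap ((θ a).subgroupOf N)) :=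
      ((Nat.bijective_iff_surjective_and_card _).2
        ⟨MonoidHom.subgroupMap_surjective f _, heq.symm⟩).1
    have h0 : (⟨⟨x, hxN⟩, hxθ⟩ : (θ a).subgroupOf N) = 1 := hinj2 (Subtype.ext (by
      rw [map_one]
      exact (QuotientGroup.eq_one_iff _).2 hx.1))
    exact mem_bot.2 (congrArg (fun z : (θ a).subgroupOf N => ((z : N) : G)) h0)
  obtain ⟨W', hW', hW'θ⟩ := M₀.ih _ A' θ' hS hlt
  set P := W'.comap f with hP
  refine ⟨P.map N.subtype, ⟨?_, ?_, ?_, ?_⟩, map_subtype_le _, ?_⟩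
  · haveI := hW'.1
    haveI : Group.IsSolvable U := hU.1
    haveI : Group.IsSolvable (U.subgroupOf N) :=
      Group.isSolvable_of_isSolvable_injective
        (f := (subgroupOfEquivOfLe (le_normalizer : U ≤ N)).toMonoidHom)
        (subgroupOfEquivOfLe (le_normalizer : U ≤ N)).injective
    have hle : U.subgroupOf N ≤ P := fun x hx => by
      rw [hP, mem_comap, show f x = 1 from (QuotientGroup.eq_one_iff x).2 hx]
      exact one_mem _
    haveI : Group.IsSolvable P := by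
      refine Group.isSolvable_of_ker_le_range (inclusion hle)
        ((f.comp P.subtype).codRestrict W' fun x => x.2) fun x hx => ?_
      have h1 : f (x : N) = 1 := congrArg Subtype.val hx
      exact ⟨⟨x, (QuotientGroup.eq_one_iff _).1 h1⟩, Subtype.ext rfl⟩
    exact Group.isSolvable_of_surjective (MonoidHom.subgroupMap_surjective N.subtype P)
  · intro hd
    rw [card_map_of_injective N.subtype_injective] at hd
    obtain ⟨x, hx⟩ := exists_prime_orderOf_dvd_card' (G := P) p hd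
    have hxp : ((x : N) : G) ^ p = 1 := by
      have h := pow_orderOf_eq_one x
      rw [hx] at h
      exact congrArg (fun z : P => ((z : N) : G)) h
    have h1 : f (x : N) ^ p = 1 := by
      rw [← map_pow, show (x : N) ^ p = 1 from Subtype.ext (by simpa using hxp), map_one]
    have h2 : f (x : N) = 1 := by
      by_contra h
      exact hW'.2.1 ((orderOf_eq_prime h1 h) ▸
        (orderOf_mk (H := W') (f (x : N)) x.2 ▸ orderOf_dvd_natCard _))
    have h3 : ((x : N) : G) = 1 := by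
      by_contra h
      exact hU.2.1 ((orderOf_eq_prime hxp h) ▸ (orderOf_mk (H := U) _
        ((QuotientGroup.eq_one_iff (N := U.subgroupOf N) (x : N)).1 h2) ▸ orderOf_dvd_natCard _))
    rw [show x = 1 from Subtype.ext (Subtype.ext h3), orderOf_one] at hx
    exact hp.out.ne_one hx.symm
  · rintro b hb _ ⟨y, hy, rfl⟩
    refine ⟨⟨b, hAN hb⟩ * y * ⟨b, hAN hb⟩⁻¹, ?_, rfl⟩
    show f (⟨b, hAN hb⟩ * y * ⟨b, hAN hb⟩⁻¹) ∈ W'
    rw [map_mul, map_mul, map_inv]
    exact hW'.2.2.1 _ ⟨_, hb, rfl⟩ _ hy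
  · rintro a ha ha1 _ ⟨⟨y, hy, rfl⟩, hya⟩
    set a' : N := ⟨a, hAN ha⟩
    have hfa : f a' ≠ 1 := fun h => ha1 (congrArg Subtype.val
      (hinj a' 1 ha (one_mem A) (h.trans (map_one f).symm)) :)
    have hyc : y * a' = a' * y := Subtype.ext (mem_centralizer_singleton_iff.1 hya)
    have h1 : f y ∈ θ' (f a') := hW'.2.2.2 _ ⟨a', ha, rfl⟩ hfa
      ⟨hy, mem_centralizer_singleton_iff.2 (by rw [← map_mul, ← map_mul, hyc])⟩
    rw [hθ' a' ha] at h1
    obtain ⟨z, hz, hzy⟩ := h1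
    have hzU : ((y * z⁻¹ : N) : G) ∈ U := by
      have : f (y * z⁻¹) = 1 := by rw [map_mul, map_inv, hzy, mul_inv_cancel]
      exact (QuotientGroup.eq_one_iff (N := U.subgroupOf N) (y * z⁻¹)).1 this
    have hza : (z : G) ∈ θ a := hz
    have hzc := M₀.theta_le_centralizer ha ha1 hza
    have h2 : ((y * z⁻¹ : N) : G) ∈ θ a := hU.2.2.2 a ha ha1
      ⟨hzU, (centralizer ({a} : Set G)).mul_mem hya ((centralizer ({a} : Set G)).inv_mem hzc)⟩
    simpa [mul_assoc] using mul_mem h2 hza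
  · intro X hX hXN
    obtain ⟨a, ha, -⟩ := M₀.exists_point
    obtain ⟨E, hE, -⟩ := M₀.exists_plane_mem ha
    refine M₀.le_of_points hE (hE.1.trans (family_normalizer hX)) hX.2.1 fun e he he1 x hx => ?_
    refine ⟨⟨x, hXN hx.1⟩, ?_, rfl⟩
    have hfe : f ⟨e, hAN (hE.1 he)⟩ ≠ 1 := fun h => he1 (congrArg Subtype.val
      (hinj ⟨e, hAN (hE.1 he)⟩ 1 (hE.1 he) (one_mem A) (h.trans (map_one f).symm)) :)
    refine hW'θ _ ⟨_, hE.1 he, rfl⟩ hfe ?_
    rw [hθ' _ (hE.1 he)]
    exact ⟨⟨x, hXN hx.1⟩, hX.2.2.2 e (hE.1 he) he1 hx, rfl⟩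

/-- A non-trivial member normalised by every value gives completeness. -/
theorem false_of_normalized {U : Subgroup G} (hU : U ∈ Cfsg.signalizerFamily p A θ) (hU1 : U ≠ ⊥)
    (h : ∀ a ∈ A, a ≠ 1 → θ a ≤ normalizer (U : Set G)) : False := by
  obtain ⟨W, hW, -, hWmax⟩ := M₀.exists_greatest hU hU1
  exact M₀.not_complete ⟨W, hW, fun a ha ha1 => hWmax _ (M₀.theta_mem ha ha1) (h a ha ha1)⟩

/-- The criterion: no member contains all `[θ E, d]`. -/
theorem crit {d : G} (hd : d ∈ A) (hd1 : d ≠ 1) {W : Subgroup G}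
    (hW : W ∈ Cfsg.signalizerFamily p A θ)
    (h : ∀ E, IsPlane p A E → d ∉ E → ⁅Cfsg.signalizerInf E θ, zpowers d⁆ ≤ W) : False := by
  classical
  have hall : ∀ E, IsPlane p A E → ⁅Cfsg.signalizerInf E θ, zpowers d⁆ ≤ W := by
    intro E hE
    by_cases hdE : d ∈ E
    · rw [commutator_eq_bot_of_le_centralizer]
      · exact bot_le
      · rw [centralizer_zpowers_eq]
        exact (M₀.mem_inf hE hdE hd1).trans (M₀.theta_le_centralizer hd hd1)
    · exact h E hE hdE
  set Γ := ⨆ E : {E : Subgroup G // IsPlane p A E}, ⁅Cfsg.signalizerInf E.1 θ, zpowers d⁆ with hΓ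
  have hΓA : A ≤ normalizer (Γ : Set G) := le_normalizer_iSup fun E =>
    le_normalizer_commutator (family_normalizer (M₀.inf_mem E.2)) (M₀.inv_zpowers hd)
  have hΓm : Γ ∈ Cfsg.signalizerFamily p A θ := family_mono hW (iSup_le fun E => hall _ E.2) hΓA
  have hgen : ∀ c ∈ A, c ≠ 1 → ⁅θ c, zpowers d⁆ ≤ Γ := fun c hc hc1 =>
    M₀.commutator_le_of_planes (M₀.theta_mem hc hc1) hd fun E hE =>
      (commutator_mono (M₀.fixed_le_inf (M₀.theta_mem hc hc1) hE) le_rfl).trans
        (le_iSup (fun E : {E : Subgroup G // IsPlane p A E} =>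
          ⁅Cfsg.signalizerInf E.1 θ, zpowers d⁆) ⟨E, hE⟩)
  have hdn : θ d ≤ normalizer (Γ : Set G) := by
    refine M₀.le_of_planes (family_normalizer (M₀.theta_mem hd hd1)) (M₀.fn.1.2.1 d hd hd1)
      fun m hm y hy => mem_normalizer_fintype fun g hg => ?_
    suffices hle : Γ ≤ Γ.comap (MulAut.conj y).toMonoidHom from hle hg
    refine iSup_le fun E z hz => ?_
    obtain ⟨c, hcE, hcm, hc1⟩ := M₀.meet E.2 hm
    have hcA := E.2.1 hcE
    have hyc : y ∈ θ c := M₀.fn.1.2.2.2 d hd hd1 c hcA hc1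
      ⟨hy.1, mem_centralizer_singleton_iff.2 (mem_centralizer_iff.1 hy.2 c hcm).symm⟩
    have hz' : z ∈ ⁅θ c, zpowers d⁆ := commutator_mono (M₀.mem_inf E.2 hcE hc1) le_rfl hz
    exact hgen c hcA hc1 ((mem_normalizer_iff.1
      (normalizer_commutator_ge_left (θ c) (zpowers d) hyc) z).1 hz')
  have hnorm : ∀ b ∈ A, b ≠ 1 → θ b ≤ normalizer (Γ : Set G) := by
    intro b hb hb1
    rw [← M₀.commutator_sup (M₀.theta_mem hb hb1) hd]
    exact sup_le ((hgen b hb hb1).trans le_normalizer)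
      ((M₀.fn.1.2.2.2 b hb hb1 d hd hd1).trans hdn)
  by_cases hbot : Γ = ⊥
  · refine M₀.not_complete ⟨θ d, M₀.theta_mem hd hd1, fun b hb hb1 => ?_⟩
    rw [← M₀.commutator_sup (M₀.theta_mem hb hb1) hd]
    exact sup_le (((hgen b hb hb1).trans hbot.le).trans bot_le) (M₀.fn.1.2.2.2 b hb hb1 d hd hd1)
  · exact M₀.false_of_normalized hΓm hbot hnorm

/-- No member contains `θ E` for all planes missing a given point. -/
theorem false_of_planes {d : G} (hd : d ∈ A) (hd1 : d ≠ 1) {W : Subgroup G}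
    (hW : W ∈ Cfsg.signalizerFamily p A θ)
    (h : ∀ E, IsPlane p A E → d ∉ E → Cfsg.signalizerInf E θ ≤ W) : False := by
  refine M₀.crit hd hd1 hW fun E hE hdE => ?_
  exact (commutator_mono (h E hE hdE) le_rfl).trans
    (CoprimeAct.commutator_le_left ((zpowers_le.2 hd).trans (family_normalizer hW)))

/-- No member contains `θ b` for all but one point `d` of a plane. -/
theorem line {B : Subgroup G} (hB : IsPlane p A B) {d : G} (hdB : d ∈ B) (hd1 : d ≠ 1)
    {W : Subgroup G} (hW : W ∈ Cfsg.signalizerFamily p A θ)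
    (h : ∀ b ∈ B, b ∉ zpowers d → θ b ≤ W) : False := by
  refine M₀.false_of_planes (hB.1 hdB) hd1 hW fun E hE hdE => ?_
  obtain ⟨e, heE, heB, he1⟩ := M₀.meet hE hB
  refine (M₀.mem_inf hE heE he1).trans (h e heB fun hz => hdE ?_)
  have : zpowers e = zpowers d := by
    refine eq_of_le_of_card_ge (zpowers_le.2 hz) ?_
    rw [M₀.card_zpowers (hB.1 hdB) hd1, M₀.card_zpowers (hE.1 heE) he1]
  exact zpowers_le.2 heE (this ▸ mem_zpowers d)

end Min

end Cfsg.Agent.Signalizer.SFT
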