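import Cfsg.Agent.Lib.Signalizer.SFT.TwoSink

/-!
A minimal counterexample involves at most two primes.
-/

set_option autoImplicit false
set_option linter.style.haveILetI false
set_option linter.unusedSectionVars false
set_option linter.unusedVariables false

open scoped Pointwise commutatorElement

universe u

namespace Cfsg.Agent.Signalizer.SFT

open Subgroup
open Cfsg (pCoreOf fittingOf)
open Cfsg.Agent.OddOrder

variable {G : Type u} [Group G] [Finite G]
variable {p : ℕ} [hp : Fact p.Prime] {A : Subgroup G} {θ : G → Subgroup G}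

namespace Setup

variable (S : Setup p A θ)
include S

theorem exists_not_mem_two {D L : Subgroup G} (hD : IsPlane p A D) (hL : IsPlane p A L) :
    ∃ a ∈ A, a ∉ D ∧ a ∉ L := by
  have hlt : ∀ P, IsPlane p A P → ∃ x ∈ A, x ∉ P := fun P hP => SetLike.not_le_iff_exists.1 fun h => by
    have h1 := card_le_of_le h
    rw [S.card, hP.2] at h1
    exact absurd h1 (not_le.2 (Nat.pow_lt_pow_right hp.out.one_lt (by norm_num)))
  obtain ⟨x, hx, hxD⟩ := hlt D hD
  obtain ⟨y, hy, hyL⟩ := hlt L hL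
  by_cases hxL : x ∈ L
  · by_cases hyD : y ∈ D
    · refine ⟨x * y, mul_mem hx hy, fun h => hxD ?_, fun h => hyL ?_⟩
      · simpa using mul_mem h (inv_mem hyD)
      · simpa using mul_mem (inv_mem hxL) h
    · exact ⟨y, hy, hyD, hyL⟩
  · exact ⟨x, hx, hxD, hxL⟩

theorem le_core {U : Subgroup G} (hU : U ∈ Cfsg.signalizerFamily p A θ)
    (h : ∀ b ∈ A, U ≤ centralizer ({b} : Set G)) : U ≤ Cfsg.signalizerInf A θ :=
  (le_inf le_rfl fun x hx => mem_centralizer_iff.2 fun b hb =>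
    (mem_centralizer_singleton_iff.1 (h b hb hx)).symm).trans (S.mem_core_of_fixed hU)

end Setup

namespace Min3

variable (M₀ : Min3 p A θ)
include M₀

/-- For an odd prime the cores not fixed by `A` belong to the points of one plane. -/
theorem exists_plane_core {s : ℕ} (hs : s.Prime) (hs2 : s ≠ 2) : ∃ L, IsPlane p A L ∧
    ∀ a ∈ A, a ∉ L → ∀ H, IsMax p A θ H → θ a ≤ H → pCoreOf s H ≤ Cfsg.signalizerInf A θ := by
  classical
  haveI := Fact.mk hs
  let star : Set G := {a | a ∈ A ∧ ∃ H, IsMax p A θ H ∧ θ a ≤ H ∧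
    ¬ pCoreOf s H ≤ Cfsg.signalizerInf A θ}
  have hle : Subgroup.closure star ≤ A := (closure_le _).2 fun a ha => ha.1
  by_cases htop : Subgroup.closure star = A
  swap
  · obtain ⟨L, hL, hBL⟩ := M₀.exists_plane_ge hle htop
    refine ⟨L, hL, fun a ha haL H hH haH => Classical.byContradiction fun h => haL ?_⟩
    exact hBL (Subgroup.subset_closure ⟨ha, H, hH, haH, h⟩)
  exfalso
  obtain ⟨a, ha, H, hH, haH, hne, hpref⟩ : ∃ a ∈ A, ∃ H, IsMax p A θ H ∧ θ a ≤ H ∧
      ¬ pCoreOf s H ≤ Cfsg.signalizerInf A θ ∧ ((∃ b ∈ A, b ≠ 1 ∧ ∃ K, IsMax p A θ K ∧ θ b ≤ K ∧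
        ¬ pCoreOf s K ≤ Cfsg.signalizerInf A θ ∧ 2 ∈ fitPrimes K) → 2 ∈ fitPrimes H) := by
    by_cases h : ∃ b ∈ A, b ≠ 1 ∧ ∃ K, IsMax p A θ K ∧ θ b ≤ K ∧
        ¬ pCoreOf s K ≤ Cfsg.signalizerInf A θ ∧ 2 ∈ fitPrimes K
    · obtain ⟨b, hb, -, K, hK, hbK, hne, h2⟩ := h
      exact ⟨b, hb, K, hK, hbK, hne, fun _ => h2⟩
    · have hne : star.Nonempty := by
        by_contra hemp
        rw [Set.not_nonempty_iff_eq_empty.1 hemp, Subgroup.closure_empty] at htop
        obtain ⟨b, hb, hb1⟩ := M₀.exists_point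
        rw [← htop] at hb
        exact hb1 hb
      obtain ⟨b, hb, K, hK, hbK, hne⟩ := hne
      exact ⟨b, hb, K, hK, hbK, hne, fun h' => absurd h' h⟩
  refine hne (M₀.le_core (M₀.pCoreOf_mem hH.mem s) fun b hb => ?_)
  set T := pCoreOf s H with hT
  have hTodd : ¬ 2 ∣ Nat.card T := fun hd => by
    obtain ⟨n, hn⟩ := (FitOf.isPGroup_pCoreOf s H).exists_card_eq
    rw [hT, hn] at hd
    exact hs2 ((Nat.prime_dvd_prime_iff_eq Nat.prime_two hs).1 (Nat.prime_two.dvd_of_dvd_pow hd)).symm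
  have hstar : ∀ c ∈ star, T ≤ centralizer ({c} : Set G) := by
    rintro c ⟨hc, K, hK, hcK, hKne⟩
    rcases eq_or_ne c 1 with rfl | hc1
    · exact fun y _ => mem_centralizer_singleton_iff.2 (by rw [mul_one, one_mul])
    have hsK : s ∈ fitPrimes K := ⟨hs, fun h => hKne (h.le.trans bot_le)⟩
    have hTQ : T ≤ qOf p A θ s := M₀.max_core_le_qOf hs hH
    by_cases h2K : 2 ∈ fitPrimes K
    · have h2H : 2 ∈ fitPrimes H := hpref ⟨c, hc, hc1, K, hK, hcK, hKne, h2K⟩
      have hsH : s ∈ fitPrimes H := ⟨hs, fun h => hne (h.le.trans bot_le)⟩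
      have hTK : T ≤ K := hTQ.trans (M₀.qOf_le_max hK hsK h2K (Ne.symm hs2) (M₀.no_full hK))
      refine M₀.centralized_of_two_core hc hc1 hK hcK (M₀.pCoreOf_mem hH.mem s) hTK hTodd ?_
      exact le_centralizer_of_normalizes (W := T) le_rfl le_rfl
        (((M₀.max_core_le_qOf Nat.prime_two hK).trans
          (M₀.qOf_le_max hH h2H hsH hs2 (M₀.no_full hH))).trans (FitOf.le_normalizer_pCoreOf s H))
        (hTK.trans (FitOf.le_normalizer_pCoreOf 2 K))
        (coprime_of_ne hs Nat.prime_two hs2 (FitOf.isPGroup_pCoreOf s H) (FitOf.isPGroup_pCoreOf 2 K))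
    · exact (hTQ.trans (M₀.qOf_le_theta hK hc hc1 hcK (M₀.centralizes_fitting_of_odd hc hc1 hK hcK h2K)
        hsK)).trans (M₀.theta_le_centralizer hc hc1)
  have hA : Subgroup.closure star ≤ centralizer (T : Set G) :=
    (closure_le _).2 fun c hc => mem_centralizer_of_le (hstar c hc)
  rw [htop] at hA
  exact fun y hy => mem_centralizer_singleton_iff.2 (mem_centralizer_iff.1 (hA hb) y hy)

/-- The part of `O_u(W_v)` fixed by a point off both planes is fixed by `A`. -/
theorem fixed_le_core {u v : ℕ} (hu : u.Prime) (hv : v ∈ primes A θ) (huv : u ≠ v) {a : G}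
    (ha : a ∈ A) (ha1 : a ≠ 1) {H : Subgroup G} (hH : IsMax p A θ H) (haH : θ a ≤ H)
    (hCu : pCoreOf u H ≤ Cfsg.signalizerInf A θ) (hCv : pCoreOf v H ≤ Cfsg.signalizerInf A θ) :
    pCoreOf u (wc p A θ v) ⊓ centralizer ({a} : Set G) ≤ Cfsg.signalizerInf A θ := by
  haveI := Fact.mk hu
  have hX := M₀.wc_props hv
  set K := pCoreOf u (wc p A θ v) with hK
  set U := K ⊓ centralizer ({a} : Set G) with hU
  have hUm : U ∈ Cfsg.signalizerFamily p A θ := family_mono (M₀.pCoreOf_mem hX.1 u) inf_le_left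
    (le_normalizer_inf (family_normalizer (M₀.pCoreOf_mem hX.1 u))
      (centralizer_zpowers_eq a ▸ le_normalizer_centralizer (M₀.inv_zpowers ha)))
  have hUH : U ≤ H := ((M₀.pCoreOf_mem hX.1 u).2.2.2 a ha ha1).trans haH
  refine M₀.le_core hUm fun b hb => ?_
  rw [← centralizer_zpowers_eq, ← commutator_eq_bot_iff_le_centralizer, ← M₀.commutator_idem hUm hb,
    commutator_eq_bot_iff_le_centralizer]
  have hVU : ⁅U, zpowers b⁆ ≤ U :=
    CoprimeAct.commutator_le_left ((zpowers_le.2 hb).trans (family_normalizer hUm))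
  haveI := hH.mem.1
  have hVF : ⁅U, zpowers b⁆ ≤ fittingOf H := by
    refine (le_inf (hVU.trans hUH) ?_).trans (FitOf.inf_centralizer_fittingOf_le H)
    rw [Subgroup.le_centralizer_iff, FitOf.fittingOf_le_iff]
    intro s hs
    rw [Subgroup.le_centralizer_iff]
    by_cases hsu : s = u
    · subst hsu
      exact commutator_le_centralizer_three
        (mem_centralizer_of_le ((hCu.trans M₀.core_le_centralizer).trans
          (centralizer_le (Set.singleton_subset_iff.2 hb))))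
        (hUH.trans (FitOf.le_normalizer_pCoreOf s H))
    · refine hVU.trans (le_centralizer_of_normalizes (W := K) inf_le_left le_rfl ?_
        (hUH.trans (FitOf.le_normalizer_pCoreOf s H))
        (coprime_of_ne hu hs (Ne.symm hsu) (FitOf.isPGroup_pCoreOf u _) (FitOf.isPGroup_pCoreOf s H)))
      by_cases hsv : s = v
      · subst hsv
        exact hCv.trans (hX.2.1.trans (normalizer_le_normalizer_pCoreOf u _))
      · exact ((M₀.max_core_le_qOf hs hH).trans (M₀.qOf_le_wc hs hv hsv)).trans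
          (FitOf.le_normalizer_pCoreOf u _)
  have hVp : IsPGroup u ↥⁅U, zpowers b⁆ :=
    (FitOf.isPGroup_pCoreOf u (wc p A θ v)).to_le (hVU.trans inf_le_left)
  rw [centralizer_zpowers_eq]
  exact ((pgroup_le_pCoreOf hVp hVF).trans (hCu.trans M₀.core_le_centralizer)).trans
    (centralizer_le (Set.singleton_subset_iff.2 hb))

/-- An odd core of a complement meets `C(Q_x)` in no point fixed by `A`. -/
theorem core_inf_eq_bot {x w : ℕ} (hx : x.Prime) (hx2 : x ≠ 2) (hw : w ∈ primes A θ) (hw2 : w ≠ 2)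
    (hxw : x ≠ w) :
    pCoreOf x (wc p A θ w) ⊓ centralizer (qOf p A θ x : Set G) ⊓ centralizer (A : Set G) = ⊥ := by
  haveI := Fact.mk hx
  have hX := M₀.wc_props hw
  set V := pCoreOf x (wc p A θ w) ⊓ centralizer (qOf p A θ x : Set G) ⊓ centralizer (A : Set G) with hV
  by_contra hne
  have hKm := M₀.pCoreOf_mem hX.1 x
  have hVm : V ∈ Cfsg.signalizerFamily p A θ := family_mono hKm (inf_le_left.trans inf_le_left)
    (le_normalizer_inf (le_normalizer_inf (family_normalizer hKm)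
      (le_normalizer_centralizer (family_normalizer (M₀.qOf_props x).1)))
      (le_normalizer_centralizer le_normalizer))
  have hVC : V ≤ Cfsg.signalizerInf A θ :=
    (le_inf (inf_le_left.trans inf_le_left) inf_le_right).trans (M₀.mem_core_of_fixed hKm)
  obtain ⟨L₁, hL₁, hL₁'⟩ := M₀.exists_plane_core hx hx2
  obtain ⟨L₂, hL₂, hL₂'⟩ := M₀.exists_plane_core hw.1 hw2
  obtain ⟨d, hd1', hd2', hd1⟩ := M₀.meet hL₁ hL₂
  obtain ⟨W, hW, -, hWmax⟩ := M₀.exists_greatest hVm hne
  refine M₀.crit (hL₁.1 hd1') hd1 hW fun E hE hdE => ?_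
  obtain ⟨a, haE, ha1, haL₁, haL₂⟩ := M₀.exists_mem_not_mem hE hL₁ hL₂
    (fun e => hdE (e ▸ hd1')) (fun e => hdE (e ▸ hd2'))
  have haA := hE.1 haE
  obtain ⟨H, hH, haH⟩ := M₀.exists_maxOf haA ha1
  have hVT : V ≤ pCoreOf x H := by
    refine M₀.mem_pCoreOf_of_centralizes hH.mem (hVC.trans hH.core) hx
      ((FitOf.isPGroup_pCoreOf x _).to_le (inf_le_left.trans inf_le_left)) fun s hs => ?_
    by_cases hsx : s = x
    · subst hsx
      exact (inf_le_left.trans inf_le_right).trans (centralizer_le (M₀.max_core_le_qOf hs hH))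
    · refine le_centralizer_of_mutual (hVC.trans hH.core) (inf_le_left.trans inf_le_left) ?_
        (FitOf.pCoreOf_le s H) (FitOf.le_normalizer_pCoreOf s H)
        (coprime_of_ne hx hs (Ne.symm hsx) (FitOf.isPGroup_pCoreOf x _) (FitOf.isPGroup_pCoreOf s H))
      by_cases hsw : s = w
      · subst hsw
        exact (hL₂' a haA haL₂ H hH haH).trans (hX.2.1.trans (normalizer_le_normalizer_pCoreOf x _))
      · exact ((M₀.max_core_le_qOf hs hH).trans (M₀.qOf_le_wc hs hw hsw)).trans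
          (FitOf.le_normalizer_pCoreOf x _)
  refine (commutator_mono (M₀.mem_inf hE haE ha1) le_rfl).trans
    (hWmax _ (M₀.commutator_mem (M₀.theta_mem haA ha1) (hL₁.1 hd1')) ?_)
  refine ((commutator_le_centralizer_three ?_ (haH.trans (FitOf.le_normalizer_pCoreOf x H))).trans
    (centralizer_le hVT)).trans (centralizer_le_normalizer _)
  exact mem_centralizer_of_le (((hL₁' a haA haL₁ H hH haH).trans M₀.core_le_centralizer).trans
    (centralizer_le (Set.singleton_subset_iff.2 (hL₁.1 hd1'))))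

/-- An odd prime has an odd partner whose complement has a core for it. -/
theorem exists_odd_pair : ∃ w ∈ primes A θ, w ≠ 2 ∧ ∃ x : ℕ, x.Prime ∧ x ≠ 2 ∧ x ≠ w ∧
    pCoreOf x (wc p A θ w) ≠ ⊥ := by
  classical
  by_contra hno
  have hodd : ∀ w ∈ primes A θ, w ≠ 2 → ∀ x : ℕ, x.Prime → x ≠ 2 → pCoreOf x (wc p A θ w) = ⊥ := by
    intro w hw hw2 x hx hx2
    by_cases hxw : x = w
    · by_contra h
      haveI := Fact.mk hx
      obtain ⟨n, hn⟩ := (FitOf.isPGroup_pCoreOf x (wc p A θ w)).exists_card_eq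
      exact (M₀.wc_props hw).2.2.1 x hx ((hn ▸ dvd_pow_self x (fun h0 => h
        (card_eq_one.1 (by rw [hn, h0, pow_zero]))) :).trans
          (card_dvd_of_le (FitOf.pCoreOf_le x _))) hxw
    · exact Classical.byContradiction fun h => hno ⟨w, hw, hw2, x, hx, hx2, hxw, h⟩
  haveI : Fact (Nat.Prime 2) := ⟨Nat.prime_two⟩
  have hQ : qOf p A θ 2 = ⊥ := by
    by_contra hQ
    have h2p : 2 ∈ primes A θ := by
      obtain ⟨n, hn⟩ := (M₀.qOf_isPGroup Nat.prime_two).exists_card_eq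
      refine M₀.mem_primes (M₀.qOf_props 2).1 Nat.prime_two (hn ▸ dvd_pow_self 2 fun h0 => hQ ?_)
      exact card_eq_one.1 (by rw [hn, h0, pow_zero])
    set Q := qOf p A θ 2 with hQdef
    haveI := (M₀.qOf_isPGroup Nat.prime_two).isNilpotent
    haveI := (nontrivial_iff_ne_bot _).2 hQ
    refine M₀.not_isSink (x := 2) ⟨h2p, fun hbot => ?_⟩
    obtain ⟨u, hu, hu2, -⟩ := M₀.three 2 2
    obtain ⟨w, hw, hw2, hwu⟩ := M₀.three 2 u
    have hZ : ∀ v ∈ primes A θ, v ≠ 2 → Q ⊓ centralizer (Q : Set G) ≤ pCoreOf 2 (wc p A θ v) :=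
      fun v hv hv2 => M₀.mem_pCoreOf_of_centralizes (M₀.wc_props hv).1
        (inf_le_left.trans (M₀.qOf_le_wc Nat.prime_two hv (Ne.symm hv2))) Nat.prime_two
        ((M₀.qOf_isPGroup Nat.prime_two).to_le inf_le_left) fun s hs => by
          by_cases hs2 : s = 2
          · subst hs2
            exact inf_le_right.trans (centralizer_le (M₀.wc_core_le_qOf hs hv))
          · rw [hodd v hv hv2 s hs hs2]
            exact le_centralizer_bot
    have hZY := M₀.le_sinkY Nat.prime_two hu hw hu2 hw2 (Ne.symm hwu) (V := Q ⊓ centralizer (Q : Set G))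
      inf_le_right inf_le_left (hZ u hu hu2) (hZ w hw hw2)
    refine SolvStruct.inf_center_ne_bot (N := (⊤ : Subgroup Q)) top_ne_bot ((eq_bot_iff_forall _).2 ?_)
    rintro z ⟨-, hz⟩
    exact Subtype.ext ((eq_bot_iff_forall _).1 hbot z (hZY ⟨z.2, mem_centralizer_iff.2 fun y hy =>
      (congrArg Subtype.val (mem_center_iff.1 hz ⟨y, hy⟩) :)⟩))
  -- some maximum is non-trivial
  obtain ⟨a, ha, ha1⟩ := M₀.exists_point
  obtain ⟨H, hH, haH⟩ := M₀.exists_maxOf ha ha1
  have hH1 : H ≠ ⊥ := fun h => M₀.not_complete ⟨H, hH.mem, fun b hb hb1 =>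
    (hH.max _ (M₀.theta_mem hb hb1) (h.le.trans bot_le)).le⟩
  obtain ⟨x, hx⟩ := exists_fitPrime hH.mem.1 hH1
  have hx2 : x ≠ 2 := fun h => hx.2 (le_bot_iff.1
    ((M₀.max_core_le_qOf hx.1 hH).trans (h ▸ hQ).le))
  obtain ⟨w, hw, hw2, hwx⟩ := M₀.three 2 x
  have hX := M₀.wc_props hw
  have hTX : pCoreOf x H ≤ wc p A θ w :=
    (M₀.max_core_le_qOf hx.1 hH).trans (M₀.qOf_le_wc hx.1 hw (Ne.symm hwx))
  obtain ⟨t, ht⟩ := exists_fitPrime hX.1.1 fun h => hx.2 (le_bot_iff.1 (hTX.trans h.le))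
  by_cases ht2 : t = 2
  · subst ht2
    exact ht.2 (le_bot_iff.1 ((M₀.wc_core_le_qOf ht.1 hw).trans hQ.le))
  · exact ht.2 (hodd w hw hw2 t ht.1 ht2)

/-- There are not three odd primes. -/
theorem false_of_three_odd
    (h3 : ∀ s t : ℕ, ∃ u ∈ primes A θ, u ≠ 2 ∧ u ≠ s ∧ u ≠ t) : False := by
  obtain ⟨w, hw, hw2, x, hx, hx2, hxw, hK⟩ := M₀.exists_odd_pair
  obtain ⟨v, hv, hv2, hvx, hvw⟩ := h3 x w
  haveI := Fact.mk hx
  haveI := Fact.mk hw.1
  set Q := qOf p A θ x with hQ
  set K := pCoreOf x (wc p A θ w) with hKdef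
  have hXw := M₀.wc_props hw
  have hXv := M₀.wc_props hv
  have hKQ : K ≤ Q := M₀.wc_core_le_qOf hx hw
  set V₀ := K ⊓ centralizer (Q : Set G) with hV₀
  have hV₀1 : V₀ ≠ ⊥ := by
    intro hbot
    haveI : (K.subgroupOf Q).Normal := normal_subgroupOf_of_le_normalizer
      ((M₀.qOf_le_wc hx hw hxw).trans (FitOf.le_normalizer_pCoreOf x _))
    haveI := (M₀.qOf_isPGroup hx).isNilpotent
    refine SolvStruct.inf_center_ne_bot (N := K.subgroupOf Q) (fun h => hK ?_)
      ((eq_bot_iff_forall _).2 ?_)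
    · rw [subgroupOf_eq_bot, disjoint_iff] at h
      exact (inf_eq_left.2 hKQ).symm.trans h
    · rintro z ⟨hzK, hz⟩
      exact Subtype.ext ((eq_bot_iff_forall _).1 hbot z ⟨hzK, mem_centralizer_iff.2 fun y hy =>
        (congrArg Subtype.val (mem_center_iff.1 hz ⟨y, hy⟩) :)⟩)
  have hV₀A : A ≤ normalizer (V₀ : Set G) := le_normalizer_inf
    (family_normalizer (M₀.pCoreOf_mem hXw.1 x))
    (le_normalizer_centralizer (family_normalizer (M₀.qOf_props x).1))
  have hV₀m : V₀ ∈ Cfsg.signalizerFamily p A θ :=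
    family_mono (M₀.pCoreOf_mem hXw.1 x) inf_le_left hV₀A
  obtain ⟨D, hD, hV1⟩ : ∃ D, IsPlane p A D ∧ V₀ ⊓ centralizer (D : Set G) ≠ ⊥ := by
    by_contra hno
    exact hV₀1 (le_bot_iff.1 (M₀.le_of_planes hV₀A hV₀m.2.1 fun D hD =>
      le_of_eq (Classical.byContradiction fun h => hno ⟨D, hD, h⟩)))
  set V := V₀ ⊓ centralizer (D : Set G) with hV
  have hVA : A ≤ normalizer (V : Set G) := le_normalizer_inf hV₀A (M₀.inv_plane hD)
  have hVm : V ∈ Cfsg.signalizerFamily p A θ := family_mono hV₀m inf_le_left hVA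
  have hVQ : V ≤ Q := inf_le_left.trans (inf_le_left.trans hKQ)
  have hVc : V ≤ centralizer (Q : Set G) := inf_le_left.trans inf_le_right
  set W := pCoreOf w (wc p A θ v) with hW
  have hVW : V ≤ normalizer (W : Set G) :=
    (hVQ.trans (M₀.qOf_le_wc hx hv (Ne.symm hvx))).trans (FitOf.le_normalizer_pCoreOf w _)
  -- `V` centralises `O_w(W_v)`
  have hpiece : V ≤ centralizer (W : Set G) := by
    obtain ⟨L, hL, hL'⟩ := M₀.exists_plane_core hv.1 hv2
    obtain ⟨a, ha, haD, haL⟩ := M₀.exists_not_mem_two hD hL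
    have ha1 : a ≠ 1 := fun h => haD (h ▸ one_mem _)
    obtain ⟨H, hH, haH⟩ := M₀.exists_maxOf ha ha1
    have hVfix : V ⊓ centralizer ({a} : Set G) = ⊥ := by
      refine le_bot_iff.1 ((le_inf (inf_le_left.trans inf_le_left) ?_).trans
        (M₀.core_inf_eq_bot hx hx2 hw hw2 hxw).le)
      rw [← M₀.sup_eq hD ha haD]
      intro y hy
      have hle : D ⊔ zpowers a ≤ centralizer ({y} : Set G) := sup_le
        (fun z hz => mem_centralizer_singleton_iff.2 (mem_centralizer_iff.1 hy.1.2 z hz))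
        (zpowers_le.2 (mem_centralizer_singleton_iff.2 (mem_centralizer_singleton_iff.1 hy.2).symm))
      exact mem_centralizer_iff.2 fun z hz => mem_centralizer_singleton_iff.1 (hle hz)
    have hVeq : V ≤ ⁅V, zpowers a⁆ := by
      have h1 := M₀.commutator_sup hVm ha
      rw [hVfix, sup_bot_eq] at h1
      exact h1.ge
    have hWm := M₀.pCoreOf_mem hXv.1 w
    by_cases hwH : w ∈ fitPrimes H
    · -- then `a` centralises `O_w(W_v)`
      have hWQ : W ≤ qOf p A θ w := M₀.wc_core_le_qOf hw.1 hv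
      have hWc : W ≤ centralizer ({a} : Set G) := by
        by_cases h2H : 2 ∈ fitPrimes H
        · have hWH : W ≤ H :=
            hWQ.trans (M₀.qOf_le_max hH hwH h2H (Ne.symm hw2) (M₀.no_full hH))
          refine M₀.centralized_of_two_core ha ha1 hH haH hWm hWH ?_ ?_
          · intro hd
            obtain ⟨n, hn⟩ := (FitOf.isPGroup_pCoreOf w (wc p A θ v)).exists_card_eq
            rw [hW, hn] at hd
            exact hw2 ((Nat.prime_dvd_prime_iff_eq Nat.prime_two hw.1).1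
              (Nat.prime_two.dvd_of_dvd_pow hd)).symm
          · exact le_centralizer_of_normalizes (W := W) le_rfl le_rfl
              (((M₀.max_core_le_qOf Nat.prime_two hH).trans
                (M₀.qOf_le_wc Nat.prime_two hv (Ne.symm hv2))).trans (FitOf.le_normalizer_pCoreOf w _))
              (hWH.trans (FitOf.le_normalizer_pCoreOf 2 H))
              (coprime_of_ne hw.1 Nat.prime_two hw2 (FitOf.isPGroup_pCoreOf w _)
                (FitOf.isPGroup_pCoreOf 2 H))
        · exact (hWQ.trans (M₀.qOf_le_theta hH ha ha1 haH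
            (M₀.centralizes_fitting_of_odd ha ha1 hH haH h2H) hwH)).trans (M₀.theta_le_centralizer ha ha1)
      exact hVeq.trans (commutator_le_centralizer_three (mem_centralizer_of_le hWc) hVW)
    · refine hVeq.trans (hh (s := w) (t := x) (Ne.symm hxw) (M₀.prime_ne_p hw) ?_ (M₀.orderOf_eq ha ha1)
        ((M₀.qOf_isPGroup hx).to_le hVQ) (Or.inl hx2) (hVA ha) (FitOf.isPGroup_pCoreOf w _)
        ((family_normalizer hWm) ha) hVW ?_)
      · exact fun h => hVm.2.1 (by
          obtain ⟨n, hn⟩ := ((M₀.qOf_isPGroup hx).to_le hVQ).exists_card_eq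
          rw [hn, ← h]
          exact dvd_pow_self x fun h0 => hV1 (card_eq_one.1 (by rw [hn, h0, pow_zero])))
      have hfix : W ⊓ centralizer ({a} : Set G) ≤ Cfsg.signalizerInf A θ :=
        M₀.fixed_le_core hw.1 hv (Ne.symm hvw) ha ha1 hH haH
          ((pCoreOf_eq_bot hw.1 hwH).le.trans bot_le) (hL' a ha haL H hH haH)
      rw [Subgroup.le_centralizer_iff]
      exact le_centralizer_of_normalizes (W := W) (T := Q) inf_le_left hVQ hVW
        (hfix.trans (M₀.qOf_props x).2.1)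
        (coprime_of_ne hw.1 hx (Ne.symm hxw) (FitOf.isPGroup_pCoreOf w _) (M₀.qOf_isPGroup hx))
  have hVv : V ≤ pCoreOf x (wc p A θ v) := by
    have hVX : V ≤ wc p A θ v := hVQ.trans (M₀.qOf_le_wc hx hv (Ne.symm hvx))
    refine M₀.mem_pCoreOf_of_centralizes hXv.1 hVX hx ((M₀.qOf_isPGroup hx).to_le hVQ) fun s hs => ?_
    by_cases hsx : s = x
    · subst hsx
      exact hVc.trans (centralizer_le (M₀.wc_core_le_qOf hs hv))
    by_cases hsw : s = w
    · subst hsw
      exact hpiece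
    exact le_centralizer_of_mutual hVX (inf_le_left.trans inf_le_left)
      (((M₀.wc_core_le_qOf hs hv).trans (M₀.qOf_le_wc hs hw hsw)).trans
        (FitOf.le_normalizer_pCoreOf x _))
      (FitOf.pCoreOf_le s _) (FitOf.le_normalizer_pCoreOf s _)
      (coprime_of_ne hx hs (Ne.symm hsx) (FitOf.isPGroup_pCoreOf x _) (FitOf.isPGroup_pCoreOf s _))
  have hY : V ≤ sinkY p A θ x := M₀.le_sinkY hx hw hv (Ne.symm hxw) hvx (Ne.symm hvw) hVc hVQ
    (inf_le_left.trans inf_le_left) hVv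
  have hxp : x ∈ primes A θ := by
    obtain ⟨n, hn⟩ := ((M₀.qOf_isPGroup hx).to_le hVQ).exists_card_eq
    exact M₀.mem_primes hVm hx (hn ▸ dvd_pow_self x fun h0 => hV1 (card_eq_one.1 (by rw [hn, h0, pow_zero])))
  exact M₀.not_isSink ⟨hxp, fun h => hV1 (le_bot_iff.1 (hY.trans h.le))⟩

/-- The three primes cannot be `2` and two odd ones. -/
theorem false_of_two_odd {u v : ℕ} (h2p : 2 ∈ primes A θ) (hu : u ∈ primes A θ)
    (hv : v ∈ primes A θ) (hu2 : u ≠ 2) (hv2 : v ≠ 2) (huv : u ≠ v)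
    (hall : ∀ t ∈ primes A θ, t = 2 ∨ t = u ∨ t = v) : False := by
  haveI : Fact (Nat.Prime 2) := ⟨Nat.prime_two⟩
  obtain ⟨L₁, hL₁, hL₁'⟩ := M₀.exists_plane_core hu.1 hu2
  obtain ⟨L₂, hL₂, hL₂'⟩ := M₀.exists_plane_core hv.1 hv2
  obtain ⟨d, hd₁, hd₂, hd1⟩ := M₀.meet hL₁ hL₂
  have hdA := hL₁.1 hd₁
  have hoff : ∀ E, IsPlane p A E → d ∉ E → ∃ a ∈ E, a ≠ 1 ∧ a ∉ L₁ ∧ a ∉ L₂ := fun E hE hdE =>
    M₀.exists_mem_not_mem hE hL₁ hL₂ (fun e => hdE (e ▸ hd₁)) fun e => hdE (e ▸ hd₂)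
  -- `d` centralises both cores
  have hcore : ∀ s t : ℕ, (s = u ∧ t = v) ∨ (s = v ∧ t = u) →
      d ∈ centralizer (pCoreOf s (wc p A θ t) : Set G) := by
    rintro s t hst
    have hs : s.Prime := by rcases hst with ⟨rfl, -⟩ | ⟨rfl, -⟩ <;> first | exact hu.1 | exact hv.1
    have ht : t ∈ primes A θ := by rcases hst with ⟨-, rfl⟩ | ⟨-, rfl⟩ <;> assumption
    have hne : s ≠ t := by rcases hst with ⟨rfl, rfl⟩ | ⟨rfl, rfl⟩ <;> first | exact huv | exact huv.symm
    have hKm := M₀.pCoreOf_mem (M₀.wc_props ht).1 s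
    refine mem_centralizer_of_le ?_
    rw [← centralizer_zpowers_eq, ← commutator_eq_bot_iff_le_centralizer]
    refine le_bot_iff.1 (M₀.commutator_le_of_planes hKm hdA fun E hE => ?_)
    rw [commutator_eq_bot_of_le_centralizer]
    rw [centralizer_zpowers_eq]
    by_cases hdE : d ∈ E
    · exact inf_le_right.trans (centralizer_le (Set.singleton_subset_iff.2 hdE))
    obtain ⟨a, haE, ha1, ha₁, ha₂⟩ := hoff E hE hdE
    obtain ⟨H, hH, haH⟩ := M₀.exists_maxOf (hE.1 haE) ha1
    refine ((inf_le_inf_left _ (centralizer_le (Set.singleton_subset_iff.2 haE))).trans ?_).trans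
      (M₀.core_le_centralizer.trans (centralizer_le (Set.singleton_subset_iff.2 hdA)))
    refine M₀.fixed_le_core hs ht hne (hE.1 haE) ha1 hH haH ?_ ?_
    · rcases hst with ⟨rfl, -⟩ | ⟨rfl, -⟩
      · exact hL₁' a (hE.1 haE) ha₁ H hH haH
      · exact hL₂' a (hE.1 haE) ha₂ H hH haH
    · rcases hst with ⟨-, rfl⟩ | ⟨-, rfl⟩
      · exact hL₂' a (hE.1 haE) ha₂ H hH haH
      · exact hL₁' a (hE.1 haE) ha₁ H hH haH
  -- hence `Q_2`
  have hQ : qOf p A θ 2 ≤ centralizer ({d} : Set G) := by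
    have hn : zpowers d ≤ normalizer (qOf p A θ 2 : Set G) :=
      (zpowers_le.2 hdA).trans (family_normalizer (M₀.qOf_props 2).1)
    rw [← centralizer_zpowers_eq, ← commutator_eq_bot_iff_le_centralizer]
    refine Classical.byContradiction fun hne => M₀.not_isSink (x := 2)
      (M₀.isSink_of_centralizes h2p (CoprimeAct.commutator_le_left hn) hne fun w hw hw2 s hs hs2 => ?_)
    by_cases hsX : s ∈ fitPrimes (wc p A θ w)
    swap
    · rw [pCoreOf_eq_bot hs hsX]
      exact le_centralizer_bot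
    have hsw : s ≠ w := by
      haveI := Fact.mk hs
      obtain ⟨n, hn'⟩ := (FitOf.isPGroup_pCoreOf s (wc p A θ w)).exists_card_eq
      refine (M₀.wc_props hw).2.2.1 s hs ((hn' ▸ dvd_pow_self s fun h0 => hsX.2 ?_ :).trans
        (card_dvd_of_le (FitOf.pCoreOf_le s _)))
      exact card_eq_one.1 (by rw [hn', h0, pow_zero])
    have hsp := M₀.fit_mem_primes (M₀.wc_props hw).1 hsX
    have hcases : (s = u ∧ w = v) ∨ (s = v ∧ w = u) := by
      rcases hall s hsp with h | h | h <;> rcases hall w hw with h' | h' | h' <;> omega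
    exact commutator_le_centralizer_three (hcore s w hcases)
      ((M₀.qOf_le_wc Nat.prime_two hw (Ne.symm hw2)).trans (FitOf.le_normalizer_pCoreOf s _))
  refine M₀.false_of_planes hdA hd1 (M₀.theta_mem hdA hd1) fun E hE hdE => ?_
  obtain ⟨a, haE, ha1, ha₁, ha₂⟩ := hoff E hE hdE
  have haA := hE.1 haE
  obtain ⟨H, hH, haH⟩ := M₀.exists_maxOf haA ha1
  refine (M₀.mem_inf hE haE ha1).trans (M₀.le_theta (M₀.theta_mem haA ha1) hdA hd1 ?_)
  have hF : fittingOf H ≤ centralizer ({d} : Set G) := FitOf.fittingOf_le_iff.2 fun s hs => by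
    by_cases hsH : s ∈ fitPrimes H
    swap
    · rw [pCoreOf_eq_bot hs hsH]
      exact bot_le
    rcases hall s (M₀.fit_mem_primes hH.mem hsH) with rfl | rfl | rfl
    · exact (M₀.max_core_le_qOf hs hH).trans hQ
    · exact ((hL₁' a haA ha₁ H hH haH).trans M₀.core_le_centralizer).trans
        (centralizer_le (Set.singleton_subset_iff.2 hdA))
    · exact ((hL₂' a haA ha₂ H hH haH).trans M₀.core_le_centralizer).trans
        (centralizer_le (Set.singleton_subset_iff.2 hdA))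
  haveI := hH.mem.1
  rw [← centralizer_zpowers_eq, ← commutator_eq_bot_iff_le_centralizer,
    ← M₀.commutator_idem (M₀.theta_mem haA ha1) hdA, commutator_eq_bot_iff_le_centralizer,
    centralizer_zpowers_eq]
  refine ((le_inf ((CoprimeAct.commutator_le_left ((zpowers_le.2 hdA).trans
    (family_normalizer (M₀.theta_mem haA ha1)))).trans haH) ?_).trans
      (FitOf.inf_centralizer_fittingOf_le H)).trans hF
  exact commutator_le_centralizer_three (mem_centralizer_of_le hF)
    (haH.trans (FitOf.le_normalizer_fittingOf H))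

/-- A minimal counterexample has at most two primes. -/
theorem false_of_min3 : False := by
  by_cases h3 : ∀ s t : ℕ, ∃ u ∈ primes A θ, u ≠ 2 ∧ u ≠ s ∧ u ≠ t
  · exact M₀.false_of_three_odd h3
  simp only [not_forall, not_exists, not_and] at h3
  obtain ⟨s, t, h⟩ := h3
  have h' : ∀ r ∈ primes A θ, r = 2 ∨ r = s ∨ r = t := fun r hr => by
    by_contra hc
    simp only [not_or] at hc
    exact h r hr hc.1 hc.2.1 hc.2.2
  obtain ⟨u, hu, hu2, -⟩ := M₀.three 2 2
  obtain ⟨v, hv, hv2, hvu⟩ := M₀.three 2 u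
  obtain ⟨w, hw, hwu, hwv⟩ := M₀.three u v
  have hu' := h' u hu
  have hv' := h' v hv
  have hw' := h' w hw
  obtain rfl : w = 2 := by omega
  exact M₀.false_of_two_odd hw hu hv hu2 hv2 (Ne.symm hvu) fun r hr => by
    have := h' r hr
    omega

end Min3

end Cfsg.Agent.Signalizer.SFT
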