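import Cfsg.Agent.Lib.Signalizer.SFT.Kernel

/-!
With at least three primes no odd prime is a sink.
-/

set_option autoImplicit false
set_option linter.style.haveILetI false
set_option linter.unusedSectionVars false
set_option linter.unusedVariables false

open scoped Pointwise commutatorElement

universe u

namespace Cfsg.Agent.Signalizer.SFT

open Subgroup
open Cfsg (pCoreOf fittingOf)
open Cfsg.Agent.OddOrder

variable {G : Type u} [Group G] [Finite G]
variable {p : ℕ} [hp : Fact p.Prime] {A : Subgroup G} {θ : G → Subgroup G}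

namespace Min3

variable (M₀ : Min3 p A θ)
include M₀

/-- A plane without two good points has a point centralising the kernel. -/
theorem exists_centralizing_point {x : ℕ} (hx : x.Prime) (hJ : sinkCore p A θ x ≠ ⊥)
    {E : Subgroup G} (hE : IsPlane p A E)
    (hno : ¬ ∃ g ∈ E, ∃ h ∈ E, g ≠ 1 ∧ h ∉ zpowers g ∧ Good p A θ x g ∧ Good p A θ x h) :
    ∃ g ∈ E, g ≠ 1 ∧ g ∈ centralizer (sinkCore p A θ x : Set G) := by
  obtain ⟨g, hg, hg1, hgJ⟩ := M₀.exists_fixed_ne_bot (M₀.sinkCore_props x).1 hJ hE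
  have hgood : Good p A θ x g := Classical.byContradiction fun h =>
    hgJ (M₀.sinkCore_inf_eq_bot hx (hE.1 hg) hg1 h)
  refine ⟨g, hg, hg1, mem_centralizer_iff.2 fun y hy => ?_⟩
  have hle : sinkCore p A θ x ≤ centralizer ({g} : Set G) := by
    refine M₀.le_of_points hE (hE.1.trans (family_normalizer (M₀.sinkCore_props x).1))
      (M₀.sinkCore_props x).1.2.1 fun e he he1 => ?_
    by_cases heg : e ∈ zpowers g
    · rw [M₀.centralizer_eq_of_mem (hE.1 hg) hg1 heg he1]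
      exact inf_le_right
    · rw [M₀.sinkCore_inf_eq_bot hx (hE.1 he) he1 fun h => hno ⟨g, hg, e, he, hg1, heg, hgood, h⟩]
      exact bot_le
  exact mem_centralizer_singleton_iff.1 (hle hy)

/-- A mixed maximum with the same primes as another one coincides with it. -/
theorem eq_of_fitPrimes {M N : Subgroup G} (hM : IsMax p A θ M) (hN : IsMax p A θ N) {q r : ℕ}
    (hq : q ∈ fitPrimes M) (hr : r ∈ fitPrimes M) (hne : r ≠ q)
    (h : ∀ t, t ∈ fitPrimes M ↔ t ∈ fitPrimes N) : N = M := by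
  have key : ∀ X Y : Subgroup G, IsMax p A θ X → IsMax p A θ Y → q ∈ fitPrimes Y → r ∈ fitPrimes Y →
      (∀ t ∈ fitPrimes X, t ∈ fitPrimes Y) → fittingOf X ≤ Y := fun X Y hX hY hqY hrY hsub =>
    FitOf.fittingOf_le_iff.2 fun t ht => by
      by_cases htX : t ∈ fitPrimes X
      · refine (M₀.max_core_le_qOf ht hX).trans ?_
        by_cases htq : t = q
        · exact M₀.qOf_le_max hY (hsub t htX) hrY (htq ▸ hne) (M₀.no_full hY)
        · exact M₀.qOf_le_max hY (hsub t htX) hqY (Ne.symm htq) (M₀.no_full hY)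
      · rw [show pCoreOf t X = ⊥ from Classical.byContradiction fun h => htX ⟨ht, h⟩]
        exact bot_le
  have hle : N ≤ M := M₀.le_max_of_fitting hM hq hr hne hN.mem
    (key M N hM hN ((h q).1 hq) ((h r).1 hr) fun t ht => (h t).1 ht)
    (key N M hN hM hq hr fun t ht => (h t).2 ht)
    fun Z hZ hZc => M₀.le_of_centralizes_core hN ((h q).1 hq) hZ hZc
  exact (hN.max M hM.mem hle).symm

/-- A maximum containing another core of a mixed maximum with the prime `x` is not of type `x`. -/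
theorem mixed_of_core_le {x r : ℕ} (hx : x.Prime) {L H : Subgroup G} (hL : IsMax p A θ L)
    (hH : IsMax p A θ H) (hxH : x ∈ fitPrimes H) (hr : r ∈ fitPrimes H) (hrx : r ≠ x)
    (hrL : pCoreOf r H ≤ L) : ∃ v ∈ fitPrimes L, v ≠ x := by
  by_contra hno
  have hbot : ∀ t : ℕ, t.Prime → t ≠ x → pCoreOf t L = ⊥ := fun t ht htx =>
    Classical.byContradiction fun h => hno ⟨t, ⟨ht, h⟩, htx⟩
  refine hr.2 (le_bot_iff.1 (hbot r hr.1 hrx ▸ M₀.mem_pCoreOf_of_centralizes hL.mem hrL hr.1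
    (FitOf.isPGroup_pCoreOf r H) fun t ht => ?_))
  by_cases htx : t = x
  · subst htx
    exact le_centralizer_of_normalizes (W := pCoreOf r H) le_rfl le_rfl
      (((M₀.max_core_le_qOf ht hL).trans
        (M₀.qOf_le_max hH hxH hr hrx (M₀.no_full hH))).trans (FitOf.le_normalizer_pCoreOf r H))
      (hrL.trans (FitOf.le_normalizer_pCoreOf t L))
      (coprime_of_ne hr.1 ht hrx (FitOf.isPGroup_pCoreOf r H) (FitOf.isPGroup_pCoreOf t L))
  · rw [hbot t ht htx]
    exact fun z _ => mem_centralizer_iff.2 fun y hy => by rw [mem_bot.1 hy, one_mul, mul_one]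

/-- With four primes, a kernel and a mixed maximum with that prime give a hub. -/
theorem false_of_four {x r : ℕ} (hx : x.Prime) (hJ : sinkCore p A θ x ≠ ⊥)
    (hfour : ∀ s t v : ℕ, ∃ u ∈ primes A θ, u ≠ s ∧ u ≠ t ∧ u ≠ v)
    {H : Subgroup G} (hH : IsMax p A θ H) (hxH : x ∈ fitPrimes H) (hr : r ∈ fitPrimes H)
    (hrx : r ≠ x) : False := by
  haveI := Fact.mk hx
  set J := sinkCore p A θ x with hJdef
  obtain ⟨W, hW, hWN, hWmax⟩ := M₀.exists_greatest (M₀.sinkCore_props x).1 hJ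
  have hCW : Cfsg.signalizerInf A θ ≤ W := hWmax _ M₀.core_mem (M₀.sinkCore_props x).2
  obtain ⟨L, hL, hWL⟩ := M₀.exists_max hW (hCW.trans le_normalizer)
  have hJW : J ≤ W := hWmax _ (M₀.sinkCore_props x).1 le_normalizer
  have hQ : ∀ t ∈ primes A θ, qOf p A θ t ≤ L := by
    intro t ht
    refine (hWmax _ (M₀.qOf_props t).1 ?_).trans hWL
    by_cases htx : t = x
    · subst htx; exact M₀.qOf_normalizes_sinkCore hx
    obtain ⟨u₀, hu₀, hu₀t, hu₀x, -⟩ := hfour t x x
    set V := ⨅ w : {w : ℕ // w ∈ primes A θ ∧ w ≠ x ∧ w ≠ t}, pCoreOf x (wc p A θ w.1) with hV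
    have hVQ : V ≤ qOf p A θ x :=
      (iInf_le (fun w : {w : ℕ // w ∈ primes A θ ∧ w ≠ x ∧ w ≠ t} => pCoreOf x (wc p A θ w.1))
        ⟨u₀, hu₀, hu₀x, hu₀t⟩).trans (M₀.wc_core_le_qOf hx hu₀)
    have hVJ : V = J := by
      refine le_antisymm (le_inf hVQ (le_iInf fun ⟨w, hw, hwx⟩ => ?_))
        (le_iInf fun ⟨w, hw, hwx, _⟩ => M₀.sinkCore_le_wc hw hwx)
      by_cases hwt : w = t
      · subst hwt
        refine le_pCoreOf_of_layers (M₀.wc_props hw).1.1 (hVQ.trans (M₀.qOf_le_wc hx hw (Ne.symm hwx)))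
          ((M₀.qOf_isPGroup hx).to_le hVQ) fun z R hz hzx hR => ?_
        obtain ⟨v, hv, hvw, hvx, hvz⟩ := hfour w x z
        have h2 : ⁅R, V⁆ ≤ R ⊓ pCoreOf x (wc p A θ v) :=
          commutator_le_inf le_rfl
            (iInf_le (fun w' : {w' : ℕ // w' ∈ primes A θ ∧ w' ≠ x ∧ w' ≠ w} =>
              pCoreOf x (wc p A θ w'.1)) ⟨v, hv, hvx, hvw⟩)
            ((hVQ.trans (M₀.qOf_le_wc hx hw (Ne.symm hwx))).trans (le_normalizer.trans hR.inv))
            ((M₀.layer_le_wc (M₀.wc_props hw).1 (M₀.wc_props hw).2.1 hz hR hv hvx hvz).trans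
              (FitOf.le_normalizer_pCoreOf x _))
        exact h2.trans
          (hR.pgroup_le hz hzx ((FitOf.isPGroup_pCoreOf x _).to_le inf_le_right) inf_le_left)
      · exact iInf_le (fun w' : {w' : ℕ // w' ∈ primes A θ ∧ w' ≠ x ∧ w' ≠ t} =>
          pCoreOf x (wc p A θ w'.1)) ⟨w, hw, hwx, hwt⟩
    rw [← hJdef, ← hVJ]
    exact le_normalizer_iInf fun w =>
      (M₀.qOf_le_wc ht.1 w.2.1 (Ne.symm w.2.2.2)).trans (FitOf.le_normalizer_pCoreOf x _)
  have hfit : ∀ K, IsMax p A θ K → fittingOf K ≤ L := fun K hK => FitOf.fittingOf_le_iff.2 fun t ht => by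
    by_cases h : t ∈ fitPrimes K
    · exact (M₀.max_core_le_qOf ht hK).trans (hQ t (M₀.fit_mem_primes hK.mem h))
    · rw [show pCoreOf t K = ⊥ from Classical.byContradiction fun h' => h ⟨ht, h'⟩]
      exact bot_le
  have hxL : x ∈ fitPrimes L := M₀.mem_fitPrimes_of_kernel hx hL le_rfl hJ (hJW.trans hWL)
  obtain ⟨v, hv, hvx⟩ := M₀.mixed_of_core_le hx hL hH hxH hr hrx
    ((FitOf.pCoreOf_le_fittingOf hr.1 H).trans (hfit H hH))
  refine M₀.hub_false ⟨hL, fun t => ?_, hfit, fun s hs => ?_⟩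
  · by_cases htx : t = x
    · exact ⟨v, hv, htx ▸ hvx⟩
    · exact ⟨x, hxL, Ne.symm htx⟩
  haveI := Fact.mk hs.1
  have hsp := M₀.fit_mem_primes hL.mem hs
  set Q := qOf p A θ s with hQdef
  have hQL : Q ≤ normalizer (pCoreOf s L : Set G) := (hQ s hsp).trans (FitOf.le_normalizer_pCoreOf s L)
  have hTQ : pCoreOf s L ≤ Q := M₀.max_core_le_qOf hs.1 hL
  have hZY : pCoreOf s L ⊓ centralizer (Q : Set G) ≤ sinkY p A θ s := by
    refine le_inf (le_inf (inf_le_left.trans hTQ) (le_iInf fun ⟨w, hw, hws⟩ => ?_)) inf_le_right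
    have hX := M₀.wc_props hw
    have hZX : pCoreOf s L ⊓ centralizer (Q : Set G) ≤ wc p A θ w :=
      (inf_le_left.trans hTQ).trans (M₀.qOf_le_wc hs.1 hw (Ne.symm hws))
    refine M₀.mem_pCoreOf_of_centralizes hX.1 hZX hs.1
      ((FitOf.isPGroup_pCoreOf s L).to_le inf_le_left) fun t ht => ?_
    by_cases hts : t = s
    · subst hts
      exact inf_le_right.trans (centralizer_le (M₀.wc_core_le_qOf ht hw))
    · by_cases h : t ∈ fitPrimes (wc p A θ w)
      · exact le_centralizer_of_normalizes (W := pCoreOf s L) inf_le_left le_rfl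
          (((M₀.wc_core_le_qOf ht hw).trans (hQ t (M₀.fit_mem_primes hX.1 h))).trans
            (FitOf.le_normalizer_pCoreOf s L))
          (hZX.trans (FitOf.le_normalizer_pCoreOf t _))
          (coprime_of_ne hs.1 ht (Ne.symm hts) (FitOf.isPGroup_pCoreOf s L) (FitOf.isPGroup_pCoreOf t _))
      · rw [show pCoreOf t (wc p A θ w) = ⊥ from Classical.byContradiction fun h' => h ⟨ht, h'⟩]
        exact fun z _ => mem_centralizer_iff.2 fun y hy => by rw [mem_bot.1 hy, one_mul, mul_one]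
  intro hbot
  haveI : ((pCoreOf s L).subgroupOf Q).Normal := normal_subgroupOf_of_le_normalizer hQL
  haveI := (M₀.qOf_isPGroup hs.1).isNilpotent
  refine SolvStruct.inf_center_ne_bot (N := (pCoreOf s L).subgroupOf Q) (fun h => hs.2 ?_)
    ((eq_bot_iff_forall _).2 ?_)
  · rw [subgroupOf_eq_bot, disjoint_iff] at h
    exact (inf_eq_left.2 hTQ).symm.trans h
  · rintro z ⟨hzT, hz⟩
    exact Subtype.ext ((eq_bot_iff_forall _).1 hbot z (hZY ⟨hzT, mem_centralizer_iff.2 fun y hy =>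
      (congrArg Subtype.val (mem_center_iff.1 hz ⟨y, hy⟩) :)⟩))

/-- No odd prime is a sink. -/
theorem not_isSink_odd {x : ℕ} (hx2 : x ≠ 2) : ¬ IsSink p A θ x := by
  rintro ⟨hxp, hY⟩
  have hx : x.Prime := hxp.1
  haveI := Fact.mk hx
  have hxne : x ≠ p := M₀.prime_ne_p hxp
  set J := sinkCore p A θ x with hJdef
  have hJ : J ≠ ⊥ := fun h => hY (le_bot_iff.1 (inf_le_left.trans h.le))
  obtain ⟨W, hW, -, hWmax⟩ := M₀.exists_greatest (M₀.sinkCore_props x).1 hJ
  have hplane : ∀ E, IsPlane p A E → ∀ g ∈ E, ∀ h ∈ E, g ≠ 1 → h ∉ zpowers g → Good p A θ x g →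
      Good p A θ x h → Cfsg.signalizerInf E θ ≤ W := fun E hE g hg h hh hg1 hhg hgg hgh =>
    hWmax _ (M₀.inf_mem hE) (M₀.plane_normalizes_sinkCore hx hx2 hxne hE hg hg1 hh hhg hgg hgh)
  -- the points centralising the kernel are not inside one point
  obtain ⟨g, hgA, hg1, hgJ⟩ : ∃ g ∈ A, g ≠ 1 ∧ g ∈ centralizer (J : Set G) := by
    by_contra hno
    obtain ⟨d, hd, hd1⟩ := M₀.exists_point
    refine M₀.false_of_planes hd hd1 hW fun E hE _ => ?_
    by_cases h : ∃ g ∈ E, ∃ h ∈ E, g ≠ 1 ∧ h ∉ zpowers g ∧ Good p A θ x g ∧ Good p A θ x h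
    · obtain ⟨g, hg, h, hh, hg1, hhg, hgg, hgh⟩ := h
      exact hplane E hE g hg h hh hg1 hhg hgg hgh
    · obtain ⟨g, hg, hg1, hgJ⟩ := M₀.exists_centralizing_point hx hJ hE h
      exact absurd ⟨g, hE.1 hg, hg1, hgJ⟩ hno
  obtain ⟨h, hhA, hhJ, hhg⟩ : ∃ h ∈ A, h ∈ centralizer (J : Set G) ∧ h ∉ zpowers g := by
    by_contra hno
    refine M₀.false_of_planes hgA hg1 hW fun E hE hgE => ?_
    by_cases h : ∃ g ∈ E, ∃ h ∈ E, g ≠ 1 ∧ h ∉ zpowers g ∧ Good p A θ x g ∧ Good p A θ x h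
    · obtain ⟨e, he, f, hf, he1, hfe, hee, hff⟩ := h
      exact hplane E hE e he f hf he1 hfe hee hff
    · obtain ⟨e, he, he1, heJ⟩ := M₀.exists_centralizing_point hx hJ hE h
      by_cases heg : e ∈ zpowers g
      · exact absurd ((M₀.zpowers_eq_of_mem hgA hg1 heg he1).ge.trans (zpowers_le.2 he) (mem_zpowers g)) hgE
      · exact absurd ⟨e, hE.1 he, heJ, heg⟩ hno
  set B := zpowers g ⊔ zpowers h with hB
  have hBp : IsPlane p A B := M₀.isPlane_sup hgA hg1 hhA hhg
  have hBgood : ∀ b ∈ B, b ≠ 1 → Good p A θ x b := by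
    intro b hb hb1
    have hbJ : b ∈ centralizer (J : Set G) := sup_le (zpowers_le.2 hgJ) (zpowers_le.2 hhJ) hb
    refine Classical.byContradiction fun hbad => hJ ?_
    have h1 := M₀.sinkCore_inf_eq_bot hx (hBp.1 hb) hb1 hbad
    rwa [inf_eq_left.2 fun y hy => mem_centralizer_singleton_iff.2
      (mem_centralizer_iff.1 hbJ y hy)] at h1
  -- every other plane has a bad point
  have hother : ∀ D, IsPlane p A D → D ≠ B → ∃ c ∈ D, c ≠ 1 ∧ ¬ Good p A θ x c := by
    intro D hD hne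
    by_contra hno
    obtain ⟨d, hdB, hdD, hd1⟩ := M₀.meet hBp hD
    refine M₀.false_of_planes (hBp.1 hdB) hd1 hW fun E hE hdE => ?_
    obtain ⟨e, he, heB, he1⟩ := M₀.meet hE hBp
    obtain ⟨f, hf, hfD, hf1⟩ := M₀.meet hE hD
    refine hplane E hE e he f hf he1 (fun hfe => ?_) (hBgood e heB he1)
      (Classical.byContradiction fun h' => hno ⟨f, hfD, hf1, h'⟩)
    by_cases hfd : f ∈ zpowers d
    · exact hdE ((M₀.zpowers_eq_of_mem (hBp.1 hdB) hd1 hfd hf1).ge.trans (zpowers_le.2 hf) (mem_zpowers d))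
    · exact hne (M₀.plane_eq hD hBp hdD hdB hd1 hfD (zpowers_le.2 heB hfe) hfd)
  -- a point of `B` centralises its own core
  have hown : ∀ d ∈ B, d ≠ 1 → ∀ H, IsMax p A θ H → θ d ≤ H → x ∈ fitPrimes H →
      pCoreOf x H ≤ centralizer ({d} : Set G) := by
    intro d hd hd1 H hH hdH hxH
    have hdA := hBp.1 hd
    have hTm := M₀.pCoreOf_mem hH.mem x
    refine M₀.le_of_planes (family_normalizer hTm) hTm.2.1 fun D hD => ?_
    by_cases hdD : d ∈ D
    · exact inf_le_right.trans (centralizer_le (Set.singleton_subset_iff.2 hdD))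
    obtain ⟨c, hc, hc1, hbad⟩ := hother D hD fun e => hdD (e ▸ hd)
    obtain ⟨K, hK, hcK⟩ := M₀.exists_maxOf (hD.1 hc) hc1
    set U := pCoreOf x H ⊓ centralizer (D : Set G) with hU
    have hUA : A ≤ normalizer (U : Set G) :=
      le_normalizer_inf (family_normalizer hTm) (M₀.inv_plane hD)
    have hUm : U ∈ Cfsg.signalizerFamily p A θ := family_mono hTm inf_le_left hUA
    have hUK : U ≤ K := (M₀.fixed_le_inf hTm hD).trans ((M₀.mem_inf hD hc hc1).trans hcK)
    have hV : ⁅U, zpowers d⁆ ≤ pCoreOf x K := by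
      refine M₀.mem_pCoreOf_of_centralizes hK.mem
        ((CoprimeAct.commutator_le_left ((zpowers_le.2 hdA).trans hUA)).trans hUK) hx
        ((FitOf.isPGroup_pCoreOf x H).to_le
          ((CoprimeAct.commutator_le_left ((zpowers_le.2 hdA).trans hUA)).trans inf_le_left))
        fun s hs => ?_
      by_cases hsx : s = x
      · subst hsx
        rw [show pCoreOf s K = ⊥ from Classical.byContradiction fun h' => hbad ⟨K, hK, hcK, hs, h'⟩]
        exact fun z _ => mem_centralizer_iff.2 fun y hy => by rw [mem_bot.1 hy, one_mul, mul_one]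
      · by_cases hsK : s ∈ fitPrimes K
        · haveI := Fact.mk hs
          have hSA : A ≤ normalizer (pCoreOf s K : Set G) :=
            (family_normalizer hK.mem).trans (normalizer_le_normalizer_pCoreOf s K)
          refine hh hsx (M₀.ne_p hK.mem hsK) hxne (M₀.orderOf_eq hdA hd1)
            ((FitOf.isPGroup_pCoreOf x H).to_le inf_le_left) (Or.inl hx2) (hUA hdA)
            (FitOf.isPGroup_pCoreOf s K) (hSA hdA) (hUK.trans (FitOf.le_normalizer_pCoreOf s K)) ?_
          rw [Subgroup.le_centralizer_iff]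
          exact le_centralizer_of_normalizes (W := pCoreOf s K) inf_le_left inf_le_left
            (hUK.trans (FitOf.le_normalizer_pCoreOf s K))
            ((((M₀.pCoreOf_mem hK.mem s).2.2.2 d hdA hd1).trans hdH).trans
              (FitOf.le_normalizer_pCoreOf x H))
            (coprime_of_ne hs hx hsx (FitOf.isPGroup_pCoreOf s K) (FitOf.isPGroup_pCoreOf x H))
        · rw [show pCoreOf s K = ⊥ from Classical.byContradiction fun h' => hsK ⟨hs, h'⟩]
          exact fun z _ => mem_centralizer_iff.2 fun y hy => by rw [mem_bot.1 hy, one_mul, mul_one]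
    rw [← centralizer_zpowers_eq, ← commutator_eq_bot_iff_le_centralizer]
    exact le_bot_iff.1 (hV.trans
      (le_of_eq (Classical.byContradiction fun h' => hbad ⟨K, hK, hcK, hx, h'⟩)))
  obtain ⟨WY, hWY, -, hWYmax⟩ := M₀.exists_greatest (M₀.sinkY_props x).1 hY
  have hCY : Cfsg.signalizerInf A θ ≤ WY := hWYmax _ M₀.core_mem (M₀.sinkY_props x).2.1
  obtain ⟨L, hL, hWYL⟩ := M₀.exists_max hWY (hCY.trans le_normalizer)
  -- `[θ b, d]` lies in `L` when `d` centralises the core of a maximum of `b`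
  have hcomm : ∀ d ∈ A, ∀ b ∈ A, b ≠ 1 → ∀ H, IsMax p A θ H → θ b ≤ H → x ∈ fitPrimes H →
      d ∈ centralizer (pCoreOf x H : Set G) → ⁅θ b, zpowers d⁆ ≤ L := by
    intro d hd b hb hb1 H hH hbH hxH hdc
    refine (hWYmax _ (M₀.commutator_mem (M₀.theta_mem hb hb1) hd) ?_).trans hWYL
    exact ((commutator_le_centralizer_three hdc (hbH.trans (FitOf.le_normalizer_pCoreOf x H))).trans
      (centralizer_le ((M₀.sinkY_le_centreCore hH hxH).trans inf_le_left))).trans
        (centralizer_le_normalizer _)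
  by_cases hchar : ∃ d ∈ B, d ≠ 1 ∧ ∃ H, IsMax p A θ H ∧ θ d ≤ H ∧ x ∈ fitPrimes H ∧
      ∀ t ∈ fitPrimes H, t = x
  · obtain ⟨d, hd, hd1, H, hH, hdH, hxH, hall⟩ := hchar
    have hdA := hBp.1 hd
    have hdF : d ∈ centralizer (fittingOf H : Set G) := by
      refine mem_centralizer_iff.2 fun y hy => mem_centralizer_singleton_iff.1 ((?_ :
        fittingOf H ≤ centralizer ({d} : Set G)) hy)
      refine FitOf.fittingOf_le_iff.2 fun t ht => ?_
      by_cases htH : t ∈ fitPrimes H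
      · rw [hall t htH]; exact hown d hd hd1 H hH hdH hxH
      · rw [show pCoreOf t H = ⊥ from Classical.byContradiction fun h' => htH ⟨ht, h'⟩]
        exact bot_le
    have hQd := M₀.qOf_le_theta hH hdA hd1 hdH hdF hxH
    refine M₀.crit hdA hd1 hL.mem fun E hE hdE => ?_
    obtain ⟨b, hbE, hbB, hb1⟩ := M₀.meet hE hBp
    obtain ⟨K, hK, hbK, hxK⟩ := hBgood b hbB hb1
    refine (commutator_mono (M₀.mem_inf hE hbE hb1) le_rfl).trans
      (hcomm d hdA b (hBp.1 hbB) hb1 K hK hbK hxK (mem_centralizer_iff.2 fun y hy => ?_))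
    exact mem_centralizer_singleton_iff.1
      (M₀.theta_le_centralizer hdA hd1 (hQd (M₀.max_core_le_qOf hx hK hy)))
  -- all the maxima over `B` are mixed
  have hmix : ∀ b ∈ B, b ≠ 1 → ∀ H, IsMax p A θ H → θ b ≤ H → x ∈ fitPrimes H →
      ∃ r ∈ fitPrimes H, r ≠ x := fun b hb hb1 H hH hbH hxH =>
    Classical.byContradiction fun hno => hchar ⟨b, hb, hb1, H, hH, hbH, hxH, fun t ht =>
      Classical.byContradiction fun htx => hno ⟨t, ht, htx⟩⟩
  obtain ⟨b₀, hb₀, hb₀1⟩ := M₀.exists_ne_one hBp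
  obtain ⟨H₀, hH₀, hb₀H, hxH₀⟩ := hBgood b₀ hb₀ hb₀1
  obtain ⟨r₀, hr₀, hr₀x⟩ := hmix b₀ hb₀ hb₀1 H₀ hH₀ hb₀H hxH₀
  by_cases hfour : ∀ s t v : ℕ, ∃ u ∈ primes A θ, u ≠ s ∧ u ≠ t ∧ u ≠ v
  · exact M₀.false_of_four hx hJ hfour hH₀ hxH₀ hr₀ hr₀x
  simp only [not_forall, not_exists, not_and] at hfour
  obtain ⟨s₁, s₂, s₃, h3⟩ := hfour
  have h3' : ∀ t ∈ primes A θ, t = s₁ ∨ t = s₂ ∨ t = s₃ := fun t ht => by
    by_contra hc
    simp only [not_or] at hc
    exact h3 t ht hc.1 hc.2.1 hc.2.2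
  have hfitY : ∀ H, IsMax p A θ H → x ∈ fitPrimes H → fittingOf H ≤ L := fun H hH hxH =>
    (hWYmax _ (family_mono hH.mem (FitOf.fittingOf_le H) ((family_normalizer hH.mem).trans
      (normalizer_le_normalizer_map _ (FittingCores.fitting_characteristic (G := H)))))
        (M₀.fittingOf_le_normalizer hH hxH)).trans hWYL
  have hxL : x ∈ fitPrimes L := M₀.mem_fitPrimes_of_le hx hL le_rfl hY
    ((hWYmax _ (M₀.sinkY_props x).1 le_normalizer).trans hWYL)
  obtain ⟨v, hv, hvx⟩ := M₀.mixed_of_core_le hx hL hH₀ hxH₀ hr₀ hr₀x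
    ((FitOf.pCoreOf_le_fittingOf hr₀.1 H₀).trans (hfitY H₀ hH₀ hxH₀))
  -- the primes of a mixed maximum with `x`
  have hpair : ∀ H, IsMax p A θ H → x ∈ fitPrimes H → ∀ r ∈ fitPrimes H, r ≠ x →
      ∀ t, (t ∈ fitPrimes H ↔ t = x ∨ t = r) := by
    intro H hH hxH r hr hrx t
    refine ⟨fun ht => ?_, fun ht => by rcases ht with rfl | rfl <;> assumption⟩
    obtain ⟨u, hu, huH⟩ := M₀.no_full hH
    have := h3' x hxp
    have := h3' r (M₀.fit_mem_primes hH.mem hr)
    have := h3' t (M₀.fit_mem_primes hH.mem ht)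
    have := h3' u hu
    have h1 : u ≠ x := fun e => huH (e ▸ hxH)
    have h2 : u ≠ r := fun e => huH (e ▸ hr)
    have h4 : u ≠ t := fun e => huH (e ▸ ht)
    omega
  have hLeq : ∀ H, IsMax p A θ H → x ∈ fitPrimes H → v ∈ fitPrimes H → H = L := fun H hH hxH hvH =>
    M₀.eq_of_fitPrimes hL hH hxL hv hvx fun t =>
      (hpair L hL hxL v hv hvx t).trans (hpair H hH hxH v hvH hvx t).symm
  by_cases hN : ∃ d ∈ B, d ≠ 1 ∧ ∃ H, IsMax p A θ H ∧ θ d ≤ H ∧ x ∈ fitPrimes H ∧ v ∉ fitPrimes H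
  · obtain ⟨d, hd, hd1, H, hH, hdH, hxH, hvH⟩ := hN
    obtain ⟨r, hr, hrx⟩ := hmix d hd hd1 H hH hdH hxH
    refine M₀.crit (hBp.1 hd) hd1 hL.mem fun E hE hdE => ?_
    obtain ⟨b, hbE, hbB, hb1⟩ := M₀.meet hE hBp
    obtain ⟨K, hK, hbK, hxK⟩ := hBgood b hbB hb1
    refine (commutator_mono (M₀.mem_inf hE hbE hb1) le_rfl).trans ?_
    by_cases hvK : v ∈ fitPrimes K
    · refine (commutator_mono hbK le_rfl).trans ?_
      rw [hLeq K hK hxK hvK]
      exact CoprimeAct.commutator_le_left ((zpowers_le.2 (hBp.1 hd)).trans (family_normalizer hL.mem))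
    obtain ⟨r', hr', hr'x⟩ := hmix b hbB hb1 K hK hbK hxK
    have hrr : r' = r := by
      have := h3' x hxp
      have := h3' r (M₀.fit_mem_primes hH.mem hr)
      have := h3' r' (M₀.fit_mem_primes hK.mem hr')
      have := h3' v (M₀.fit_mem_primes hL.mem hv)
      have h1 : r ≠ v := fun e => hvH (e ▸ hr)
      have h2 : r' ≠ v := fun e => hvK (e ▸ hr')
      omega
    subst hrr
    have hKH : K = H := M₀.eq_of_fitPrimes hH hK hxH hr hrx fun t =>
      (hpair H hH hxH _ hr hrx t).trans (hpair K hK hxK _ hr' hrx t).symm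
    subst hKH
    exact hcomm d (hBp.1 hd) b (hBp.1 hbB) hb1 K hK hbK hxK (mem_centralizer_iff.2 fun y hy =>
      mem_centralizer_singleton_iff.1 (hown d hd hd1 K hK hdH hxH hy))
  · refine M₀.line hBp hb₀ hb₀1 hL.mem fun b hb hbz => ?_
    have hb1 : b ≠ 1 := fun e => hbz (e ▸ one_mem _)
    obtain ⟨H, hH, hbH, hxH⟩ := hBgood b hb hb1
    exact hbH.trans (le_of_eq (hLeq H hH hxH
      (Classical.byContradiction fun h' => hN ⟨b, hb, hb1, H, hH, hbH, hxH, h'⟩)))

end Min3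

end Cfsg.Agent.Signalizer.SFT
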