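import Cfsg.Agent.Lib.Signalizer.SFT.OddSink

/-!
Points centralising the Fitting cores of their own maxima when there are no odd sinks.
-/

set_option autoImplicit false
set_option linter.style.haveILetI false
set_option linter.unusedSectionVars false
set_option linter.unusedVariables false

open scoped Pointwise commutatorElement

universe u

namespace Cfsg.Agent.Signalizer.SFT

open Subgroup
open Cfsg (pCoreOf fittingOf)
open Cfsg.Agent.OddOrder

variable {G : Type u} [Group G] [Finite G]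

theorem le_centralizer_bot {H : Subgroup G} : H ≤ centralizer ((⊥ : Subgroup G) : Set G) :=
  fun z _ => mem_centralizer_iff.2 fun y hy => by rw [mem_bot.1 hy, one_mul, mul_one]

theorem pCoreOf_eq_bot {t : ℕ} (ht : t.Prime) {M : Subgroup G} (h : t ∉ fitPrimes M) :
    pCoreOf t M = ⊥ :=
  Classical.byContradiction fun h' => h ⟨ht, h'⟩

theorem mem_centralizer_of_le {H : Subgroup G} {a : G} (h : H ≤ centralizer ({a} : Set G)) :
    a ∈ centralizer (H : Set G) :=
  mem_centralizer_iff.2 fun y hy => mem_centralizer_singleton_iff.1 (h hy)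

variable {p : ℕ} [hp : Fact p.Prime] {A : Subgroup G} {θ : G → Subgroup G}

namespace Min3

variable (M₀ : Min3 p A θ)
include M₀

/-- A non-trivial subgroup of `Q_x` centralising the other cores of the complements makes a sink. -/
theorem isSink_of_centralizes {x : ℕ} (hxp : x ∈ primes A θ) {V : Subgroup G}
    (hV : V ≤ qOf p A θ x) (hV1 : V ≠ ⊥)
    (h : ∀ w ∈ primes A θ, w ≠ x → ∀ s : ℕ, s.Prime → s ≠ x →
      V ≤ centralizer (pCoreOf s (wc p A θ w) : Set G)) : IsSink p A θ x := by
  classical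
  haveI := Fact.mk hxp.1
  refine ⟨hxp, fun hbot => hV1 ?_⟩
  set Q := qOf p A θ x with hQ
  let I := {i : ℕ × ℕ // i.1 ∈ primes A θ ∧ i.1 ≠ x ∧ i.2.Prime ∧ i.2 ≠ x}
  set K := Q ⊓ ⨅ i : I, centralizer (pCoreOf i.1.2 (wc p A θ i.1.1) : Set G) with hK
  have hVK : V ≤ K := le_inf hV (le_iInf fun i => h _ i.2.1 i.2.2.1 _ i.2.2.2.1 i.2.2.2.2)
  have hQK : Q ≤ normalizer (K : Set G) :=
    Signalizer.le_normalizer_inf le_normalizer (le_normalizer_iInf fun i =>
      le_normalizer_centralizer ((M₀.qOf_le_wc hxp.1 i.2.1 (Ne.symm i.2.2.1)).trans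
        (FitOf.le_normalizer_pCoreOf _ _)))
  haveI : (K.subgroupOf Q).Normal := normal_subgroupOf_of_le_normalizer hQK
  haveI := (M₀.qOf_isPGroup hxp.1).isNilpotent
  by_contra hne
  refine SolvStruct.inf_center_ne_bot (N := K.subgroupOf Q) (fun hb => hne ?_)
    ((eq_bot_iff_forall _).2 ?_)
  · rw [subgroupOf_eq_bot, disjoint_iff] at hb
    exact le_bot_iff.1 (hVK.trans (le_of_eq ((inf_eq_left.2 inf_le_left).symm.trans hb)))
  rintro z ⟨hzK, hz⟩
  have hKQ : K ⊓ centralizer (Q : Set G) ≤ sinkY p A θ x := by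
    refine le_inf (le_inf (inf_le_left.trans inf_le_left) (le_iInf fun ⟨w, hw, hwx⟩ => ?_)) inf_le_right
    refine M₀.mem_pCoreOf_of_centralizes (M₀.wc_props hw).1
      ((inf_le_left.trans inf_le_left).trans (M₀.qOf_le_wc hxp.1 hw (Ne.symm hwx))) hxp.1
      ((M₀.qOf_isPGroup hxp.1).to_le (inf_le_left.trans inf_le_left)) fun s hs => ?_
    by_cases hsx : s = x
    · subst hsx
      exact inf_le_right.trans (centralizer_le (M₀.wc_core_le_qOf hs hw))
    · exact (inf_le_left.trans inf_le_right).trans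
        (iInf_le (fun i : I => centralizer (pCoreOf i.1.2 (wc p A θ i.1.1) : Set G))
          ⟨(w, s), hw, hwx, hs, hsx⟩)
  exact Subtype.ext ((eq_bot_iff_forall _).1 hbot z (hKQ ⟨hzK, mem_centralizer_iff.2 fun y hy =>
    (congrArg Subtype.val (mem_center_iff.1 hz ⟨y, hy⟩) :)⟩))

/-- If `x` is not a sink, a point centralises the subgroups of its core for which the fixed point
lemma applies. -/
theorem centralizes_own {x : ℕ} (hns : ¬ IsSink p A θ x) {a : G} (ha : a ∈ A) (ha1 : a ≠ 1)
    {H : Subgroup G} (hH : IsMax p A θ H) (haH : θ a ≤ H) (hx : x ∈ fitPrimes H) {P : Subgroup G}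
    (hPA : A ≤ normalizer (P : Set G)) (hP : P ≤ pCoreOf x H) (h2 : x ≠ 2 ∨ IsMulCommutative P) :
    P ≤ centralizer ({a} : Set G) := by
  haveI := Fact.mk hx.1
  have hxp := M₀.fit_mem_primes hH.mem hx
  have hPQ : P ≤ qOf p A θ x := hP.trans (M₀.max_core_le_qOf hx.1 hH)
  have hPa : zpowers a ≤ normalizer (P : Set G) := (zpowers_le.2 ha).trans hPA
  rw [← centralizer_zpowers_eq, ← commutator_eq_bot_iff_le_centralizer]
  refine Classical.byContradiction fun hne => hns (M₀.isSink_of_centralizes hxp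
    ((CoprimeAct.commutator_le_left hPa).trans hPQ) hne fun w hw hwx s hs hsx => ?_)
  by_cases hsX : s ∈ fitPrimes (wc p A θ w)
  swap
  · rw [pCoreOf_eq_bot hs hsX]
    exact le_centralizer_bot
  haveI := Fact.mk hs
  have hX := M₀.wc_props hw
  have hWA : A ≤ normalizer (pCoreOf s (wc p A θ w) : Set G) :=
    (family_normalizer hX.1).trans (normalizer_le_normalizer_pCoreOf s _)
  have hPW : P ≤ normalizer (pCoreOf s (wc p A θ w) : Set G) :=
    (hPQ.trans (M₀.qOf_le_wc hx.1 hw (Ne.symm hwx))).trans (FitOf.le_normalizer_pCoreOf s _)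
  refine hh hsx (M₀.ne_p hX.1 hsX) (M₀.prime_ne_p hxp) (M₀.orderOf_eq ha ha1)
    ((FitOf.isPGroup_pCoreOf x H).to_le hP) h2 (hPA ha) (FitOf.isPGroup_pCoreOf s _) (hWA ha) hPW ?_
  rw [Subgroup.le_centralizer_iff]
  exact le_centralizer_of_normalizes (W := pCoreOf s (wc p A θ w)) inf_le_left hP hPW
    ((((M₀.pCoreOf_mem hX.1 s).2.2.2 a ha ha1).trans haH).trans (FitOf.le_normalizer_pCoreOf x H))
    (coprime_of_ne hs hx.1 hsx (FitOf.isPGroup_pCoreOf s _) (FitOf.isPGroup_pCoreOf x H))

/-- A point centralises the odd cores of its maxima. -/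
theorem centralizes_own_odd {x : ℕ} (hx2 : x ≠ 2) {a : G} (ha : a ∈ A) (ha1 : a ≠ 1)
    {H : Subgroup G} (hH : IsMax p A θ H) (haH : θ a ≤ H) (hx : x ∈ fitPrimes H) :
    pCoreOf x H ≤ centralizer ({a} : Set G) :=
  M₀.centralizes_own (M₀.not_isSink_odd hx2) ha ha1 hH haH hx
    ((family_normalizer hH.mem).trans (normalizer_le_normalizer_pCoreOf x H)) le_rfl (Or.inl hx2)

/-- Without `2` in the Fitting primes the maximum is `θ a`. -/
theorem centralizes_fitting_of_odd {a : G} (ha : a ∈ A) (ha1 : a ≠ 1) {H : Subgroup G}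
    (hH : IsMax p A θ H) (haH : θ a ≤ H) (h2 : 2 ∉ fitPrimes H) :
    a ∈ centralizer (fittingOf H : Set G) :=
  mem_centralizer_of_le (FitOf.fittingOf_le_iff.2 fun t ht => by
    by_cases htH : t ∈ fitPrimes H
    · exact M₀.centralizes_own_odd (fun e => h2 (e ▸ htH)) ha ha1 hH haH htH
    · rw [pCoreOf_eq_bot ht htH]
      exact bot_le)

/-- An odd-order subgroup of a maximum centralising the `2`-core is centralised by the point. -/
theorem centralized_of_two_core {a : G} (ha : a ∈ A) (ha1 : a ≠ 1) {H : Subgroup G}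
    (hH : IsMax p A θ H) (haH : θ a ≤ H) {V : Subgroup G} (hV : V ∈ Cfsg.signalizerFamily p A θ)
    (hVH : V ≤ H) (hodd : ¬ 2 ∣ Nat.card V) (h2 : V ≤ centralizer (pCoreOf 2 H : Set G)) :
    V ≤ centralizer ({a} : Set G) := by
  have hn : zpowers a ≤ normalizer (V : Set G) := (zpowers_le.2 ha).trans (family_normalizer hV)
  rw [← centralizer_zpowers_eq, ← commutator_eq_bot_iff_le_centralizer, ← M₀.commutator_idem hV ha,
    commutator_eq_bot_iff_le_centralizer]
  have hle : ⁅V, zpowers a⁆ ≤ V := CoprimeAct.commutator_le_left hn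
  haveI := hH.mem.1
  have hF : ⁅V, zpowers a⁆ ≤ fittingOf H := by
    refine (le_inf (hle.trans hVH) ?_).trans (FitOf.inf_centralizer_fittingOf_le H)
    rw [Subgroup.le_centralizer_iff, FitOf.fittingOf_le_iff]
    intro s hs
    rw [Subgroup.le_centralizer_iff]
    by_cases hsH : s ∈ fitPrimes H
    · by_cases hs2 : s = 2
      · subst hs2
        exact hle.trans h2
      · exact commutator_le_centralizer_three
          (mem_centralizer_of_le (M₀.centralizes_own_odd hs2 ha ha1 hH haH hsH))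
          (hVH.trans (FitOf.le_normalizer_pCoreOf s H))
    · rw [pCoreOf_eq_bot hs hsH]
      exact le_centralizer_bot
  -- the odd part of the Fitting subgroup is centralised by `a`
  set O := ⁅V, zpowers a⁆ with hO
  have hOle : ∀ t : ℕ, t.Prime → ∀ P : Sylow t O, ∀ y ∈ (P : Subgroup O), (y : G) ∈ centralizer ({a} : Set G) := by
    intro t ht P y hy
    haveI := Fact.mk ht
    have hPF : (P : Subgroup O).map O.subtype ≤ fittingOf H := (map_subtype_le _).trans hF
    have hyT : (y : G) ∈ pCoreOf t H :=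
      pgroup_le_pCoreOf (P.2.map O.subtype) hPF ⟨y, hy, rfl⟩
    by_cases htH : t ∈ fitPrimes H
    · by_cases ht2 : t = 2
      · subst ht2
        have hy1 : (y : G) = 1 := by
          by_contra hy1
          obtain ⟨n, hn⟩ := IsPGroup.iff_orderOf.1 P.2 ⟨y, hy⟩
          rw [orderOf_mk, ← orderOf_coe] at hn
          have hn0 : n ≠ 0 := fun h0 => hy1 (orderOf_eq_one_iff.1 (by rw [hn, h0, pow_zero]))
          exact hodd ((dvd_pow_self 2 hn0).trans
            (hn ▸ orderOf_mk (H := V) _ (hle y.2) ▸ orderOf_dvd_natCard _))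
        rw [hy1]
        exact one_mem _
      · exact M₀.centralizes_own_odd ht2 ha ha1 hH haH htH hyT
    · rw [pCoreOf_eq_bot ht htH, mem_bot] at hyT
      rw [hyT]
      exact one_mem _
  rw [centralizer_zpowers_eq]
  intro y hy
  have htop : (centralizer ({a} : Set G)).subgroupOf O = ⊤ :=
    eq_top_iff.2 ((FittingCores.eq_top_of_forall_sylow_le fun t ht => ⟨Classical.arbitrary _, fun z hz => hOle t ht _ z hz⟩).ge)
  exact (htop ▸ mem_top (⟨y, hy⟩ : O) : (⟨y, hy⟩ : O) ∈ (centralizer ({a} : Set G)).subgroupOf O)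

end Min3

end Cfsg.Agent.Signalizer.SFT
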