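import Cfsg.Agent.Lib.Signalizer.SFT.Minimal
import Cfsg.Agent.Lib.FGBasics.InvariantHall

/-!
The greatest `σ`-members normalised by the core `θ(A)` in a minimal counterexample.
-/

set_option autoImplicit false
set_option linter.style.haveILetI false
set_option linter.unusedSectionVars false
set_option linter.unusedVariables false

open scoped Pointwise commutatorElement

universe u

namespace Cfsg.Agent.Signalizer.SFT

open Subgroup

variable {G : Type u} [Group G]

/-- All prime divisors of the order of `U` lie in `σ`. -/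
def IsSigma (σ : Set ℕ) (U : Subgroup G) : Prop :=
  ∀ q : ℕ, q.Prime → q ∣ Nat.card U → q ∈ σ

/-- The prime divisors of the values. -/
def primes (A : Subgroup G) (θ : G → Subgroup G) : Set ℕ :=
  {q | q.Prime ∧ ∃ a ∈ A, a ≠ 1 ∧ q ∣ Nat.card (θ a)}

/-- The join of the `σ`-subgroups of `K` normalised by `A` and by the core. -/
def sigmaPart (σ : Set ℕ) (A : Subgroup G) (θ : G → Subgroup G) (K : Subgroup G) : Subgroup G :=
  sSup {U | U ≤ K ∧ A ≤ normalizer (U : Set G) ∧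
    Cfsg.signalizerInf A θ ≤ normalizer (U : Set G) ∧ IsSigma σ U}

/-- The greatest `σ`-member normalised by the core. -/
def wOf (p : ℕ) (A : Subgroup G) (θ : G → Subgroup G) (σ : Set ℕ) : Subgroup G :=
  sSup {X | X ∈ Cfsg.signalizerFamily p A θ ∧
    Cfsg.signalizerInf A θ ≤ normalizer (X : Set G) ∧ IsSigma σ X}

theorem IsSigma.mono [Finite G] {σ : Set ℕ} {U V : Subgroup G} (h : IsSigma σ U) (hle : V ≤ U) :
    IsSigma σ V :=
  fun q hq hd => h q hq (hd.trans (card_dvd_of_le hle))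

theorem IsSigma.subset [Finite G] {σ τ : Set ℕ} {U : Subgroup G} (h : IsSigma σ U) (hle : σ ⊆ τ) :
    IsSigma τ U :=
  fun q hq hd => hle (h q hq hd)

theorem isSigma_singleton_iff [Finite G] {t : ℕ} (ht : t.Prime) {U : Subgroup G} :
    IsSigma {t} U ↔ IsPGroup t U := by
  haveI := Fact.mk ht
  constructor
  · intro h
    exact IsPGroup.of_card (n := (Nat.card U).primeFactorsList.length)
      (Nat.eq_prime_pow_of_unique_prime_dvd Nat.card_pos.ne' fun {q} hq hd => h q hq hd)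
  · intro h q hq hd
    obtain ⟨n, hn⟩ := h.exists_card_eq
    exact (Nat.prime_dvd_prime_iff_eq hq ht).1 (hq.dvd_of_dvd_pow (hn ▸ hd))

theorem IsSigma.of_isPGroup [Finite G] {σ : Set ℕ} {t : ℕ} (ht : t.Prime) (hσ : t ∈ σ)
    {U : Subgroup G} (h : IsPGroup t U) : IsSigma σ U :=
  ((isSigma_singleton_iff ht).2 h).subset (Set.singleton_subset_iff.2 hσ)

theorem exists_sigma_split (σ : Set ℕ) : ∀ n : ℕ, n ≠ 0 → ∃ m k : ℕ, n = m * k ∧ m.Coprime k ∧
    (∀ q : ℕ, q.Prime → q ∣ m → q ∈ σ) ∧ ∀ q : ℕ, q.Prime → q ∣ k → q ∉ σ := by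
  intro n
  induction n using Nat.recOnPrimeCoprime with
  | zero => exact fun h => absurd rfl h
  | prime_pow q e hq =>
    intro _
    classical
    by_cases h : q ∈ σ
    · exact ⟨q ^ e, 1, (mul_one _).symm, Nat.coprime_one_right _,
        fun r hr hd => (Nat.prime_dvd_prime_iff_eq hr hq).1 (hr.dvd_of_dvd_pow hd) ▸ h,
        fun r hr hd => absurd (Nat.dvd_one.1 hd) hr.ne_one⟩
    · exact ⟨1, q ^ e, (one_mul _).symm, Nat.coprime_one_left _,
        fun r hr hd => absurd (Nat.dvd_one.1 hd) hr.ne_one,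
        fun r hr hd => (Nat.prime_dvd_prime_iff_eq hr hq).1 (hr.dvd_of_dvd_pow hd) ▸ h⟩
  | coprime a b ha hb hab iha ihb =>
    intro _
    obtain ⟨m, k, rfl, hmk, hm, hk⟩ := iha (by omega)
    obtain ⟨m', k', rfl, hmk', hm', hk'⟩ := ihb (by omega)
    refine ⟨m * m', k * k', by ring, ?_, fun q hq hd => ((hq.dvd_mul).1 hd).elim (hm q hq) (hm' q hq),
      fun q hq hd => ((hq.dvd_mul).1 hd).elim (hk q hq) (hk' q hq)⟩
    refine Nat.coprime_of_dvd fun q hq hd hd' => ?_
    exact ((hq.dvd_mul).1 hd').elim (fun h => hk q hq h) (fun h => hk' q hq h)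
      (((hq.dvd_mul).1 hd).elim (hm q hq) (hm' q hq))

variable [Finite G] {p : ℕ} [hp : Fact p.Prime] {A : Subgroup G} {θ : G → Subgroup G}

namespace Setup

variable (S : Setup p A θ)
include S

theorem sigmaPart_props (σ : Set ℕ) {K : Subgroup G} (hK : K ∈ Cfsg.signalizerFamily p A θ)
    (hCK : Cfsg.signalizerInf A θ ≤ normalizer (K : Set G)) :
    sigmaPart σ A θ K ≤ K ∧ A ≤ normalizer (sigmaPart σ A θ K : Set G) ∧
      Cfsg.signalizerInf A θ ≤ normalizer (sigmaPart σ A θ K : Set G) ∧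
      IsSigma σ (sigmaPart σ A θ K) := by
  refine ⟨sSup_le fun U hU => hU.1, ?_, ?_, ?_⟩
  · rw [sigmaPart, sSup_eq_iSup]
    exact le_normalizer_iSup fun U => le_normalizer_iSup fun hU => hU.2.1
  · rw [sigmaPart, sSup_eq_iSup]
    exact le_normalizer_iSup fun U => le_normalizer_iSup fun hU => hU.2.2.1
  · haveI := hK.1
    obtain ⟨m, k, hmk, hcop, hm, hk⟩ := exists_sigma_split σ (Nat.card K) Nat.card_pos.ne'
    have hAK := family_normalizer hK
    have hAKcop := S.coprime hK le_rfl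
    obtain ⟨⟨H₀, hH₀, hH₀c, hH₀A⟩, hconj⟩ :=
      InvariantHall.exists_and_conj hAK hAKcop hK.1 hmk hcop
    intro q hq hd
    refine hm q hq (hH₀c ▸ hd.trans (card_dvd_of_le (sSup_le fun U hU => ?_)))
    obtain ⟨hUK, hUA, hUC, hUσ⟩ := hU
    have hUk : (Nat.card U).Coprime k :=
      Nat.coprime_of_dvd fun r hr h1 h2 => hk r hr h2 (hUσ r hr h1)
    obtain ⟨H, hH, hHc, hHA, hUH⟩ := InvariantHall.exists_ge (Nat.card K) G A K U rfl hAK hAKcop hK.1
      m k hmk hcop hUK hUk hUA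
    obtain ⟨c, hc, hceq⟩ := hconj H H₀ hH hHc hHA hH₀ hH₀c hH₀A
    have hcC : c ∈ Cfsg.signalizerInf A θ := S.mem_core_of_fixed hK hc
    rw [← hceq, ← SolvBasic.conjSmul_eq_self_of_mem_normalizer (hUC hcC)]
    exact Subgroup.pointwise_smul_le_pointwise_smul_iff.2 hUH

theorem le_sigmaPart {σ : Set ℕ} {K U : Subgroup G} (hU : U ≤ K) (hA : A ≤ normalizer (U : Set G))
    (hC : Cfsg.signalizerInf A θ ≤ normalizer (U : Set G)) (hσ : IsSigma σ U) :
    U ≤ sigmaPart σ A θ K :=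
  le_sSup ⟨hU, hA, hC, hσ⟩

theorem core_normalizes_theta {a : G} (ha : a ∈ A) (ha1 : a ≠ 1) :
    Cfsg.signalizerInf A θ ≤ normalizer (θ a : Set G) :=
  (S.inf_le ha ha1).trans le_normalizer

theorem core_centralizes {B : Subgroup G} (hB : B ≤ A) :
    Cfsg.signalizerInf A θ ≤ centralizer (B : Set G) :=
  S.core_le_centralizer.trans (centralizer_le hB)

theorem core_normalizes_centralizer {B : Subgroup G} (hB : B ≤ A) :
    Cfsg.signalizerInf A θ ≤ normalizer ((centralizer (B : Set G) : Subgroup G) : Set G) :=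
  (S.core_centralizes hB).trans le_normalizer

theorem sigma_functor (σ : Set ℕ) :
    IsSolvableSignalizerFunctor p A fun a => sigmaPart σ A θ (θ a) := by
  have hle : ∀ a ∈ A, a ≠ 1 → sigmaPart σ A θ (θ a) ≤ θ a := fun a ha ha1 =>
    (S.sigmaPart_props σ (S.theta_mem ha ha1) (S.core_normalizes_theta ha ha1)).1
  refine ⟨⟨fun a ha ha1 => (hle a ha ha1).trans (S.theta_le_centralizer ha ha1),
    fun a ha ha1 hd => S.fn.1.2.1 a ha ha1 (hd.trans (card_dvd_of_le (hle a ha ha1))),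
    fun a ha ha1 => le_normalizer_iff_conj_mem.1
      (S.sigmaPart_props σ (S.theta_mem ha ha1) (S.core_normalizes_theta ha ha1)).2.1,
    fun a ha ha1 b hb hb1 => ?_⟩, fun a ha ha1 => isSolvable_of_le (hle a ha ha1) (S.fn.2 a ha ha1)⟩
  obtain ⟨-, hA', hC', hσ'⟩ :=
    S.sigmaPart_props σ (S.theta_mem ha ha1) (S.core_normalizes_theta ha ha1)
  refine le_sSup ⟨(inf_le_inf_right _ (hle a ha ha1)).trans (S.fn.1.2.2.2 a ha ha1 b hb hb1), ?_, ?_,
    hσ'.mono inf_le_left⟩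
  · exact le_normalizer_inf hA' (le_normalizer_of_le_centralizer (ea_le_centralizer_singleton S.ea hb))
  · refine le_normalizer_inf hC' ?_
    have h := S.core_normalizes_centralizer (zpowers_le.2 hb)
    rwa [centralizer_zpowers_eq] at h

theorem exists_fixed_ne_bot {X : Subgroup G} (hX : X ∈ Cfsg.signalizerFamily p A θ) (hX1 : X ≠ ⊥)
    {E : Subgroup G} (hE : IsPlane p A E) :
    ∃ e ∈ E, e ≠ 1 ∧ X ⊓ centralizer ({e} : Set G) ≠ ⊥ := by
  by_contra hno
  refine hX1 (le_bot_iff.1 (S.le_of_points hE (hE.1.trans (family_normalizer hX)) hX.2.1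
    fun e he he1 => le_of_eq (Classical.byContradiction fun h => hno ⟨e, he, he1, h⟩)))

/-- The primes of a member are primes of the values. -/
theorem mem_primes {X : Subgroup G} (hX : X ∈ Cfsg.signalizerFamily p A θ) {q : ℕ} (hq : q.Prime)
    (hd : q ∣ Nat.card X) : q ∈ primes A θ := by
  haveI := Fact.mk hq
  obtain ⟨R, hRA⟩ := CoprimeAct.exists_invariant_sylow (family_normalizer hX) (S.coprime hX le_rfl)
    (Or.inr hX.1) q
  set R' := (R : Subgroup X).map X.subtype with hR'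
  have hR'm : R' ∈ Cfsg.signalizerFamily p A θ := family_mono hX (map_subtype_le _) hRA
  have hR1 : R' ≠ ⊥ := fun h =>
    R.ne_bot_of_dvd_card hd ((Subgroup.map_eq_bot_iff_of_injective _ X.subtype_injective).1 h)
  obtain ⟨a, ha, -⟩ := S.exists_point
  obtain ⟨E, hE, -⟩ := S.exists_plane_mem ha
  obtain ⟨e, he, he1, hne⟩ := S.exists_fixed_ne_bot hR'm hR1 hE
  refine ⟨hq, e, hE.1 he, he1, ?_⟩
  obtain ⟨n, hn⟩ := (((R.isPGroup'.map X.subtype).to_le inf_le_left :
    IsPGroup q ↥(R' ⊓ centralizer ({e} : Set G)))).exists_card_eq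
  have hn0 : n ≠ 0 := fun h => hne (card_eq_one.1 (by rw [hn, h, pow_zero]))
  exact (hn ▸ dvd_pow_self q hn0 :).trans (card_dvd_of_le (hR'm.2.2.2 e (hE.1 he) he1))

end Setup

namespace Min

variable (M₀ : Min p A θ)
include M₀

/-- If some prime is omitted, the members normalised by the core have a greatest `σ`-member. -/
theorem exists_w {σ : Set ℕ} (hσ : ∃ t ∈ primes A θ, t ∉ σ) :
    wOf p A θ σ ∈ Cfsg.signalizerFamily p A θ ∧
      Cfsg.signalizerInf A θ ≤ normalizer (wOf p A θ σ : Set G) ∧ IsSigma σ (wOf p A θ σ) ∧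
      ∀ X ∈ Cfsg.signalizerFamily p A θ, Cfsg.signalizerInf A θ ≤ normalizer (X : Set G) →
        IsSigma σ X → X ≤ wOf p A θ σ := by
  set θ' := fun a => sigmaPart σ A θ (θ a) with hθ'
  have hfn := M₀.sigma_functor σ
  have hprops := fun a (ha : a ∈ A) (ha1 : a ≠ 1) =>
    M₀.sigmaPart_props σ (M₀.theta_mem ha ha1) (M₀.core_normalizes_theta ha ha1)
  obtain ⟨t, ⟨ht, a₀, ha₀, ha₀1, htd⟩, htσ⟩ := hσ
  obtain ⟨W', hW', hW'θ⟩ := M₀.complete_of_lt hfn (fun a ha ha1 => (hprops a ha ha1).1)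
    ⟨a₀, ha₀, ha₀1, fun h => htσ ((hprops a₀ ha₀ ha₀1).2.2.2 t ht (by rw [h]; exact htd))⟩
  set W := ⨆ a : {a : G // a ∈ A ∧ a ≠ 1}, θ' a.1 with hW
  have hWle : W ≤ W' := iSup_le fun a => hW'θ a.1 a.2.1 a.2.2
  have hWA : A ≤ normalizer (W : Set G) := le_normalizer_iSup fun a => (hprops a.1 a.2.1 a.2.2).2.1
  have hWC : Cfsg.signalizerInf A θ ≤ normalizer (W : Set G) :=
    le_normalizer_iSup fun a => (hprops a.1 a.2.1 a.2.2).2.2.1
  have hWm' : W ∈ Cfsg.signalizerFamily p A θ' := family_mono hW' hWle hWA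
  have hWm : W ∈ Cfsg.signalizerFamily p A θ :=
    ⟨hWm'.1, hWm'.2.1, hWm'.2.2.1, fun a ha ha1 =>
      (hWm'.2.2.2 a ha ha1).trans (hprops a ha ha1).1⟩
  have hWσ : IsSigma σ W := by
    intro q hq hd
    by_contra hqσ
    haveI := Fact.mk hq
    obtain ⟨R, hRA⟩ := CoprimeAct.exists_invariant_sylow hWA (M₀.coprime hWm le_rfl) (Or.inr hWm.1) q
    set R' := (R : Subgroup W).map W.subtype with hR'
    have hR'm : R' ∈ Cfsg.signalizerFamily p A θ := family_mono hWm (map_subtype_le _) hRA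
    obtain ⟨a, ha, -⟩ := M₀.exists_point
    obtain ⟨E, hE, -⟩ := M₀.exists_plane_mem ha
    have hR1 : R' ≠ ⊥ := fun h =>
      R.ne_bot_of_dvd_card hd ((Subgroup.map_eq_bot_iff_of_injective _ W.subtype_injective).1 h)
    obtain ⟨e, he, he1, hne⟩ := M₀.exists_fixed_ne_bot hR'm hR1 hE
    obtain ⟨n, hn⟩ := (((R.isPGroup'.map W.subtype).to_le inf_le_left :
      IsPGroup q ↥(R' ⊓ centralizer ({e} : Set G)))).exists_card_eq
    refine hqσ ((hprops e (hE.1 he) he1).2.2.2 q hq ((hn ▸ dvd_pow_self q (fun h => hne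
      (card_eq_one.1 (by rw [hn, h, pow_zero]))) :).trans (card_dvd_of_le ?_)))
    exact (inf_le_inf_right _ (map_subtype_le _)).trans (hWm'.2.2.2 e (hE.1 he) he1)
  have hgreat : ∀ X ∈ Cfsg.signalizerFamily p A θ, Cfsg.signalizerInf A θ ≤ normalizer (X : Set G) →
      IsSigma σ X → X ≤ W := by
    intro X hX hXC hXσ
    obtain ⟨a, ha, -⟩ := M₀.exists_point
    obtain ⟨E, hE, -⟩ := M₀.exists_plane_mem ha
    refine M₀.le_of_points hE (hE.1.trans (family_normalizer hX)) hX.2.1 fun e he he1 => ?_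
    refine le_trans ?_ (le_iSup (fun a : {a : G // a ∈ A ∧ a ≠ 1} => θ' a.1) ⟨e, hE.1 he, he1⟩)
    refine M₀.le_sigmaPart (hX.2.2.2 e (hE.1 he) he1) ?_ ?_ (hXσ.mono inf_le_left)
    · exact le_normalizer_inf (family_normalizer hX)
        (le_normalizer_of_le_centralizer (ea_le_centralizer_singleton M₀.ea (hE.1 he)))
    · refine le_normalizer_inf hXC ?_
      have h := M₀.core_normalizes_centralizer (zpowers_le.2 (hE.1 he))
      rwa [centralizer_zpowers_eq] at h
  have heq : wOf p A θ σ = W :=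
    le_antisymm (sSup_le fun X hX => hgreat X hX.1 hX.2.1 hX.2.2) (le_sSup ⟨hWm, hWC, hWσ⟩)
  rw [heq]
  exact ⟨hWm, hWC, hWσ, hgreat⟩

end Min

end Cfsg.Agent.Signalizer.SFT
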