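import Cfsg.Agent.Lib.Signalizer.SFT.Tools

/-!
Primes with a central kernel (sinks) in a minimal counterexample with at least three primes.
-/

set_option autoImplicit false
set_option linter.style.haveILetI false
set_option linter.unusedSectionVars false
set_option linter.unusedVariables false

open scoped Pointwise commutatorElement

universe u

namespace Cfsg.Agent.Signalizer.SFT

open Subgroup
open Cfsg (pCoreOf fittingOf)
open Cfsg.Agent.OddOrder

variable {G : Type u} [Group G]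

/-- The greatest member for the primes different from `w`. -/
def wc (p : ℕ) (A : Subgroup G) (θ : G → Subgroup G) (w : ℕ) : Subgroup G :=
  wOf p A θ {s | s ≠ w}

/-- The kernel for the prime `x`. -/
def sinkCore (p : ℕ) (A : Subgroup G) (θ : G → Subgroup G) (x : ℕ) : Subgroup G :=
  qOf p A θ x ⊓ ⨅ w : {w : ℕ // w ∈ primes A θ ∧ w ≠ x}, pCoreOf x (wc p A θ w.1)

/-- The centre of the greatest `x`-member met with the kernel. -/
def sinkY (p : ℕ) (A : Subgroup G) (θ : G → Subgroup G) (x : ℕ) : Subgroup G :=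
  sinkCore p A θ x ⊓ centralizer (qOf p A θ x : Set G)

/-- `x` is a sink. -/
def IsSink (p : ℕ) (A : Subgroup G) (θ : G → Subgroup G) (x : ℕ) : Prop :=
  x ∈ primes A θ ∧ sinkY p A θ x ≠ ⊥

/-- Some maximum above `θ a` has `x` in its Fitting subgroup. -/
def Good (p : ℕ) (A : Subgroup G) (θ : G → Subgroup G) (x : ℕ) (a : G) : Prop :=
  ∃ H, IsMax p A θ H ∧ θ a ≤ H ∧ x ∈ fitPrimes H

variable [Finite G]

/-- Mutual normalisation gives commuting. -/
theorem le_centralizer_of_mutual {V K P X : Subgroup G} (hVX : V ≤ X) (hVK : V ≤ K)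
    (hPK : P ≤ normalizer (K : Set G)) (hPX : P ≤ X) (hXP : X ≤ normalizer (P : Set G))
    (hco : (Nat.card K).Coprime (Nat.card P)) : V ≤ centralizer (P : Set G) :=
  (le_inf hVK hVX).trans (le_centralizer_of_coprime (inf_le_right.trans hXP)
    (Signalizer.le_normalizer_inf hPK (hPX.trans le_normalizer))
    (hco.coprime_dvd_left (card_dvd_of_le inf_le_left)))

theorem normalizer_le_normalizer_centreCore (t : ℕ) (X : Subgroup G) :
    normalizer (X : Set G) ≤ normalizer (FitOf.centreCore t X : Set G) :=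
  Signalizer.le_normalizer_inf (normalizer_le_normalizer_pCoreOf t X)
    ((normalizer_le_normalizer_pCoreOf t X).trans (FitOf.normalizer_le_normalizer_centralizer _))

theorem isPGroup_centreCore (t : ℕ) (X : Subgroup G) : IsPGroup t (FitOf.centreCore t X) :=
  (FitOf.isPGroup_pCoreOf t X).to_le inf_le_left

variable {p : ℕ} [hp : Fact p.Prime] {A : Subgroup G} {θ : G → Subgroup G}

namespace Setup

variable (S : Setup p A θ)
include S

theorem plane_gen {E : Subgroup G} (hE : IsPlane p A E) {g h : G} (hg : g ∈ E) (hg1 : g ≠ 1)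
    (hh : h ∈ E) (hhg : h ∉ zpowers g) : zpowers g ⊔ zpowers h = E := by
  have hn : zpowers h ≤ normalizer ((zpowers g : Subgroup G) : Set G) :=
    (zpowers_le.2 (hE.1 hh)).trans (S.inv_zpowers (hE.1 hg))
  have h1 : h ≠ 1 := fun e => hhg (e ▸ one_mem _)
  refine eq_of_le_of_card_ge (sup_le (zpowers_le.2 hg) (zpowers_le.2 hh)) ?_
  rw [SolvBasic.card_sup_of_inf_eq_bot hn, hE.2, S.card_zpowers (hE.1 hg) hg1,
    S.card_zpowers (hE.1 hh) h1, pow_two]
  rw [eq_bot_iff]
  intro z hz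
  rw [mem_bot]
  by_contra hz1
  refine hhg (zpowers_le.2 hz.1 ?_)
  have : zpowers z = zpowers h := by
    refine eq_of_le_of_card_ge (zpowers_le.2 hz.2) ?_
    rw [S.card_zpowers (hE.1 hh) h1, S.card_zpowers (hE.1 hg |> fun _ => zpowers_le.2 (hE.1 hg) hz.1) hz1]
  rw [this]
  exact mem_zpowers h

theorem exists_not_zpowers {E : Subgroup G} (hE : IsPlane p A E) {g : G} (hg : g ∈ A) (hg1 : g ≠ 1) :
    ∃ h ∈ E, h ∉ zpowers g := by
  refine SetLike.not_le_iff_exists.1 fun h => ?_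
  have h1 := card_le_of_le h
  rw [hE.2, S.card_zpowers hg hg1] at h1
  exact absurd h1 (not_le.2 (lt_self_pow₀ hp.out.one_lt (by norm_num)))

theorem zpowers_eq_of_mem {g e : G} (hg : g ∈ A) (hg1 : g ≠ 1) (he : e ∈ zpowers g) (he1 : e ≠ 1) :
    zpowers e = zpowers g := by
  refine eq_of_le_of_card_ge (zpowers_le.2 he) ?_
  rw [S.card_zpowers hg hg1, S.card_zpowers (zpowers_le.2 hg he) he1]

theorem centralizer_eq_of_mem {g e : G} (hg : g ∈ A) (hg1 : g ≠ 1) (he : e ∈ zpowers g)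
    (he1 : e ≠ 1) : centralizer ({e} : Set G) = centralizer ({g} : Set G) := by
  rw [← centralizer_zpowers_eq, S.zpowers_eq_of_mem hg hg1 he he1, centralizer_zpowers_eq]

theorem theta_eq_of_mem {g e : G} (hg : g ∈ A) (hg1 : g ≠ 1) (he : e ∈ zpowers g) (he1 : e ≠ 1) :
    θ e = θ g := by
  have heA := zpowers_le.2 hg he
  have h := S.centralizer_eq_of_mem hg hg1 he he1
  exact le_antisymm (S.le_theta (S.theta_mem heA he1) hg hg1 (h ▸ S.theta_le_centralizer heA he1))
    (S.le_theta (S.theta_mem hg hg1) heA he1 (h ▸ S.theta_le_centralizer hg hg1))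

/-- A commutator with a plane is controlled by two generating points. -/
theorem commutator_plane_le {E : Subgroup G} (hE : IsPlane p A E) {g h : G} (hg : g ∈ E)
    (hg1 : g ≠ 1) (hh : h ∈ E) (hhg : h ∉ zpowers g) {R D : Subgroup G}
    (hD : A ≤ normalizer (D : Set G)) (h1 : ⁅R, zpowers g⁆ ≤ D) (h2 : ⁅R, zpowers h⁆ ≤ D) :
    ⁅R, E⁆ ≤ D := by
  rw [commutator_le]
  intro r hr e he
  rw [← S.plane_gen hE hg hg1 hh hhg] at he
  obtain ⟨x, hx, y, hy, rfl⟩ := (SolvBasic.mem_sup_iff_of_le_normalizer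
    ((zpowers_le.2 (hE.1 hh)).trans (S.inv_zpowers (hE.1 hg)))).1 he
  have h3 : ⁅r, x * y⁆ = ⁅r, x⁆ * (x * ⁅r, y⁆ * x⁻¹) := by
    simp only [commutatorElement_def]; group
  rw [h3]
  refine D.mul_mem (h1 (commutator_mem_commutator hr hx)) ?_
  exact (mem_normalizer_iff.1 (hD (zpowers_le.2 (hE.1 hg) hx)) _).1
    (h2 (commutator_mem_commutator hr hy))

end Setup

/-- A minimal counterexample with at least two primes. -/
structure Min2 (p : ℕ) (A : Subgroup G) (θ : G → Subgroup G) : Prop extends Min p A θ where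
  two : ∀ t : ℕ, ∃ s ∈ primes A θ, s ≠ t

namespace Min2

variable (M₀ : Min2 p A θ)
include M₀

theorem prime_ne_p {x : ℕ} (hx : x ∈ primes A θ) : x ≠ p := by
  obtain ⟨-, a, ha, ha1, hd⟩ := hx
  exact fun h => M₀.fn.1.2.1 a ha ha1 (h ▸ hd)

theorem qOf_props (t : ℕ) : qOf p A θ t ∈ Cfsg.signalizerFamily p A θ ∧
    Cfsg.signalizerInf A θ ≤ normalizer (qOf p A θ t : Set G) ∧ IsSigma {t} (qOf p A θ t) ∧
      ∀ X ∈ Cfsg.signalizerFamily p A θ, Cfsg.signalizerInf A θ ≤ normalizer (X : Set G) →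
        IsSigma {t} X → X ≤ qOf p A θ t :=
  M₀.exists_w (by obtain ⟨s, hs, hne⟩ := M₀.two t; exact ⟨s, hs, hne⟩)

theorem qOf_isPGroup {t : ℕ} (ht : t.Prime) : IsPGroup t (qOf p A θ t) :=
  (isSigma_singleton_iff ht).1 (M₀.qOf_props t).2.2.1

theorem le_qOf {t : ℕ} (ht : t.Prime) {X : Subgroup G} (hX : X ∈ Cfsg.signalizerFamily p A θ)
    (hC : Cfsg.signalizerInf A θ ≤ normalizer (X : Set G)) (h : IsPGroup t X) : X ≤ qOf p A θ t :=
  (M₀.qOf_props t).2.2.2 X hX hC ((isSigma_singleton_iff ht).2 h)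

theorem pCoreOf_le_qOf {t : ℕ} (ht : t.Prime) {X : Subgroup G}
    (hX : X ∈ Cfsg.signalizerFamily p A θ) (hC : Cfsg.signalizerInf A θ ≤ normalizer (X : Set G)) :
    pCoreOf t X ≤ qOf p A θ t :=
  M₀.le_qOf ht (M₀.pCoreOf_mem hX t) (hC.trans (normalizer_le_normalizer_pCoreOf t X))
    (FitOf.isPGroup_pCoreOf t X)

theorem max_core_le_qOf {t : ℕ} (ht : t.Prime) {M : Subgroup G} (hM : IsMax p A θ M) :
    pCoreOf t M ≤ qOf p A θ t :=
  M₀.pCoreOf_le_qOf ht hM.mem (hM.core.trans le_normalizer)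

theorem exists_maxOf {a : G} (ha : a ∈ A) (ha1 : a ≠ 1) : ∃ H, IsMax p A θ H ∧ θ a ≤ H :=
  M₀.exists_max (M₀.theta_mem ha ha1) (M₀.core_normalizes_theta ha ha1)

theorem wc_props {w : ℕ} (hw : w ∈ primes A θ) : wc p A θ w ∈ Cfsg.signalizerFamily p A θ ∧
    Cfsg.signalizerInf A θ ≤ normalizer (wc p A θ w : Set G) ∧ IsSigma {s | s ≠ w} (wc p A θ w) ∧
      ∀ X ∈ Cfsg.signalizerFamily p A θ, Cfsg.signalizerInf A θ ≤ normalizer (X : Set G) →
        IsSigma {s | s ≠ w} X → X ≤ wc p A θ w :=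
  M₀.exists_w ⟨w, hw, fun h => h rfl⟩

theorem qOf_le_wc {x w : ℕ} (hx : x.Prime) (hw : w ∈ primes A θ) (hne : x ≠ w) :
    qOf p A θ x ≤ wc p A θ w :=
  (M₀.wc_props hw).2.2.2 _ (M₀.qOf_props x).1 (M₀.qOf_props x).2.1
    (IsSigma.of_isPGroup hx hne (M₀.qOf_isPGroup hx))

theorem wc_core_le_qOf {t w : ℕ} (ht : t.Prime) (hw : w ∈ primes A θ) :
    pCoreOf t (wc p A θ w) ≤ qOf p A θ t :=
  M₀.pCoreOf_le_qOf ht (M₀.wc_props hw).1 (M₀.wc_props hw).2.1

theorem isSigma_fittingOf (X : Subgroup G) : IsSigma (fitPrimes X) (fittingOf X) :=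
  fun t ht hd => ⟨ht, FitOf.pCoreOf_ne_bot_of_dvd ht hd⟩

theorem wOf_le_max {M : Subgroup G} (hM : IsMax p A θ M) {q r : ℕ} (hq : q ∈ fitPrimes M)
    (hr : r ∈ fitPrimes M) (hne : r ≠ q) (hσ : ∃ t ∈ primes A θ, t ∉ fitPrimes M) :
    wOf p A θ (fitPrimes M) ≤ M := by
  obtain ⟨hW, hWC, hWσ, hmax⟩ := M₀.exists_w hσ
  refine M₀.le_max_of_primes hM hq hr hne hW (hmax _ ?_ ?_ (M₀.isSigma_fittingOf M)) hWσ
  · exact family_mono hM.mem (FitOf.fittingOf_le M) ((family_normalizer hM.mem).trans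
      (normalizer_le_normalizer_map _ (FittingCores.fitting_characteristic (G := M))))
  · exact hM.core.trans (FitOf.le_normalizer_fittingOf M)

/-- A mixed maximum missing a prime contains `Q_t` for its Fitting primes. -/
theorem qOf_le_max {M : Subgroup G} (hM : IsMax p A θ M) {t r : ℕ} (ht : t ∈ fitPrimes M)
    (hr : r ∈ fitPrimes M) (hne : r ≠ t) (hσ : ∃ s ∈ primes A θ, s ∉ fitPrimes M) :
    qOf p A θ t ≤ M :=
  ((M₀.exists_w hσ).2.2.2 _ (M₀.qOf_props t).1 (M₀.qOf_props t).2.1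
    (IsSigma.of_isPGroup ht.1 ht (M₀.qOf_isPGroup ht.1))).trans (M₀.wOf_le_max hM ht hr hne hσ)

/-- If `a` centralises the Fitting subgroup of a maximum above `θ a`, then `Q_t ≤ θ a`. -/
theorem qOf_le_theta {M : Subgroup G} (hM : IsMax p A θ M) {a : G} (ha : a ∈ A) (ha1 : a ≠ 1)
    (haM : θ a ≤ M) (h : a ∈ centralizer (fittingOf M : Set G)) {t : ℕ} (ht : t ∈ fitPrimes M) :
    qOf p A θ t ≤ θ a := by
  haveI := Fact.mk ht.1
  have hMa := M₀.eq_theta hM ha ha1 haM h
  set Q := qOf p A θ t with hQ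
  have hQp := M₀.qOf_isPGroup ht.1
  set D := Q ⊓ θ a with hD
  by_contra hno
  have hDQ : D ≠ Q := fun e => hno (e ▸ inf_le_right)
  refine normalizer_inf_not_le hQp inf_le_left hDQ ?_
  set Y := normalizer (D : Set G) ⊓ Q with hY
  have hDA : A ≤ normalizer (D : Set G) :=
    le_normalizer_inf (family_normalizer (M₀.qOf_props t).1) (family_normalizer (M₀.theta_mem ha ha1))
  have hYm : Y ∈ Cfsg.signalizerFamily p A θ :=
    family_mono (M₀.qOf_props t).1 inf_le_right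
      (le_normalizer_inf (hDA.trans le_normalizer) (family_normalizer (M₀.qOf_props t).1))
  have haD : a ∈ centralizer (D : Set G) := mem_centralizer_iff.2 fun x hx =>
    mem_centralizer_singleton_iff.1 (M₀.theta_le_centralizer ha ha1 hx.2)
  have hTD : pCoreOf t M ≤ D :=
    le_inf (M₀.max_core_le_qOf ht.1 hM) (hMa ▸ FitOf.pCoreOf_le t M)
  have hR : ⁅Y, zpowers a⁆ ≤ M := M₀.le_of_centralizes_core hM ht (M₀.commutator_mem hYm ha)
    ((commutator_le_centralizer_three haD inf_le_left).trans (centralizer_le hTD))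
  have hR1 : ⁅Y, zpowers a⁆ = ⊥ := by
    rw [← M₀.commutator_idem hYm ha, commutator_eq_bot_iff_le_centralizer, centralizer_zpowers_eq]
    exact (hMa ▸ hR).trans (M₀.theta_le_centralizer ha ha1)
  refine le_inf inf_le_right (M₀.le_theta hYm ha ha1 ?_)
  rw [← centralizer_zpowers_eq, ← commutator_eq_bot_iff_le_centralizer]
  exact hR1

theorem mem_pCoreOf_of_centralizes {X V : Subgroup G} (hX : X ∈ Cfsg.signalizerFamily p A θ)
    (hV : V ≤ X) {x : ℕ} (hx : x.Prime) (hVp : IsPGroup x V)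
    (h : ∀ s : ℕ, s.Prime → V ≤ centralizer (pCoreOf s X : Set G)) : V ≤ pCoreOf x X := by
  haveI := Fact.mk hx
  haveI := hX.1
  refine pgroup_le_pCoreOf hVp ((le_inf hV ?_).trans (FitOf.inf_centralizer_fittingOf_le X))
  rw [Subgroup.le_centralizer_iff, FitOf.fittingOf_le_iff]
  exact fun s hs => Subgroup.le_centralizer_iff.1 (h s hs)

theorem sinkCore_le_wc {x w : ℕ} (hw : w ∈ primes A θ) (hne : w ≠ x) :
    sinkCore p A θ x ≤ pCoreOf x (wc p A θ w) :=
  inf_le_right.trans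
    (iInf_le (fun w : {w : ℕ // w ∈ primes A θ ∧ w ≠ x} => pCoreOf x (wc p A θ w.1)) ⟨w, hw, hne⟩)

theorem sinkY_props (x : ℕ) : sinkY p A θ x ∈ Cfsg.signalizerFamily p A θ ∧
    Cfsg.signalizerInf A θ ≤ normalizer (sinkY p A θ x : Set G) ∧
      IsMulCommutative (sinkY p A θ x) := by
  have hQ := M₀.qOf_props x
  have hI : A ≤ normalizer (sinkCore p A θ x : Set G) :=
    le_normalizer_inf (family_normalizer hQ.1) (le_normalizer_iInf fun w =>
      (family_normalizer (M₀.wc_props w.2.1).1).trans (normalizer_le_normalizer_pCoreOf x _))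
  have hIC : Cfsg.signalizerInf A θ ≤ normalizer (sinkCore p A θ x : Set G) :=
    le_normalizer_inf hQ.2.1 (le_normalizer_iInf fun w =>
      (M₀.wc_props w.2.1).2.1.trans (normalizer_le_normalizer_pCoreOf x _))
  refine ⟨family_mono hQ.1 (inf_le_left.trans inf_le_left)
    (le_normalizer_inf hI (le_normalizer_centralizer (family_normalizer hQ.1))),
    le_normalizer_inf hIC (le_normalizer_centralizer hQ.2.1), ?_⟩
  exact .of_setLike_mul_comm fun a ha b hb => mem_centralizer_iff.1 hb.2 a ha.1.1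

theorem sinkY_le_qOf (x : ℕ) : sinkY p A θ x ≤ qOf p A θ x := inf_le_left.trans inf_le_left

theorem sinkY_isPGroup {x : ℕ} (hx : x.Prime) : IsPGroup x (sinkY p A θ x) :=
  (M₀.qOf_isPGroup hx).to_le (M₀.sinkY_le_qOf x)

/-- Two complements suffice for a sink. -/
theorem le_sinkY {x u w : ℕ} (hx : x.Prime) (hu : u ∈ primes A θ) (hw : w ∈ primes A θ)
    (hux : u ≠ x) (hwx : w ≠ x) (huw : u ≠ w) {V : Subgroup G}
    (hVc : V ≤ centralizer (qOf p A θ x : Set G)) (hVQ : V ≤ qOf p A θ x)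
    (hVu : V ≤ pCoreOf x (wc p A θ u)) (hVw : V ≤ pCoreOf x (wc p A θ w)) : V ≤ sinkY p A θ x := by
  haveI := Fact.mk hx
  refine le_inf (le_inf hVQ (le_iInf fun ⟨z, hz, hzx⟩ => ?_)) hVc
  have hVX : V ≤ wc p A θ z := hVQ.trans (M₀.qOf_le_wc hx hz (Ne.symm hzx))
  refine M₀.mem_pCoreOf_of_centralizes (M₀.wc_props hz).1 hVX hx ((M₀.qOf_isPGroup hx).to_le hVQ)
    fun s hs => ?_
  by_cases hsx : s = x
  · subst hsx
    exact hVc.trans (centralizer_le (M₀.wc_core_le_qOf hs hz))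
  · obtain ⟨v, hv, hvs, hVv⟩ : ∃ v ∈ primes A θ, v ≠ s ∧ V ≤ pCoreOf x (wc p A θ v) := by
      by_cases hus : u = s
      · exact ⟨w, hw, fun h => huw (hus.trans h.symm), hVw⟩
      · exact ⟨u, hu, hus, hVu⟩
    exact le_centralizer_of_mutual hVX hVv
      (((M₀.wc_core_le_qOf hs hz).trans (M₀.qOf_le_wc hs hv (Ne.symm hvs))).trans
        (FitOf.le_normalizer_pCoreOf x _))
      (FitOf.pCoreOf_le s _) (FitOf.le_normalizer_pCoreOf s _)
      (coprime_of_ne hx hs (Ne.symm hsx) (FitOf.isPGroup_pCoreOf x _) (FitOf.isPGroup_pCoreOf s _))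

end Min2

/-- A minimal counterexample with at least three primes. -/
structure Min3 (p : ℕ) (A : Subgroup G) (θ : G → Subgroup G) : Prop extends Min2 p A θ where
  three : ∀ s t : ℕ, ∃ u ∈ primes A θ, u ≠ s ∧ u ≠ t

namespace Min3

variable (M₀ : Min3 p A θ)
include M₀

/-- A part of the kernel centralises the Fitting subgroup of every member containing it and the
core. -/
theorem sinkY_centralizes {x : ℕ} (hx : x.Prime) {X V : Subgroup G}
    (hX : X ∈ Cfsg.signalizerFamily p A θ) (hC : Cfsg.signalizerInf A θ ≤ normalizer (X : Set G))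
    (hV : V ≤ sinkY p A θ x) (hVX : V ≤ X) : V ≤ centralizer (fittingOf X : Set G) := by
  rw [Subgroup.le_centralizer_iff, FitOf.fittingOf_le_iff]
  intro s hs
  rw [Subgroup.le_centralizer_iff]
  by_cases hsx : s = x
  · subst hsx
    exact (hV.trans inf_le_right).trans (centralizer_le (M₀.pCoreOf_le_qOf hs hX hC))
  · obtain ⟨v, hv, hvs, hvx⟩ := M₀.three s x
    haveI := Fact.mk hx
    exact le_centralizer_of_mutual hVX (hV.trans (inf_le_left.trans (M₀.sinkCore_le_wc hv hvx)))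
      (((M₀.pCoreOf_le_qOf hs hX hC).trans (M₀.qOf_le_wc hs hv (Ne.symm hvs))).trans
        (FitOf.le_normalizer_pCoreOf x _))
      (FitOf.pCoreOf_le s X) (FitOf.le_normalizer_pCoreOf s X)
      (coprime_of_ne hx hs (Ne.symm hsx) (FitOf.isPGroup_pCoreOf x _) (FitOf.isPGroup_pCoreOf s _))

theorem sinkY_le_core {x : ℕ} (hx : x.Prime) {X V : Subgroup G}
    (hX : X ∈ Cfsg.signalizerFamily p A θ) (hC : Cfsg.signalizerInf A θ ≤ normalizer (X : Set G))
    (hV : V ≤ sinkY p A θ x) (hVX : V ≤ X) : V ≤ FitOf.centreCore x X := by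
  haveI := hX.1
  haveI := Fact.mk hx
  have h := M₀.sinkY_centralizes hx hX hC hV hVX
  exact le_inf (pgroup_le_pCoreOf ((M₀.sinkY_isPGroup hx).to_le hV)
    ((le_inf hVX h).trans (FitOf.inf_centralizer_fittingOf_le X)))
    (h.trans (centralizer_le (FitOf.pCoreOf_le_fittingOf hx X)))

/-- A part of the kernel inside a maximum forces the prime into its Fitting subgroup. -/
theorem mem_fitPrimes_of_le {x : ℕ} (hx : x.Prime) {H V : Subgroup G} (hH : IsMax p A θ H)
    (hV : V ≤ sinkY p A θ x) (hV1 : V ≠ ⊥) (hVH : V ≤ H) : x ∈ fitPrimes H :=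
  ⟨hx, fun h => hV1 (le_bot_iff.1 ((M₀.sinkY_le_core hx hH.mem (hH.core.trans le_normalizer) hV
    hVH).trans (inf_le_left.trans h.le)))⟩

theorem sinkY_le_max {x : ℕ} {H : Subgroup G} (hH : IsMax p A θ H) (hx : x ∈ fitPrimes H) :
    sinkY p A θ x ≤ H :=
  M₀.le_of_centralizes_core hH hx (M₀.sinkY_props x).1
    (inf_le_right.trans (centralizer_le (M₀.max_core_le_qOf hx.1 hH)))

theorem sinkY_le_centreCore {x : ℕ} {H : Subgroup G} (hH : IsMax p A θ H) (hx : x ∈ fitPrimes H) :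
    sinkY p A θ x ≤ FitOf.centreCore x H :=
  M₀.sinkY_le_core hx.1 hH.mem (hH.core.trans le_normalizer) le_rfl (M₀.sinkY_le_max hH hx)

theorem fittingOf_le_normalizer {x : ℕ} {H : Subgroup G} (hH : IsMax p A θ H) (hx : x ∈ fitPrimes H) :
    fittingOf H ≤ normalizer (sinkY p A θ x : Set G) :=
  (Subgroup.le_centralizer_iff.1 (M₀.sinkY_centralizes hx.1 hH.mem (hH.core.trans le_normalizer)
    le_rfl (M₀.sinkY_le_max hH hx))).trans (centralizer_le_normalizer _)

theorem good_of_fixed {x : ℕ} (hx : x.Prime) {a : G} (ha : a ∈ A) (ha1 : a ≠ 1)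
    (h : sinkY p A θ x ⊓ centralizer ({a} : Set G) ≠ ⊥) : Good p A θ x a := by
  obtain ⟨H, hH, haH⟩ := M₀.exists_maxOf ha ha1
  exact ⟨H, hH, haH, M₀.mem_fitPrimes_of_le hx hH inf_le_left h
    (((M₀.sinkY_props x).1.2.2.2 a ha ha1).trans haH)⟩

theorem le_commutator_of_bad {x : ℕ} (hx : x.Prime) {b : G} (hb : b ∈ A) (hb1 : b ≠ 1)
    (hbad : ¬ Good p A θ x b) : sinkY p A θ x ≤ ⁅sinkY p A θ x, zpowers b⁆ := by
  have h : sinkY p A θ x ⊓ centralizer ({b} : Set G) = ⊥ :=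
    Classical.byContradiction fun h => hbad (M₀.good_of_fixed hx hb hb1 h)
  have h1 := M₀.commutator_sup (M₀.sinkY_props x).1 hb
  rw [h, sup_bot_eq] at h1
  exact h1.ge

end Min3

end Cfsg.Agent.Signalizer.SFT
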