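import Cfsg.Agent.Lib.Signalizer.SFT.Layers

/-!
If a group is generated by the fixed points of `a` and of `P`, then `[P, a]` acts trivially on it.
-/

set_option autoImplicit false
set_option linter.style.haveILetI false
set_option linter.unusedSectionVars false
set_option linter.unusedVariables false

open scoped Pointwise commutatorElement

universe u

namespace Cfsg.Agent.Signalizer.SFT

open Subgroup

variable {G : Type u} [Group G] [Finite G]

theorem stable_aux {t s : ℕ} [Fact t.Prime] [Fact s.Prime] (hst : s ≠ t) {P X W : Subgroup G}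
    [W.Normal] (hP : IsPGroup t P) (hXP : X ≤ normalizer (P : Set G)) (hW : IsPGroup s W)
    (hgen : W ≤ (W ⊓ centralizer (X : Set G)) ⊔ (W ⊓ centralizer (P : Set G))) :
    ⁅P, X⁆ ≤ centralizer (W : Set G) := by
  set Φ := (frattini W).map W.subtype with hΦ
  haveI : Φ.Normal := FittingCores.normal_map_of_characteristic inferInstance inferInstance
  set f := QuotientGroup.mk' Φ with hf
  set V := W.map f with hVdef
  have hV : Cfsg.IsElementaryAbelian s V := isElementaryAbelian_map_frattini hW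
  haveI := hV.1
  haveI hVn : V.Normal := Subgroup.Normal.map inferInstance f (QuotientGroup.mk'_surjective _)
  have hnV : ∀ S : Subgroup (G ⧸ Φ), S ≤ normalizer (V : Set (G ⧸ Φ)) := fun _ =>
    le_normalizer_of_normal
  set a := (W ⊓ centralizer (X : Set G)).map f with ha
  set b := (W ⊓ centralizer (P : Set G)).map f with hb
  have haV : a ≤ V := map_mono inf_le_left
  have hbV : b ≤ V := map_mono inf_le_left
  have hVab : V ≤ a ⊔ b := (map_mono hgen).trans (Subgroup.map_sup _ _ f).le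
  have hXb : X.map f ≤ normalizer (b : Set (G ⧸ Φ)) :=
    (map_mono (Signalizer.le_normalizer_inf le_normalizer_of_normal
      (hXP.trans (Cfsg.Agent.OddOrder.FitOf.normalizer_le_normalizer_centralizer P)))).trans
      (le_normalizer_map f)
  have haX : ∀ u ∈ a, ∀ c ∈ X, f c * u = u * f c := by
    rintro _ ⟨w, hw, rfl⟩ c hc
    rw [← map_mul, ← map_mul, mem_centralizer_iff.1 hw.2 c hc]
  have hbP : ∀ v ∈ b, ∀ y ∈ P, f y * v = v * f y := by
    rintro _ ⟨w, hw, rfl⟩ y hy
    rw [← map_mul, ← map_mul, mem_centralizer_iff.1 hw.2 y hy]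
  have hab : a ≤ normalizer (b : Set (G ⧸ Φ)) := fun u hu => by
    rw [mem_normalizer_iff]
    intro v
    constructor
    · intro hv
      rw [setLike_mul_comm (s := V) (haV hu) (hbV hv), mul_inv_cancel_right]
      exact hv
    · intro hv
      have h1 : v = u⁻¹ * (u * v * u⁻¹) * u := by group
      rw [h1, setLike_mul_comm (s := V) (V.inv_mem (haV hu)) (hbV hv), inv_mul_cancel_right]
      exact hv
  have key : ∀ y ∈ P, ∀ c ∈ X, ∀ u ∈ V, f ⁅y, c⁆ * u = u * f ⁅y, c⁆ := by
    intro y hy c hc u hu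
    set r := f ⁅y, c⁆ with hr
    have hrP : ⁅y, c⁆ ∈ P := CoprimeAct.commutator_le_left hXP (commutator_mem_commutator hy hc)
    have hrb : ∀ v ∈ b, r * v = v * r := fun v hv => hbP v hv _ hrP
    suffices hsuf : ∀ u ∈ a, r * u = u * r by
      obtain ⟨u₁, hu₁, u₂, hu₂, rfl⟩ := (SolvBasic.mem_sup_iff_of_le_normalizer hab).1
        ((sup_comm a b).le (hVab hu))
      rw [← mul_assoc, hrb u₁ hu₁, mul_assoc, hsuf u₂ hu₂, mul_assoc]
    intro u hu
    have hu' : (f y)⁻¹ * u * f y ∈ V := by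
      have := hVn.conj_mem u (haV hu) (f y)⁻¹
      rwa [inv_inv] at this
    obtain ⟨v, hv, w, hw, hvw⟩ := (SolvBasic.mem_sup_iff_of_le_normalizer hab).1
      ((sup_comm a b).le (hVab hu'))
    -- `r u r⁻¹ = u β` with `β ∈ b`
    have hcv : f c * v * (f c)⁻¹ ∈ b := (mem_normalizer_iff.1 (hXb ⟨c, hc, rfl⟩) v).1 hv
    set β := f c * v * (f c)⁻¹ * v⁻¹ with hβ
    have hβb : β ∈ b := b.mul_mem hcv (b.inv_mem hv)
    have h1 : r * u * r⁻¹ = β * u := by
      have hr' : r = f y * f c * (f y)⁻¹ * (f c)⁻¹ := by rw [hr, map_commutatorElement]; rfl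
      have hcu : (f c)⁻¹ * u * f c = u := by
        rw [mul_assoc, ← haX u hu c hc, inv_mul_cancel_left]
      calc r * u * r⁻¹ = f y * (f c * ((f y)⁻¹ * ((f c)⁻¹ * u * f c) * f y) * (f c)⁻¹) * (f y)⁻¹ := by
            rw [hr']; group
        _ = f y * (f c * (v * w) * (f c)⁻¹) * (f y)⁻¹ := by rw [hcu, hvw]
        _ = f y * ((f c * v * (f c)⁻¹) * (f c * w * (f c)⁻¹)) * (f y)⁻¹ := by group
        _ = f y * (β * (v * w)) * (f y)⁻¹ := by
            rw [haX w hw c hc, mul_inv_cancel_right, hβ]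
            group
        _ = β * (f y * (v * w) * (f y)⁻¹) := by
            rw [← mul_assoc, hbP β hβb y hy]; group
        _ = β * u := by rw [← hvw]; group
    have hpow : ∀ n : ℕ, r ^ n * u * (r ^ n)⁻¹ = β ^ n * u := by
      intro n
      induction n with
      | zero => simp
      | succ n ih =>
        calc r ^ (n + 1) * u * (r ^ (n + 1))⁻¹ = r * (r ^ n * u * (r ^ n)⁻¹) * r⁻¹ := by
              rw [pow_succ']; group
          _ = r * (β ^ n * u) * r⁻¹ := by rw [ih]
          _ = β ^ n * (r * u * r⁻¹) := by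
              rw [← mul_assoc, hrb _ (b.pow_mem hβb n)]; group
          _ = β ^ (n + 1) * u := by rw [h1, pow_succ, ← mul_assoc]
    obtain ⟨k, hk⟩ := (hP.map f) ⟨r, mem_map_of_mem f hrP⟩
    have hβ1 : β ^ t ^ k = 1 := by
      have h2 := hpow (t ^ k)
      have hr1 : r ^ t ^ k = 1 := congrArg Subtype.val hk
      rw [hr1, inv_one, mul_one, one_mul] at h2
      exact mul_eq_right.1 h2.symm
    have hβs : β ^ s = 1 := hV.2 β (hbV hβb)
    have hβ0 : β = 1 := by
      have h3 : β ^ Nat.gcd s (t ^ k) = 1 := pow_gcd_eq_one.2 ⟨hβs, hβ1⟩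
      rwa [((Nat.coprime_primes Fact.out Fact.out).2 hst).pow_right k, pow_one] at h3
    rw [hβ0, one_mul] at h1
    exact mul_inv_eq_iff_eq_mul.1 h1
  refine CoprimeAct.le_centralizer_of_frattini le_normalizer_of_normal
    ((coprime_of_isPGroup hst.symm (hP.to_le (CoprimeAct.commutator_le_left hXP)) hW).coprime_dvd_right
      (card_subgroup_dvd_card _)) fun w hw k hk => ?_
  have hgenc : ⁅P, X⁆ ≤ (centralizer (V : Set (G ⧸ Φ))).comap f :=
    commutator_le.2 fun y hy c hc =>
      mem_centralizer_iff.2 fun u hu => (key y hy c hc u hu).symm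
  have hwC : f w ∈ centralizer (V : Set (G ⧸ Φ)) := hgenc hw
  change w * k * w⁻¹ * k⁻¹ ∈ Φ
  rw [← QuotientGroup.eq_one_iff]
  change f _ = 1
  rw [map_mul, map_mul, map_mul, map_inv, map_inv, mul_inv_eq_one, mul_inv_eq_iff_eq_mul]
  exact (mem_centralizer_iff.1 hwC _ (mem_map_of_mem f hk)).symm

/-- If `R` is generated modulo `T` by the fixed points of `a` and by elements centralising `P` modulo
`T`, then `[P, a]` centralises `R` modulo `T`. -/
theorem stable_mod {t s : ℕ} [Fact t.Prime] [Fact s.Prime] (hst : s ≠ t) {P R T : Subgroup G} {a : G}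
    (hP : IsPGroup t P) (haP : a ∈ normalizer (P : Set G)) (hR : ∀ r ∈ R, ∃ k : ℕ, r ^ s ^ k ∈ T)
    (haT : a ∈ normalizer (T : Set G)) (hPT : P ≤ normalizer (T : Set G))
    (hRT : R ≤ normalizer (T : Set G)) (haR : a ∈ normalizer (R : Set G))
    (hPR : P ≤ normalizer (R : Set G))
    (hgen : R ≤ (R ⊓ centralizer ({a} : Set G)) ⊔ (R ⊓ modCentralizer T P)) :
    ⁅R, ⁅P, zpowers a⁆⁆ ≤ T := by
  set N := normalizer (T : Set G) ⊓ normalizer (R : Set G) with hN
  have hTn : (T.subgroupOf N).Normal := ⟨fun y hy z => (mem_normalizer_iff.1 z.2.1 (y : G)).1 hy⟩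
  set f := QuotientGroup.mk' (T.subgroupOf N) with hf
  have hRn : (R.subgroupOf N).Normal := ⟨fun y hy z => (mem_normalizer_iff.1 z.2.2 (y : G)).1 hy⟩
  set a' : N := ⟨a, haT, haR⟩
  have hPN : P ≤ N := le_inf hPT hPR
  have hRN : R ≤ N := le_inf hRT le_normalizer
  set P' := (P.subgroupOf N).map f with hP'
  set R' := (R.subgroupOf N).map f with hR'
  haveI : R'.Normal := hRn.map f (QuotientGroup.mk'_surjective _)
  have hR's : IsPGroup s R' := by
    rintro ⟨_, r, hr, rfl⟩
    obtain ⟨k, hk⟩ := hR r hr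
    refine ⟨k, Subtype.ext ?_⟩
    show f r ^ s ^ k = 1
    rw [← map_pow]
    exact (QuotientGroup.eq_one_iff _).2 (show ((r ^ s ^ k : N) : G) ∈ T by simpa using hk)
  have haP' : zpowers (f a') ≤ normalizer (P' : Set (N ⧸ T.subgroupOf N)) :=
    zpowers_le.2 (Subgroup.le_normalizer_map f
      ⟨a', mem_normalizer_iff.2 fun w => mem_normalizer_iff.1 haP (w : G), rfl⟩)
  have key : ⁅P', zpowers (f a')⁆ ≤ centralizer (R' : Set _) := by
    refine stable_aux hst ((hP.of_equiv (subgroupOfEquivOfLe hPN).symm).map f) haP' hR's ?_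
    set Z₁ := R' ⊓ centralizer ((zpowers (f a') : Subgroup _) : Set _) with hZ₁
    set Z₂ := R' ⊓ centralizer (P' : Set _) with hZ₂
    have hle : R.subgroupOf N ≤ (Z₁ ⊔ Z₂).comap f := by
      intro r hr
      have hr' : (r : G) ∈ ((Z₁ ⊔ Z₂).comap f).map N.subtype := by
        refine (hgen.trans (sup_le (fun y hy => ?_) fun y hy => ?_)) hr
        · refine ⟨⟨y, hRN hy.1⟩, mem_sup_left ⟨mem_map_of_mem f hy.1, ?_⟩, rfl⟩
          refine mem_centralizer_iff.2 fun z hz => ?_
          obtain ⟨i, rfl⟩ := mem_zpowers_iff.1 hz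
          have hc : Commute (⟨y, hRN hy.1⟩ : N) a' :=
            Subtype.ext (mem_centralizer_singleton_iff.1 hy.2)
          exact ((hc.map f).zpow_right i).eq.symm
        · refine ⟨⟨y, hRN hy.1⟩, mem_sup_right ⟨mem_map_of_mem f hy.1, ?_⟩, rfl⟩
          refine mem_centralizer_iff.2 ?_
          rintro _ ⟨v, hv, rfl⟩
          have h1 : f ⁅(⟨y, hRN hy.1⟩ : N), v⁆ = 1 :=
            (QuotientGroup.eq_one_iff _).2 (hy.2.2 _ hv)
          rw [map_commutatorElement] at h1
          exact (commutatorElement_eq_one_iff_mul_comm.1 h1).symm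
      obtain ⟨z, hz, hze⟩ := hr'
      exact (Subtype.ext hze : z = r) ▸ hz
    rintro _ ⟨r, hr, rfl⟩
    exact hle hr
  refine commutator_le.2 fun r hr v hv => ?_
  have hPa : ⁅P, zpowers a⁆ ≤ (⁅P.subgroupOf N, zpowers a'⁆).map N.subtype := by
    rw [map_commutator, subgroupOf_map_subtype, inf_eq_left.2 hPN, MonoidHom.map_zpowers]
    rfl
  obtain ⟨v', hv', rfl⟩ := hPa hv
  have hv'' : f v' ∈ ⁅P', zpowers (f a')⁆ := by
    rw [hP', ← MonoidHom.map_zpowers, ← map_commutator]
    exact mem_map_of_mem f hv'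
  have h1 := mem_centralizer_iff.1 (key hv'') (f ⟨r, hRN hr⟩) (mem_map_of_mem f hr)
  have h2 : f ⁅(⟨r, hRN hr⟩ : N), v'⁆ = 1 := by
    rw [map_commutatorElement]
    exact commutatorElement_eq_one_iff_mul_comm.2 h1
  exact (QuotientGroup.eq_one_iff (N := T.subgroupOf N) _).1 h2

end Cfsg.Agent.Signalizer.SFT
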