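import Cfsg.Agent.Lib.Signalizer.SFT.Sigma
import Cfsg.Agent.Lib.Signalizer.SFT.CoreLift
import Cfsg.Agent.Lib.Signalizer.SFT.HH
import Cfsg.Agent.Lib.OddOrder.FittingOf

/-!
Maximal members containing the core, their Fitting cores, and the tools for comparing them.
-/

set_option autoImplicit false
set_option linter.style.haveILetI false
set_option linter.unusedSectionVars false
set_option linter.unusedVariables false

open scoped Pointwise commutatorElement

universe u

namespace Cfsg.Agent.Signalizer.SFT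

open Subgroup
open Cfsg (pCoreOf fittingOf)
open Cfsg.Agent.OddOrder

variable {G : Type u} [Group G]

/-- `O_{t'}(X)` inside the ambient group. -/
def oP (t : ℕ) (X : Subgroup G) : Subgroup G := (Cfsg.pPrimeCore t X).map X.subtype

/-- A maximal member containing the core. -/
structure IsMax (p : ℕ) (A : Subgroup G) (θ : G → Subgroup G) (M : Subgroup G) : Prop where
  mem : M ∈ Cfsg.signalizerFamily p A θ
  core : Cfsg.signalizerInf A θ ≤ M
  max : ∀ X ∈ Cfsg.signalizerFamily p A θ, M ≤ X → X = M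

/-- The primes of the Fitting subgroup. -/
def fitPrimes (M : Subgroup G) : Set ℕ := {t | t.Prime ∧ pCoreOf t M ≠ ⊥}

/-- The greatest `t`-member normalised by the core. -/
def qOf (p : ℕ) (A : Subgroup G) (θ : G → Subgroup G) (t : ℕ) : Subgroup G := wOf p A θ {t}

theorem normalizer_le_normalizer_map {X : Subgroup G} (K : Subgroup X) (hK : K.Characteristic) :
    normalizer (X : Set G) ≤ normalizer ((K.map X.subtype : Subgroup G) : Set G) := by
  intro m hm
  rw [mem_normalizer_iff_map_conj_eq]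
  let e : MulAut X := X.normalizerMonoidHom ⟨m, hm⟩
  have he := characteristic_iff_map_eq.1 hK e
  conv_rhs => rw [← he]
  rw [map_map, map_map]
  rfl

theorem normalizer_le_normalizer_pCoreOf (t : ℕ) (X : Subgroup G) :
    normalizer (X : Set G) ≤ normalizer (pCoreOf t X : Set G) :=
  normalizer_le_normalizer_map _ (FittingCores.pCore_characteristic t)

variable [Finite G]

theorem normalizer_le_normalizer_oP (t : ℕ) (X : Subgroup G) :
    normalizer (X : Set G) ≤ normalizer (oP t X : Set G) :=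
  normalizer_le_normalizer_map _ (FittingCores.pPrimeCore_characteristic t)

theorem oP_le (t : ℕ) (X : Subgroup G) : oP t X ≤ X := map_subtype_le _

theorem le_normalizer_oP (t : ℕ) (X : Subgroup G) : X ≤ normalizer (oP t X : Set G) :=
  le_normalizer.trans (normalizer_le_normalizer_oP t X)

theorem oP_coprime (t : ℕ) (X : Subgroup G) : (Nat.card (oP t X)).Coprime t := by
  rw [oP, card_map_of_injective X.subtype_injective]
  exact FittingCores.pPrimeCore_coprime t

theorem le_oP_of_normal {t : ℕ} {X N : Subgroup G} (hle : N ≤ X) (hn : X ≤ normalizer (N : Set G))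
    (hN : (Nat.card N).Coprime t) : N ≤ oP t X := by
  intro x hx
  exact ⟨⟨x, hle hx⟩, FittingCores.le_pPrimeCore
    ((normal_subgroupOf_iff_le_normalizer hle).2 hn)
    (by rwa [Nat.card_congr (subgroupOfEquivOfLe hle).toEquiv]) hx, rfl⟩

theorem coprime_of_pgroup {t : ℕ} [Fact t.Prime] {U K : Subgroup G} (hU : IsPGroup t U)
    (hK : (Nat.card K).Coprime t) : (Nat.card U).Coprime (Nat.card K) := by
  obtain ⟨n, hn⟩ := hU.exists_card_eq
  rw [hn]
  exact hK.symm.pow_left n

/-- The lifting lemma in the ambient group. -/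
theorem le_oP {t : ℕ} [Fact t.Prime] {X U Y : Subgroup G} (hX : Group.IsSolvable X) (hUX : U ≤ X)
    (hU : IsPGroup t U) (hYX : Y ≤ X) (hYU : Y ≤ centralizer (U : Set G))
    (hn : X ⊓ centralizer (U : Set G) ≤ normalizer (Y : Set G)) (hY : (Nat.card Y).Coprime t) :
    Y ≤ oP t X := by
  haveI := hX
  intro y hy
  refine ⟨⟨y, hYX hy⟩, le_pPrimeCore_of_normalized_centralizer (U := U.subgroupOf X)
    (Y := Y.subgroupOf X) (hU.of_equiv (subgroupOfEquivOfLe hUX).symm) ?_ ?_
    (by rwa [Nat.card_congr (subgroupOfEquivOfLe hYX).toEquiv]) hy, rfl⟩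
  · exact fun z hz => mem_centralizer_iff.2 fun w hw =>
      Subtype.ext (mem_centralizer_iff.1 (hYU hz) w hw)
  · intro z hz
    refine mem_normalizer_iff.2 fun w => ?_
    exact mem_normalizer_iff.1 (hn ⟨z.2, mem_centralizer_iff.2 fun v hv =>
      (congrArg Subtype.val (mem_centralizer_iff.1 hz ⟨v, hUX hv⟩ hv) :)⟩) (w : G)

theorem le_centralizer_of_coprime {H K : Subgroup G} (hHK : H ≤ normalizer (K : Set G))
    (hKH : K ≤ normalizer (H : Set G)) (hco : (Nat.card H).Coprime (Nat.card K)) :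
    H ≤ centralizer (K : Set G) := fun h hh =>
  mem_centralizer_iff.2 fun k hk => (AxB.commute_of_coprime hHK hKH hco hh hk).symm

theorem coprime_of_ne {t s : ℕ} (ht : t.Prime) (hs : s.Prime) (hne : t ≠ s) {H K : Subgroup G}
    (hH : IsPGroup t H) (hK : IsPGroup s K) : (Nat.card H).Coprime (Nat.card K) :=
  haveI := Fact.mk ht
  haveI := Fact.mk hs
  IsPGroup.coprime_card_of_ne t s hne _ _ hH hK

/-- Thompson's lemma for subgroups. -/
theorem centralizes_of_fixed {t : ℕ} [Fact t.Prime] {P U X : Subgroup G} (hP : IsPGroup t P)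
    (hU : IsPGroup t U) (hUP : U ≤ normalizer (P : Set G)) (hXP : X ≤ normalizer (P : Set G))
    (hXU : X ≤ centralizer (U : Set G)) (hX : (Nat.card X).Coprime t)
    (hfix : X ≤ centralizer ((P ⊓ centralizer (U : Set G) : Subgroup G) : Set G)) :
    X ≤ centralizer (P : Set G) := fun x hx => mem_centralizer_iff.2 fun y hy =>
  (AxB.thompson hP hU hUP (fun z hz => (mem_normalizer_iff.1 (hXP hx) z).1 hz)
    (fun a ha => mem_centralizer_iff.1 (hXU hx) a ha) (pow_orderOf_eq_one x)
    (Nat.Coprime.coprime_dvd_left (by rw [← orderOf_mk (H := X) x hx]; exact orderOf_dvd_natCard _)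
      hX).symm
    (fun z hz hzU => (mem_centralizer_iff.1 (hfix hx) z
      ⟨hz, mem_centralizer_iff.2 fun a ha => hzU a ha⟩).symm) y hy).symm

theorem pgroup_le_pCoreOf {t : ℕ} [ht : Fact t.Prime] {M P : Subgroup G} (hP : IsPGroup t P)
    (hle : P ≤ fittingOf M) : P ≤ pCoreOf t M := by
  haveI := FittingCores.fitting_nilpotent (G := M)
  have hPM : P ≤ M := hle.trans (FitOf.fittingOf_le M)
  have hle' : P.subgroupOf M ≤ Cfsg.fittingSubgroup M := fun x hx => by
    obtain ⟨y, hy, hyx⟩ := hle hx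
    rwa [← Subtype.ext (show (y : G) = x from hyx)]
  have hP' : IsPGroup t ((P.subgroupOf M).subgroupOf (Cfsg.fittingSubgroup M)) :=
    ((hP.of_equiv (subgroupOfEquivOfLe hPM).symm)).of_equiv (subgroupOfEquivOfLe hle').symm
  obtain ⟨S, hS⟩ := hP'.exists_le_sylow
  intro x hx
  refine ⟨⟨x, hPM hx⟩, FittingCores.sylow_le_pCore_of_nilpotent (G := M) FittingCores.fitting_normal
    t S ?_, rfl⟩
  exact ⟨⟨⟨x, hPM hx⟩, hle' hx⟩, hS hx, rfl⟩

theorem le_centralizer_of_fittingOf {Y T : Subgroup G} (hY : Group.IsSolvable Y)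
    (hT : T ≤ normalizer (Y : Set G)) (hco : (Nat.card T).Coprime (Nat.card Y))
    (h : T ≤ centralizer (fittingOf Y : Set G)) : Y ≤ centralizer (T : Set G) := by
  haveI := hY
  rw [← commutator_eq_bot_iff_le_centralizer, ← CoprimeAct.commutator_commutator hT hco (Or.inr hY),
    commutator_eq_bot_iff_le_centralizer]
  have h1 : ⁅⁅Y, fittingOf Y⁆, T⁆ = ⊥ := by
    have hle : ⁅Y, fittingOf Y⁆ ≤ fittingOf Y := by
      rw [commutator_comm]
      exact CoprimeAct.commutator_le_left (FitOf.le_normalizer_fittingOf Y)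
    refine eq_bot_iff.2 ((commutator_mono hle le_rfl).trans ?_)
    rw [commutator_comm, commutator_eq_bot_iff_le_centralizer.2 h]
  have h2 : ⁅⁅fittingOf Y, T⁆, Y⁆ = ⊥ := by
    rw [commutator_comm (fittingOf Y) T, commutator_eq_bot_iff_le_centralizer.2 h,
      commutator_bot_left]
  have h3 : ⁅⁅T, Y⁆, fittingOf Y⁆ = ⊥ := commutator_commutator_eq_bot_of_rotate h1 h2
  rw [commutator_comm T Y, commutator_eq_bot_iff_le_centralizer] at h3
  exact ((le_inf (CoprimeAct.commutator_le_left hT) h3).trans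
    (FitOf.inf_centralizer_fittingOf_le Y)).trans (Subgroup.le_centralizer_iff.1 h)

variable {p : ℕ} [hp : Fact p.Prime] {A : Subgroup G} {θ : G → Subgroup G}

namespace Setup

variable (S : Setup p A θ)
include S

theorem pCoreOf_mem {X : Subgroup G} (hX : X ∈ Cfsg.signalizerFamily p A θ) (t : ℕ) :
    pCoreOf t X ∈ Cfsg.signalizerFamily p A θ :=
  family_mono hX (FitOf.pCoreOf_le t X)
    ((family_normalizer hX).trans (normalizer_le_normalizer_pCoreOf t X))

theorem oP_mem {X : Subgroup G} (hX : X ∈ Cfsg.signalizerFamily p A θ) (t : ℕ) :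
    oP t X ∈ Cfsg.signalizerFamily p A θ :=
  family_mono hX (oP_le t X) ((family_normalizer hX).trans (normalizer_le_normalizer_oP t X))

theorem exists_max {X : Subgroup G} (hX : X ∈ Cfsg.signalizerFamily p A θ)
    (hC : Cfsg.signalizerInf A θ ≤ normalizer (X : Set G)) :
    ∃ M, IsMax p A θ M ∧ X ≤ M := by
  obtain ⟨M, hle, hM, hmax⟩ := Finite.exists_le_maximal
    (p := fun M : Subgroup G => M ∈ Cfsg.signalizerFamily p A θ)
    (sup_mem_family S.ea hX S.core_mem hC)
  exact ⟨M, ⟨hM, le_sup_right.trans hle, fun Z hZ hMZ => le_antisymm (hmax hZ hMZ) hMZ⟩,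
    le_sup_left.trans hle⟩

theorem ne_p {X : Subgroup G} (hX : X ∈ Cfsg.signalizerFamily p A θ) {t : ℕ} (h : t ∈ fitPrimes X) :
    t ≠ p := by
  rintro rfl
  haveI := Fact.mk h.1
  obtain ⟨n, hn⟩ := (FitOf.isPGroup_pCoreOf t X).exists_card_eq
  refine hX.2.1 ((hn ▸ dvd_pow_self t (fun h0 => h.2 (card_eq_one.1 (by rw [hn, h0, pow_zero]))) :).trans
    (card_dvd_of_le (FitOf.pCoreOf_le t X)))

theorem fit_mem_primes {X : Subgroup G} (hX : X ∈ Cfsg.signalizerFamily p A θ) {t : ℕ}
    (h : t ∈ fitPrimes X) : t ∈ primes A θ := by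
  haveI := Fact.mk h.1
  obtain ⟨n, hn⟩ := (FitOf.isPGroup_pCoreOf t X).exists_card_eq
  exact S.mem_primes hX h.1 ((hn ▸ dvd_pow_self t (fun h0 => h.2
    (card_eq_one.1 (by rw [hn, h0, pow_zero]))) :).trans (card_dvd_of_le (FitOf.pCoreOf_le t X)))

end Setup

theorem exists_fitPrime {M : Subgroup G} (hM : Group.IsSolvable M) (hne : M ≠ ⊥) :
    ∃ t, t ∈ fitPrimes M := by
  by_contra hno
  haveI := hM
  refine hne (le_bot_iff.1 ?_)
  have hF : fittingOf M ≤ ⊥ := FitOf.fittingOf_le_iff.2 fun t ht =>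
    le_of_eq (Classical.byContradiction fun h => hno ⟨t, ht, h⟩)
  intro x hx
  refine hF (FitOf.inf_centralizer_fittingOf_le M ⟨hx, ?_⟩)
  rw [le_bot_iff.1 hF]
  exact mem_centralizer_iff.2 fun y hy => by rw [mem_bot.1 hy, one_mul, mul_one]

namespace Min

variable (M₀ : Min p A θ)
include M₀

/-- A member normalising a non-trivial member normalised by a maximum lies in the maximum. -/
theorem le_of_normalized {M U X : Subgroup G} (hM : IsMax p A θ M)
    (hU : U ∈ Cfsg.signalizerFamily p A θ) (hU1 : U ≠ ⊥) (hMU : M ≤ normalizer (U : Set G))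
    (hX : X ∈ Cfsg.signalizerFamily p A θ) (hXU : X ≤ normalizer (U : Set G)) : X ≤ M := by
  obtain ⟨W, hW, -, hmax⟩ := M₀.exists_greatest hU hU1
  rw [← hM.max W hW (hmax M hM.mem hMU)]
  exact hmax X hX hXU

theorem le_of_centralizes_core {M X : Subgroup G} (hM : IsMax p A θ M) {t : ℕ}
    (ht : t ∈ fitPrimes M) (hX : X ∈ Cfsg.signalizerFamily p A θ)
    (hXT : X ≤ centralizer (pCoreOf t M : Set G)) : X ≤ M :=
  M₀.le_of_normalized hM (M₀.pCoreOf_mem hM.mem t) ht.2 (FitOf.le_normalizer_pCoreOf t M) hX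
    (hXT.trans (centralizer_le_normalizer _))

theorem le_of_normalizes_core {M X : Subgroup G} (hM : IsMax p A θ M) {t : ℕ}
    (ht : t ∈ fitPrimes M) (hX : X ∈ Cfsg.signalizerFamily p A θ)
    (hXT : X ≤ normalizer (pCoreOf t M : Set G)) : X ≤ M :=
  M₀.le_of_normalized hM (M₀.pCoreOf_mem hM.mem t) ht.2 (FitOf.le_normalizer_pCoreOf t M) hX hXT

/-- `O_s(X) ≤ M` when `X` contains two Fitting cores of `M`, one of them for `s`. -/
theorem core_le_max {M X : Subgroup G} (hM : IsMax p A θ M) {s r : ℕ} (hs : s ∈ fitPrimes M)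
    (hr : r ∈ fitPrimes M) (hne : r ≠ s) (hX : X ∈ Cfsg.signalizerFamily p A θ)
    (hsX : pCoreOf s M ≤ X) (hrX : pCoreOf r M ≤ X) : pCoreOf s X ≤ M := by
  haveI := Fact.mk hs.1
  set P := pCoreOf s X with hP
  set U := pCoreOf s M with hU
  set R := pCoreOf r M with hR
  have hPU : P ⊓ centralizer (U : Set G) ≤ M :=
    M₀.le_of_centralizes_core hM hs (M₀.inf_centralizer_mem (M₀.pCoreOf_mem hX s)
      ((family_normalizer hM.mem).trans (normalizer_le_normalizer_pCoreOf s M))) inf_le_right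
  have hRP : R ≤ normalizer (P : Set G) := hrX.trans (FitOf.le_normalizer_pCoreOf s X)
  have hRU : R ≤ centralizer (U : Set G) := FitOf.pCoreOf_le_centralizer hr.1 hs.1 hne M
  have hfix : R ≤ centralizer ((P ⊓ centralizer (U : Set G) : Subgroup G) : Set G) :=
    le_centralizer_of_coprime
      (le_normalizer_inf hRP (hRU.trans le_normalizer))
      (hPU.trans (FitOf.le_normalizer_pCoreOf r M))
      (coprime_of_ne hr.1 hs.1 hne (FitOf.isPGroup_pCoreOf r M)
        ((FitOf.isPGroup_pCoreOf s X).to_le inf_le_left))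
  have hRc : R ≤ centralizer (P : Set G) :=
    centralizes_of_fixed (FitOf.isPGroup_pCoreOf s X) (FitOf.isPGroup_pCoreOf s M)
      (hsX.trans (FitOf.le_normalizer_pCoreOf s X)) hRP hRU (by
        haveI := Fact.mk hr.1
        obtain ⟨n, hn⟩ := (FitOf.isPGroup_pCoreOf r M).exists_card_eq
        rw [hn]
        exact ((Nat.coprime_primes hr.1 hs.1).2 hne).pow_left n) hfix
  exact M₀.le_of_centralizes_core hM hr (M₀.pCoreOf_mem hX s) (Subgroup.le_centralizer_iff.1 hRc)

/-- Two subgroups sharing their Fitting subgroups. -/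
theorem le_max_of_fitting {M X : Subgroup G} (hM : IsMax p A θ M) {q r : ℕ} (hq : q ∈ fitPrimes M)
    (hr : r ∈ fitPrimes M) (hne : r ≠ q) (hX : X ∈ Cfsg.signalizerFamily p A θ)
    (hMX : fittingOf M ≤ X) (hXM : fittingOf X ≤ M)
    (hC : ∀ Z ∈ Cfsg.signalizerFamily p A θ, Z ≤ centralizer (pCoreOf q X : Set G) → Z ≤ X) :
    X ≤ M := by
  haveI := Fact.mk hq.1
  set T := pCoreOf q M with hT
  set T' := pCoreOf q X with hT'
  set Y := oP q M with hY
  set Y' := oP q X with hY'
  have hT'M : T' ≤ M := (FitOf.pCoreOf_le_fittingOf hq.1 X).trans hXM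
  have hTX : T ≤ X := (FitOf.pCoreOf_le_fittingOf hq.1 M).trans hMX
  have hTp : IsPGroup q T := FitOf.isPGroup_pCoreOf q M
  have hT'p : IsPGroup q T' := FitOf.isPGroup_pCoreOf q X
  have hFY : ∀ (Z : Subgroup G) (t : ℕ), (fittingOf (oP t Z)) ≤ fittingOf Z := by
    intro Z t
    haveI := FitOf.fittingOf_nilpotent (oP t Z)
    exact FitOf.le_fittingOf ((FitOf.fittingOf_le _).trans (oP_le t Z))
      ((le_normalizer_oP t Z).trans
        (normalizer_le_normalizer_map _ (FittingCores.fitting_characteristic (G := oP t Z))))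
  have hYc : Y ≤ centralizer (T' : Set G) :=
    le_centralizer_of_fittingOf (isSolvable_of_le (oP_le q M) hM.mem.1)
      (hT'M.trans (le_normalizer_oP q M)) (coprime_of_pgroup hT'p (oP_coprime q M))
      (le_centralizer_of_coprime
        ((hT'M.trans (le_normalizer_oP q M)).trans
          (normalizer_le_normalizer_map _ (FittingCores.fitting_characteristic (G := oP q M))))
        (((hFY M q).trans hMX).trans (FitOf.le_normalizer_pCoreOf q X))
        (coprime_of_pgroup hT'p ((oP_coprime q M).coprime_dvd_left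
          (card_dvd_of_le (FitOf.fittingOf_le _)))))
  have hYX : Y ≤ X := hC _ (M₀.oP_mem hM.mem q) hYc
  have hY'c : Y' ≤ centralizer (T : Set G) :=
    le_centralizer_of_fittingOf (isSolvable_of_le (oP_le q X) hX.1)
      (hTX.trans (le_normalizer_oP q X)) (coprime_of_pgroup hTp (oP_coprime q X))
      (le_centralizer_of_coprime
        ((hTX.trans (le_normalizer_oP q X)).trans
          (normalizer_le_normalizer_map _ (FittingCores.fitting_characteristic (G := oP q X))))
        (((hFY X q).trans hXM).trans (FitOf.le_normalizer_pCoreOf q M))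
        (coprime_of_pgroup hTp ((oP_coprime q X).coprime_dvd_left
          (card_dvd_of_le (FitOf.fittingOf_le _)))))
  have hY'M : Y' ≤ M := M₀.le_of_centralizes_core hM hq (M₀.oP_mem hX q) hY'c
  have h1 : Y ≤ Y' := by
    refine le_oP hX.1 hTX hTp hYX (le_centralizer_of_coprime
      ((oP_le q M).trans (FitOf.le_normalizer_pCoreOf q M))
      ((FitOf.pCoreOf_le q M).trans (le_normalizer_oP q M))
      (coprime_of_pgroup hTp (oP_coprime q M)).symm) ?_ (oP_coprime q M)
    exact (M₀.le_of_centralizes_core hM hq (M₀.inf_centralizer_mem hX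
      ((family_normalizer hM.mem).trans (normalizer_le_normalizer_pCoreOf q M))) inf_le_right).trans
        (le_normalizer_oP q M)
  have h2 : Y' ≤ Y := by
    refine le_oP hM.mem.1 hT'M hT'p hY'M (le_centralizer_of_coprime
      ((oP_le q X).trans (FitOf.le_normalizer_pCoreOf q X))
      ((FitOf.pCoreOf_le q X).trans (le_normalizer_oP q X))
      (coprime_of_pgroup hT'p (oP_coprime q X)).symm) ?_ (oP_coprime q X)
    exact (hC _ (M₀.inf_centralizer_mem hM.mem
      ((family_normalizer hX).trans (normalizer_le_normalizer_pCoreOf q X))) inf_le_right).trans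
        (le_normalizer_oP q X)
  have hY1 : Y ≠ ⊥ := fun h => hr.2 (le_bot_iff.1 (h ▸ le_oP_of_normal (FitOf.pCoreOf_le r M)
    (FitOf.le_normalizer_pCoreOf r M) (by
      haveI := Fact.mk hr.1
      obtain ⟨n, hn⟩ := (FitOf.isPGroup_pCoreOf r M).exists_card_eq
      rw [hn]
      exact ((Nat.coprime_primes hr.1 hq.1).2 hne).pow_left n)))
  refine M₀.le_of_normalized hM (M₀.oP_mem hM.mem q) hY1 (le_normalizer_oP q M) hX ?_
  rw [← hY, le_antisymm h1 h2]
  exact le_normalizer_oP q X

/-- A mixed maximum contains every member above its Fitting subgroup with no new prime. -/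
theorem le_max_of_primes {M X : Subgroup G} (hM : IsMax p A θ M) {q r : ℕ} (hq : q ∈ fitPrimes M)
    (hr : r ∈ fitPrimes M) (hne : r ≠ q) (hX : X ∈ Cfsg.signalizerFamily p A θ)
    (hMX : fittingOf M ≤ X) (hσ : IsSigma (fitPrimes M) X) : X ≤ M := by
  haveI := Fact.mk hq.1
  set T := pCoreOf q M with hT
  have hTX : T ≤ X := (FitOf.pCoreOf_le_fittingOf hq.1 M).trans hMX
  have hcore : ∀ s ∈ fitPrimes M, pCoreOf s M ≤ X := fun s hs =>
    (FitOf.pCoreOf_le_fittingOf hs.1 M).trans hMX
  have hTK : T ≤ X ⊓ ⨅ s : {s // s ∈ fitPrimes M ∧ s ≠ q}, oP s.1 X := by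
    refine le_inf hTX (le_iInf fun ⟨s, hs, hsq⟩ => ?_)
    haveI := Fact.mk hs.1
    refine le_oP hX.1 (hcore s hs) (FitOf.isPGroup_pCoreOf s M) hTX
      (FitOf.pCoreOf_le_centralizer hq.1 hs.1 (Ne.symm hsq) M) ?_ ?_
    · exact (M₀.le_of_centralizes_core hM hs (M₀.inf_centralizer_mem hX
        ((family_normalizer hM.mem).trans (normalizer_le_normalizer_pCoreOf s M))) inf_le_right).trans
          (FitOf.le_normalizer_pCoreOf q M)
    · obtain ⟨n, hn⟩ := (FitOf.isPGroup_pCoreOf q M).exists_card_eq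
      rw [hn]
      exact ((Nat.coprime_primes hq.1 hs.1).2 (Ne.symm hsq)).pow_left n
  have hKq : IsPGroup q ↥(X ⊓ ⨅ s : {s // s ∈ fitPrimes M ∧ s ≠ q}, oP s.1 X) := by
    rw [← isSigma_singleton_iff hq.1]
    intro t ht hd
    by_contra htq
    have htσ : t ∈ fitPrimes M := hσ t ht (hd.trans (card_dvd_of_le inf_le_left))
    have h1 : t ∣ Nat.card (oP t X) := hd.trans (card_dvd_of_le
      (inf_le_right.trans (iInf_le (fun s : {s // s ∈ fitPrimes M ∧ s ≠ q} => oP s.1 X) ⟨t, htσ, htq⟩)))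
    exact ht.ne_one (Nat.dvd_one.1 ((oP_coprime t X) ▸ Nat.dvd_gcd h1 dvd_rfl))
  have hTq : T ≤ pCoreOf q X := hTK.trans (AxB.le_pCoreOf inf_le_left
    (le_normalizer_inf le_normalizer (le_normalizer_iInf fun s => le_normalizer_oP s.1 X)) hKq)
  obtain ⟨X', hXX', ⟨hX', hTq'⟩, hmax⟩ := Finite.exists_le_maximal
    (p := fun Z : Subgroup G => Z ∈ Cfsg.signalizerFamily p A θ ∧ T ≤ pCoreOf q Z) ⟨hX, hTq⟩
  refine hXX'.trans (M₀.le_max_of_fitting hM hq hr hne hX' (hMX.trans hXX') ?_ ?_)
  · refine FitOf.fittingOf_le_iff.2 fun x hx => ?_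
    by_cases hxσ : x ∈ fitPrimes M
    · by_cases hxq : x = q
      · exact M₀.core_le_max hM hxσ hr (hxq ▸ hne) hX' ((hcore x hxσ).trans hXX')
          ((hcore r hr).trans hXX')
      · exact M₀.core_le_max hM hxσ hq (Ne.symm hxq) hX' ((hcore x hxσ).trans hXX')
          ((hcore q hq).trans hXX')
    · haveI := Fact.mk hx
      set P := pCoreOf x X' with hP
      have hxq : x ≠ q := fun h => hxσ (h ▸ hq)
      have hPM : P ≤ M := M₀.le_of_centralizes_core hM hq (M₀.pCoreOf_mem hX' x)
        ((FitOf.pCoreOf_le_centralizer hx hq.1 hxq X').trans (centralizer_le hTq'))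
      refine le_trans (pgroup_le_pCoreOf (FitOf.isPGroup_pCoreOf x X') ?_) (FitOf.pCoreOf_le x M)
      haveI := hM.mem.1
      refine le_trans (le_inf hPM ?_) (FitOf.inf_centralizer_fittingOf_le M)
      rw [Subgroup.le_centralizer_iff, FitOf.fittingOf_le_iff]
      intro s hs
      by_cases hsσ : s ∈ fitPrimes M
      · exact le_centralizer_of_coprime
          (((hcore s hsσ).trans hXX').trans (FitOf.le_normalizer_pCoreOf x X'))
          (hPM.trans (FitOf.le_normalizer_pCoreOf s M))
          (coprime_of_ne hs hx (fun h => hxσ (h ▸ hsσ)) (FitOf.isPGroup_pCoreOf s M)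
            (FitOf.isPGroup_pCoreOf x X'))
      · rw [show pCoreOf s M = ⊥ from Classical.byContradiction fun h => hsσ ⟨hs, h⟩]
        exact bot_le
  · intro Z hZ hZc
    have hne1 : pCoreOf q X' ≠ ⊥ := fun h => hq.2 (le_bot_iff.1 (h ▸ hTq'))
    obtain ⟨W, hW, hWN, hWmax⟩ := M₀.exists_greatest (M₀.pCoreOf_mem hX' q) hne1
    have hX'W : X' ≤ W := hWmax X' hX' (FitOf.le_normalizer_pCoreOf q X')
    have hWq : T ≤ pCoreOf q W := hTq'.trans (AxB.le_pCoreOf
      ((FitOf.pCoreOf_le q X').trans hX'W) hWN (FitOf.isPGroup_pCoreOf q X'))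
    exact (hWmax Z hZ (hZc.trans (centralizer_le_normalizer _))).trans (hmax ⟨hW, hWq⟩ hX'W)

/-- If `a` centralises the Fitting subgroup of its maximum `M`, then `M = θ a`. -/
theorem eq_theta {M : Subgroup G} (hM : IsMax p A θ M) {a : G} (ha : a ∈ A) (ha1 : a ≠ 1)
    (haM : θ a ≤ M) (h : a ∈ centralizer (fittingOf M : Set G)) : M = θ a := by
  haveI := hM.mem.1
  refine le_antisymm (M₀.le_theta hM.mem ha ha1 ?_) haM
  rw [← centralizer_zpowers_eq, ← commutator_eq_bot_iff_le_centralizer,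
    ← M₀.commutator_idem hM.mem ha, commutator_eq_bot_iff_le_centralizer]
  refine le_trans (le_inf (CoprimeAct.commutator_le_left
    ((zpowers_le.2 ha).trans (family_normalizer hM.mem)))
    (commutator_le_centralizer_three h (FitOf.le_normalizer_fittingOf M))) ?_
  exact (FitOf.inf_centralizer_fittingOf_le M).trans
    (Subgroup.le_centralizer_iff.1 (zpowers_le.2 h))

end Min

end Cfsg.Agent.Signalizer.SFT
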