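import Mathlib.GroupTheory.PGroup
import Mathlib.GroupTheory.Perm.Cycle.Type
import Mathlib.GroupTheory.Sylow
import Mathlib.Algebra.Group.Subgroup.Pointwise
import Mathlib.Data.ZMod.Basic

/-!
Transvections on an elementary abelian `r`-group normalising a group of coprime prime power order.
-/

set_option autoImplicit false
set_option linter.style.haveILetI false
set_option linter.unusedSectionVars false
set_option linter.unusedVariables false

universe u

namespace Cfsg.Agent.Signalizer.SFT

open Subgroup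

variable {V : Type u} [CommGroup V]

/-- The points fixed by a group of automorphisms. -/
def fixedOf (P : Subgroup (MulAut V)) : Subgroup V where
  carrier := {v | ∀ g ∈ P, g v = v}
  one_mem' := fun g _ => map_one g
  mul_mem' := fun ha hb g hg => by rw [map_mul, ha g hg, hb g hg]
  inv_mem' := fun ha g hg => by rw [map_inv, ha g hg]

/-- The automorphisms moving every element only inside `W`. -/
def movingIn (W : Subgroup V) : Subgroup (MulAut V) where
  carrier := {g | ∀ v, g v / v ∈ W}
  one_mem' := fun v => by simp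
  mul_mem' := fun {g h} hg hh v => by
    rw [MulAut.mul_apply, ← div_mul_div_cancel (g (h v)) (h v) v]
    exact mul_mem (hg _) (hh v)
  inv_mem' := fun {g} hg v => by
    have h := hg (g⁻¹ v)
    rw [MulAut.apply_inv_self] at h
    rw [← inv_div]
    exact inv_mem h

theorem pow_apply_of_unipotent {g : MulAut V} {v : V} (hw : g (g v / v) = g v / v) (n : ℕ) :
    (g ^ n) v = v * (g v / v) ^ n := by
  induction n with
  | zero => simp
  | succ n ih =>
    rw [pow_succ', MulAut.mul_apply, ih, map_mul, map_pow, hw, pow_succ']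
    rw [← mul_assoc, mul_div_cancel]

/-- An automorphism of coprime order moving `v` by a fixed element fixes it. -/
theorem eq_self_of_unipotent {r : ℕ} (hexp : ∀ v : V, v ^ r = 1) {g : MulAut V} {n : ℕ}
    (hg : g ^ n = 1) (hn : n.Coprime r) {v : V} (hw : g (g v / v) = g v / v) : g v = v := by
  have h := pow_apply_of_unipotent hw n
  rw [hg, MulAut.one_apply] at h
  have h1 : (g v / v) ^ n = 1 := mul_eq_left.1 h.symm
  have h2 : (g v / v) ^ Nat.gcd n r = 1 := pow_gcd_eq_one.2 ⟨h1, hexp _⟩
  rw [hn, pow_one] at h2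
  exact div_eq_one.1 h2

variable [Finite V]

theorem exists_fixed {r : ℕ} [hr : Fact r.Prime] (hexp : ∀ v : V, v ^ r = 1)
    {P : Subgroup (MulAut V)} (hP : IsPGroup r P) {W : Subgroup V} (hW : W ≠ ⊥)
    (hinv : ∀ g ∈ P, ∀ w ∈ W, g w ∈ W) : ∃ w ∈ W, w ≠ 1 ∧ ∀ g ∈ P, g w = w := by
  letI : MulAction P W :=
    { smul := fun g w => ⟨(g : MulAut V) w, hinv g g.2 w w.2⟩
      one_smul := fun w => Subtype.ext rfl
      mul_smul := fun g h w => Subtype.ext rfl }
  haveI : Nontrivial W := (nontrivial_iff_ne_bot _).2 hW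
  have hWp : IsPGroup r W := fun w => ⟨1, Subtype.ext (by simpa using hexp (w : V))⟩
  have hd : r ∣ Nat.card W := by
    obtain ⟨n, hn, h⟩ := hWp.nontrivial_iff_card.1 inferInstance
    exact h ▸ dvd_pow_self r hn.ne'
  have h1 : (1 : W) ∈ MulAction.fixedPoints P W := fun g => Subtype.ext (map_one (g : MulAut V))
  obtain ⟨w, hw, hne⟩ := hP.exists_fixed_point_of_prime_dvd_card_of_fixed_point W hd h1
  exact ⟨w, w.2, fun h => hne (Subtype.ext h.symm), fun g hg => congrArg Subtype.val (hw ⟨g, hg⟩)⟩

/-- A coprime element commuting with an `r`-group and fixing its fixed points is trivial. -/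
theorem eq_one_of_fixes_fixedOf {r : ℕ} [hr : Fact r.Prime] (hexp : ∀ v : V, v ^ r = 1)
    {P : Subgroup (MulAut V)} (hP : IsPGroup r P) {x : MulAut V} {n : ℕ} (hx : x ^ n = 1)
    (hn : n.Coprime r) (hcomm : ∀ g ∈ P, g * x = x * g) (hfix : ∀ v ∈ fixedOf P, x v = v) : x = 1 := by
  let W : Subgroup V :=
    { carrier := Set.range fun v => x v / v
      one_mem' := ⟨1, by simp⟩
      mul_mem' := by
        rintro _ _ ⟨a, rfl⟩ ⟨b, rfl⟩
        exact ⟨a * b, by simp only [map_mul]; exact mul_div_mul_comm _ _ _ _⟩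
      inv_mem' := by
        rintro _ ⟨a, rfl⟩
        exact ⟨a⁻¹, by simp only [map_inv]; rw [inv_div_inv, inv_div]⟩ }
  by_contra hne
  have hW : W ≠ ⊥ := fun h => hne (MulEquiv.ext fun v =>
    div_eq_one.1 ((eq_bot_iff_forall _).1 h _ ⟨v, rfl⟩))
  have hinv : ∀ g ∈ P, ∀ w ∈ W, g w ∈ W := by
    rintro g hg _ ⟨v, rfl⟩
    refine ⟨g v, ?_⟩
    show x (g v) / g v = g (x v / v)
    rw [map_div, ← MulAut.mul_apply, ← hcomm g hg, MulAut.mul_apply]
  obtain ⟨w, ⟨v, rfl⟩, hw1, hwfix⟩ := exists_fixed hexp hP hW hinv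
  exact hw1 (div_eq_one.2 (eq_self_of_unipotent hexp hx hn (hfix _ hwfix)))

/-- The permutation sign of an automorphism. -/
noncomputable def signOf : MulAut V →* ℤˣ :=
  letI := Fintype.ofFinite V
  letI := Classical.decEq V
  Equiv.Perm.sign.comp (MulAut.toPerm V)

theorem signOf_eq_one {g : MulAut V} {k : ℕ} (hk : ¬ 2 ∣ k) (hg : g ^ k = 1) : signOf g = 1 := by
  have h : signOf g ^ k = 1 := by rw [← map_pow, hg, map_one]
  rcases Int.units_eq_one_or (signOf g) with h1 | h1
  · exact h1
  · rw [h1, (Nat.not_even_iff_odd.1 fun he => hk he.two_dvd).neg_one_pow] at h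
    exact absurd h (by decide)

/-- An involution inverting a subgroup of order `27` and fixing a complement is odd. -/
theorem signOf_ne_one (hexp : ∀ v : V, v ^ 3 = 1) {i : MulAut V} {X : Subgroup V}
    (hX : Nat.card X = 27) (hi : ∀ v, i v / v ∈ X) (hneg : ∀ x ∈ X, i x = x⁻¹) : signOf i ≠ 1 := by
  classical
  letI := Fintype.ofFinite V
  let F : Subgroup V := fixedOf (Subgroup.zpowers i)
  have hF : ∀ v, v ∈ F ↔ i v = v := fun v => by
    refine ⟨fun h => h i (mem_zpowers i), fun h g hg => ?_⟩
    obtain ⟨k, rfl⟩ := mem_zpowers_iff.1 hg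
    have key : ∀ n : ℕ, (i ^ n) v = v := fun n => by
      induction n with
      | zero => simp
      | succ n ih => rw [pow_succ, MulAut.mul_apply, h, ih]
    obtain ⟨n, rfl | rfl⟩ := k.eq_nat_or_neg
    · exact key n
    · rw [zpow_neg, zpow_natCast]
      conv_lhs => rw [← key n]
      exact (i ^ n).symm_apply_apply v
  have hinv : ∀ v, i (i v) = v := by
    intro v
    have h := hneg _ (hi v)
    rw [map_div, inv_div] at h
    exact div_left_inj.1 h
  -- `V = X × F`
  have hcard : Nat.card V = 27 * Nat.card F := by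
    rw [← hX, ← Nat.card_prod]
    refine (Nat.card_congr (Equiv.ofBijective (fun z : X × F => (z.1 : V) * z.2) ⟨?_, ?_⟩)).symm
    · intro z w hzw
      have hzw' : (z.1 : V) * z.2 = w.1 * w.2 := hzw
      have h1 : (z.1 : V) / w.1 = w.2 / z.2 := by
        rw [div_eq_div_iff_mul_eq_mul, hzw', mul_comm]
      have h2 : ((z.1 : V) / w.1) ⁻¹ = (z.1 : V) / w.1 := by
        rw [← hneg _ (X.div_mem z.1.2 w.1.2), h1]
        exact (hF _).1 (F.div_mem w.2.2 z.2.2)
      have h3 : ((z.1 : V) / w.1) ^ 2 = 1 := by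
        rw [pow_two]
        conv_lhs => arg 1; rw [← h2]
        rw [inv_mul_cancel]
      have h4 : (z.1 : V) / w.1 = 1 := by
        have := pow_gcd_eq_one.2 ⟨h3, hexp ((z.1 : V) / w.1)⟩
        simpa using this
      have h5 : z.1 = w.1 := Subtype.ext (div_eq_one.1 h4)
      have h6 : z.2 = w.2 := Subtype.ext (by rw [h5] at hzw'; exact mul_left_cancel hzw')
      exact Prod.ext h5 h6
    · intro v
      set u := i v / v with hu
      refine ⟨⟨⟨u, hi v⟩, ⟨v * u ^ 2, (hF _).2 ?_⟩⟩, ?_⟩
      · rw [map_mul, map_pow, hneg u (hi v), show i v = u * v from (div_mul_cancel _ _).symm,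
          inv_pow, mul_comm u v, mul_assoc]
        congr 1
        have h3 : u * (u * u) = 1 := by rw [← hexp u, pow_succ', pow_two]
        have huu : u * u = u⁻¹ := eq_inv_of_mul_eq_one_right h3
        rw [pow_two, huu, inv_inv, huu.symm]
      · show u * (v * u ^ 2) = v
        rw [mul_left_comm, ← pow_succ', hexp, mul_one]
  set σ : Equiv.Perm V := MulAut.toPerm V i with hσ
  have hσ2 : σ ^ 2 = 1 := Equiv.ext fun v => by
    rw [pow_two, Equiv.Perm.mul_apply]
    exact hinv v
  have hsupp : σ.supportᶜ = Finset.univ.filter fun v => v ∈ F := by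
    ext v
    simp only [Finset.mem_compl, Equiv.Perm.mem_support, not_not, Finset.mem_filter,
      Finset.mem_univ, true_and, hF]
    rfl
  have hFc : Nat.card F = σ.supportᶜ.card := by
    rw [hsupp, Nat.card_eq_fintype_card, Fintype.card_subtype]
  have hsum : σ.supportᶜ.card + σ.support.card = Nat.card V := by
    rw [Nat.card_eq_fintype_card, Finset.card_compl_add_card]
  have hs : σ.support.card = 26 * Nat.card F := by omega
  have hodd : ¬ 2 ∣ Nat.card F := by
    intro h2
    obtain ⟨⟨x, hx⟩, ho⟩ := exists_prime_orderOf_dvd_card' (G := F) 2 h2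
    rw [orderOf_mk] at ho
    have := orderOf_dvd_of_pow_eq_one (hexp x)
    rw [ho] at this
    exact absurd this (by decide)
  intro hsign
  have hk : ∃ k, σ.cycleType = Multiset.replicate k 2 := by
    refine ⟨σ.cycleType.card, Multiset.eq_replicate_card.2 fun m hm => ?_⟩
    have h1 : m ∣ 2 := (Equiv.Perm.dvd_of_mem_cycleType hm).trans (orderOf_dvd_of_pow_eq_one hσ2)
    have h2 : 2 ≤ m := Equiv.Perm.two_le_of_mem_cycleType hm
    exact le_antisymm (Nat.le_of_dvd two_pos h1) h2
  obtain ⟨k, hk⟩ := hk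
  have hk2 : k * 2 = σ.support.card := by
    rw [← Equiv.Perm.sum_cycleType, hk, Multiset.sum_replicate, smul_eq_mul]
  have hkodd : Odd k := by
    rw [← Nat.not_even_iff_odd]
    intro he
    apply hodd
    obtain ⟨j, rfl⟩ := he
    have h13 : 13 * Nat.card F = j + j := by omega
    exact (Nat.Coprime.dvd_mul_left (by norm_num : Nat.Coprime 2 13)).1 ⟨j, by omega⟩
  have hsign' : Equiv.Perm.sign σ = -1 := by
    rw [Equiv.Perm.sign_of_cycleType, hk, Multiset.sum_replicate, Multiset.card_replicate,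
      smul_eq_mul, Odd.neg_one_pow]
    rcases hkodd with ⟨j, rfl⟩
    exact ⟨3 * j + 1, by ring⟩
  have : signOf i = Equiv.Perm.sign σ := by
    simp only [signOf, hσ, MonoidHom.comp_apply]
  rw [this, hsign'] at hsign
  exact absurd hsign (by decide)

end Cfsg.Agent.Signalizer.SFT
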