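import Cfsg.Agent.Lib.Signalizer.SFT.TransvectionPlane

/-!
A transvection cannot act non-trivially on a group of coprime prime power order if it centralises
the fixed points there of a group of a third prime exponent normalising it.
-/

set_option autoImplicit false
set_option linter.style.haveILetI false
set_option linter.unusedSectionVars false
set_option linter.unusedVariables false

universe u

namespace Cfsg.Agent.Signalizer.SFT

open Subgroup

variable {V : Type u} [CommGroup V] [Finite V] {r q : ℕ} [hr : Fact r.Prime] [hq : Fact q.Prime]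
  {R : Subgroup (MulAut V)} {b : MulAut V} {e : V}

namespace IsPair

variable {f : V} {ν : MulAut V}

theorem not_mem_centre (T : IsTransvec r q R b e) (P : IsPair R b e ν f) : ν e ∉ zpowers e := fun h =>
  T.e_ne (P.free e (mem_sup_left (mem_zpowers e)) h)

theorem span (T : IsTransvec r q R b e) (P : IsPair R b e ν f) :
    zpowers e ⊔ zpowers (ν e) = zpowers e ⊔ zpowers f :=
  T.plane_eq P.not_mem (P.not_mem_centre T)
    (apply_mem_of_moving P.moving (mem_sup_left (mem_zpowers e)))

theorem moving_surjective (P : IsPair R b e ν f) {w : V}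
    (hw : w ∈ zpowers e ⊔ zpowers f) : ∃ v, ν v / v = w := by
  set W := zpowers e ⊔ zpowers f with hW
  let g : W → W := fun w => ⟨ν w / w, div_mem (apply_mem_of_moving P.moving w.2) w.2⟩
  have hg : Function.Injective g := by
    intro u v huv
    have h : ν (u : V) / u = ν v / v := congrArg Subtype.val huv
    have h1 : ν ((u : V) / v) = (u : V) / v := by
      rw [map_div, div_eq_div_iff_div_eq_div]
      exact h
    exact Subtype.ext (div_eq_one.1 (P.free _ (div_mem u.2 v.2) (by rw [h1]; exact mem_zpowers _)))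
  obtain ⟨v, hv⟩ := Finite.surjective_of_injective hg ⟨w, hw⟩
  exact ⟨v, congrArg Subtype.val hv⟩

/-- Whatever commutes with the rotation and is scalar at the centre is scalar on the plane. -/
theorem scalar (T : IsTransvec r q R b e) (P : IsPair R b e ν f) {i : MulAut V}
    (hcomm : ν * i = i * ν) {k : ℤ} (he : i e = e ^ k) {w : V}
    (hw : w ∈ zpowers e ⊔ zpowers f) : i w = w ^ k := by
  rw [← P.span T] at hw
  obtain ⟨a, ha, z, hz, rfl⟩ := mem_sup.1 hw
  obtain ⟨m, rfl⟩ := mem_zpowers_iff.1 ha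
  obtain ⟨l, rfl⟩ := mem_zpowers_iff.1 hz
  rw [map_mul, map_zpow, map_zpow, he, ← MulAut.mul_apply, ← hcomm, MulAut.mul_apply, he, map_zpow,
    mul_zpow, ← zpow_mul, ← zpow_mul, ← zpow_mul, ← zpow_mul, mul_comm k m, mul_comm k l]

/-- Whatever commutes with the rotation preserves the plane. -/
theorem apply_mem (P : IsPair R b e ν f) {i : MulAut V}
    (hcomm : ν * i = i * ν) {w : V} (hw : w ∈ zpowers e ⊔ zpowers f) :
    i w ∈ zpowers e ⊔ zpowers f := by
  obtain ⟨v, rfl⟩ := P.moving_surjective hw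
  rw [map_div, ← MulAut.mul_apply, ← hcomm, MulAut.mul_apply]
  exact P.moving _

end IsPair

namespace IsTransvec

variable (T : IsTransvec r q R b e)
include T

/-- All the planes coincide. -/
theorem plane_unique (hrq : r = 2 ∧ q = 3 ∨ r = 3 ∧ q = 2) {ν ν' : MulAut V} {f f' : V}
    (P : IsPair R b e ν f) (hs : r = 3 → signOf ν = 1)
    (P' : IsPair R b e ν' f') (hs' : r = 3 → signOf ν' = 1) :
    zpowers e ⊔ zpowers f' = zpowers e ⊔ zpowers f := by
  by_contra hne
  have hf' : f' ∉ zpowers e ⊔ zpowers f := fun h => hne (T.plane_eq P.not_mem P'.not_mem h)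
  set X := zpowers e ⊔ zpowers f ⊔ zpowers f' with hX
  set K := Subgroup.closure ({ν, ν'} : Set (MulAut V)) with hK
  have hKR : K ≤ R := (closure_le _).2 (by rintro x (rfl | rfl); exacts [P.mem, P'.mem])
  have hW'X : zpowers e ⊔ zpowers f' ≤ X := sup_le (le_sup_left.trans le_sup_left) le_sup_right
  have hKX : K ≤ movingIn X := (closure_le _).2 (by
    rintro x (rfl | rfl)
    · exact fun v => mem_sup_left (P.moving v)
    · exact fun v => hW'X (P'.moving v))
  haveI : Nontrivial K := by
    refine (nontrivial_iff_ne_bot _).2 fun h => P.not_mem_centre T ?_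
    rw [(eq_bot_iff_forall _).1 h ν (subset_closure (Or.inl rfl)), MulAut.one_apply]
    exact mem_zpowers e
  have hKP : IsPGroup q K := T.isP.to_le hKR
  haveI := hKP.center_nontrivial
  obtain ⟨⟨⟨i, hiK⟩, hiZ⟩, hi⟩ := exists_ne (1 : center K)
  have hi1 : i ≠ 1 := fun h => hi (Subtype.ext (Subtype.ext h))
  have hcomm : ∀ x ∈ ({ν, ν'} : Set (MulAut V)), x * i = i * x := fun x hx =>
    congrArg Subtype.val (mem_center_iff.1 hiZ ⟨x, subset_closure hx⟩)
  have he : e ∈ zpowers e ⊔ zpowers f := mem_sup_left (mem_zpowers e)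
  have he' : e ∈ zpowers e ⊔ zpowers f' := mem_sup_left (mem_zpowers e)
  have hie : i e ∈ zpowers e := by
    by_contra hie
    refine hne ?_
    rw [← T.plane_eq P.not_mem hie (P.apply_mem (hcomm _ (Or.inl rfl)) he),
      T.plane_eq P'.not_mem hie (P'.apply_mem (hcomm _ (Or.inr rfl)) he')]
  have hie1 : i e ≠ 1 := fun h => T.e_ne (i.injective (h.trans (map_one i).symm))
  obtain ⟨k, hk⟩ := mem_zpowers_iff.1 hie
  have hscal : ∀ w ∈ X, i w = w ^ k := by
    intro w hw
    obtain ⟨a, ha, c, hc, rfl⟩ := mem_sup.1 hw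
    rw [map_mul, P.scalar T (hcomm _ (Or.inl rfl)) hk.symm ha,
      P'.scalar T (hcomm _ (Or.inr rfl)) hk.symm (mem_sup_right hc), mul_zpow]
  have hfix : k % (r : ℤ) = 1 → False := fun h1 => hi1 (T.eq_one (hKR hiK) (hKX hiK) fun w hw => by
    rcases eq_or_ne w 1 with rfl | hw1
    · exact map_one i
    rw [hscal w hw, ← zpow_mod_orderOf, T.order_eq hw1, h1, zpow_one])
  have hk0 : k % (r : ℤ) ≠ 0 := fun h => hie1 (by
    rw [← hk, ← zpow_mod_orderOf, T.order_eq T.e_ne, h, zpow_zero])
  rcases hrq with ⟨hr2, -⟩ | ⟨hr3, -⟩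
  · subst hr2
    push_cast at hfix hk0
    exact hfix (by omega)
  subst hr3
  push_cast at hfix hk0
  have hk2 : k % 3 = 2 := by
    by_contra h
    exact hfix (by omega)
  have hX27 : Nat.card X = 27 := by rw [hX, T.card_sup hf', T.card_plane P.not_mem]
  have hKsign : K ≤ signOf.ker :=
    (closure_le _).2 (by rintro x (rfl | rfl); exacts [hs rfl, hs' rfl])
  refine signOf_ne_one T.exp hX27 (hKX hiK) (fun w hw => ?_) (hKsign hiK)
  rcases eq_or_ne w 1 with rfl | hw1
  · rw [map_one, inv_one]
  rw [hscal w hw, ← zpow_mod_orderOf, T.order_eq hw1]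
  push_cast
  rw [hk2, eq_inv_iff_mul_eq_one]
  calc w ^ (2 : ℤ) * w = w ^ (3 : ℕ) := by group
    _ = 1 := T.exp w

/-- A transvection commutes with `R` if it does so with the points of `R` fixed by a `p`-group. -/
theorem commute_of_coprime_action {p : ℕ} [hp : Fact p.Prime] (hpr : p ≠ r) (hpq : p ≠ q)
    {A : Subgroup (MulAut V)} (hexpA : ∀ a ∈ A, a ^ p = 1)
    (hnorm : ∀ a ∈ A, ∀ x ∈ R, a * x * a⁻¹ ∈ R)
    (hcent : ∀ m ∈ R, (∀ a ∈ A, a * m = m * a) → b * m = m * b) :
    ∀ y ∈ R, y * b = b * y := by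
  classical
  intro y₀ hy₀
  by_cases hall : ∀ y ∈ R, y e ∈ zpowers e
  · exact T.commute_of_mem hy₀ (hall _ hy₀)
  exfalso
  push Not at hall
  obtain ⟨y₁, hy₁, hy₁e⟩ := hall
  obtain ⟨hrq, ν, f, P, hs, -⟩ := T.exists_pair hy₁ hy₁e
  set W := zpowers e ⊔ zpowers f with hW
  have heW : e ∈ W := mem_sup_left (mem_zpowers e)
  have hye : ∀ y ∈ R, y e ∈ W := by
    intro y hy
    by_cases h : y e ∈ zpowers e
    · exact mem_sup_left h
    obtain ⟨-, ν', f', P', hs', hy'⟩ := T.exists_pair hy h
    rwa [hW, ← T.plane_unique hrq P hs P' hs']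
  have hinvW : ∀ y ∈ R, ∀ w ∈ W, y w ∈ W := by
    intro y hy w hw
    have hf : y (ν e) ∈ W := hye (y * ν) (mul_mem hy P.mem)
    rw [hW, ← P.span T] at hw
    obtain ⟨x, hx, z, hz, rfl⟩ := mem_sup.1 hw
    obtain ⟨i, rfl⟩ := mem_zpowers_iff.1 hx
    obtain ⟨j, rfl⟩ := mem_zpowers_iff.1 hz
    rw [map_mul, map_zpow, map_zpow]
    exact mul_mem (zpow_mem (hye y hy) i) (zpow_mem hf j)
  obtain ⟨cj, hcj⟩ : ∃ cj : MulAut V → MulAut V, ∀ a, cj a = a * ν * a⁻¹ := ⟨_, fun a => rfl⟩
  have hcjR : ∀ a ∈ A, cj a ∈ R := fun a ha => hcj a ▸ hnorm a ha ν P.mem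
  -- either a conjugate is equal to `ν`, or it fixes the plane
  have hdich : ∀ a ∈ A, cj a = ν ∨ cj a * ν = ν * cj a ∧ cj a e = e := by
    intro a ha
    set W' := W.map (a : MulAut V).toMonoidHom with hW'
    have hmem' : ∀ w, w ∈ W' ↔ a⁻¹ w ∈ W := fun w => by
      refine ⟨fun ⟨x, hx, h⟩ => ?_, fun h => ⟨a⁻¹ w, h, MulAut.apply_inv_self _ _ _⟩⟩
      rw [← h]
      exact (MulAut.inv_apply_self (M := V) a x).symm ▸ hx
    have hR' : ∀ y ∈ R, ∀ w ∈ W', y w ∈ W' := fun y hy w hw => by
      rw [hmem'] at hw ⊢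
      have hyR : a⁻¹ * y * a ∈ R := by simpa using hnorm a⁻¹ (inv_mem ha) y hy
      have := hinvW _ hyR _ hw
      rwa [MulAut.mul_apply, MulAut.mul_apply, MulAut.apply_inv_self] at this
    have hmv : cj a ∈ movingIn W' := fun v => by
      rw [hmem', hcj, map_div, MulAut.mul_apply, MulAut.mul_apply, MulAut.inv_apply_self]
      exact P.moving _
    by_cases hbot : W ⊓ W' = ⊥
    · right
      have h0 : ∀ {w}, w ∈ W → w ∈ W' → w = 1 := fun h h' =>
        (eq_bot_iff_forall _).1 hbot _ (mem_inf.2 ⟨h, h'⟩)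
      have hfix : ∀ w ∈ W, cj a w = w := fun w hw =>
        div_eq_one.1 (h0 (div_mem (hinvW _ (hcjR a ha) w hw) hw) (hmv w))
      have hfix' : ∀ w ∈ W', ν w = w := fun w hw =>
        div_eq_one.1 (h0 (P.moving w) (div_mem (hR' ν P.mem w hw) hw))
      refine ⟨?_, hfix e heW⟩
      have hcW : ∀ w ∈ W, (ν * cj a) w = (cj a * ν) w := fun w hw => by
        rw [MulAut.mul_apply, MulAut.mul_apply, hfix w hw, hfix _ (apply_mem_of_moving P.moving hw)]
      have hcW' : ∀ w ∈ W', (ν * cj a) w = (cj a * ν) w := fun w hw => by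
        rw [MulAut.mul_apply, MulAut.mul_apply, hfix' w hw, hfix' _ (hR' _ (hcjR a ha) w hw)]
      have hmX : (ν * cj a)⁻¹ * (cj a * ν) ∈ movingIn (W ⊔ W') :=
        mul_mem (inv_mem (mul_mem (fun v => mem_sup_left (P.moving v))
          (fun v => mem_sup_right (hmv v))))
          (mul_mem (fun v => mem_sup_right (hmv v)) (fun v => mem_sup_left (P.moving v)))
      refine (inv_mul_eq_one.1 (T.eq_one (mul_mem (inv_mem (mul_mem P.mem (hcjR a ha)))
        (mul_mem (hcjR a ha) P.mem)) hmX fun w hw => ?_)).symm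
      obtain ⟨x, hx, z, hz, rfl⟩ := mem_sup.1 hw
      rw [MulAut.mul_apply, map_mul, map_mul, ← hcW x hx, ← hcW' z hz, MulAut.inv_apply_self,
        MulAut.inv_apply_self]
    · left
      obtain ⟨x, hx, hx1⟩ : ∃ x ∈ W ⊓ W', x ≠ 1 := by
        by_contra h
        push Not at h
        exact hbot ((eq_bot_iff_forall _).2 h)
      have hWW' : W' = W := by
        refine (eq_of_le_of_card_ge ?_ ?_).symm
        · have hνx : ν x ∉ zpowers x := fun h => hx1 (P.free x hx.1 h)
          have hspan : zpowers x ⊔ zpowers (ν x) = W := eq_of_le_of_card_ge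
            (sup_le (zpowers_le.2 hx.1) (zpowers_le.2 (apply_mem_of_moving P.moving hx.1)))
            (by rw [hW, T.card_plane P.not_mem, T.card_sup hνx, Nat.card_zpowers, T.order_eq hx1])
          rw [← hspan]
          exact sup_le (zpowers_le.2 hx.2) (zpowers_le.2 (hR' ν P.mem x hx.2))
        · rw [hW']
          exact (card_map_of_injective (a : MulAut V).injective).le
      have haW : ∀ w ∈ W, a w ∈ W := fun w hw => by
        rw [← hWW']
        exact mem_map_of_mem (a : MulAut V).toMonoidHom hw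
      have hafix : ∀ w ∈ W, a w = w := by
        let S : Subgroup (MulAut V) :=
          { carrier := {g | ∀ w, g w ∈ W ↔ w ∈ W}
            one_mem' := fun w => Iff.rfl
            mul_mem' := fun {g h} hg hh w => (hg (h w)).trans (hh w)
            inv_mem' := fun {g} hg w => by rw [← hg (g⁻¹ w), MulAut.apply_inv_self] }
        have hS : zpowers a ≤ S := zpowers_le.2 fun w => by
          refine ⟨fun h => ?_, haW w⟩
          have := (hmem' (a w)).1 (hWW'.symm ▸ h)
          rwa [MulAut.inv_apply_self] at this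
        letI : MulAction (zpowers a) W :=
          { smul := fun g w => ⟨(g : MulAut V) w, (hS g.2 w).2 w.2⟩
            one_smul := fun w => Subtype.ext rfl
            mul_smul := fun g h w => Subtype.ext rfl }
        have hP : IsPGroup p (zpowers a) := by
          rintro ⟨g, hg⟩
          obtain ⟨i, rfl⟩ := mem_zpowers_iff.1 hg
          refine ⟨1, Subtype.ext ?_⟩
          show (a ^ i) ^ p ^ 1 = 1
          rw [pow_one, ← zpow_natCast, ← zpow_mul, mul_comm, zpow_mul, zpow_natCast, hexpA a ha,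
            one_zpow]
        let F : Subgroup V := W ⊓ fixedOf (zpowers a)
        have hF : Nat.card (MulAction.fixedPoints (zpowers a) W) = Nat.card F :=
          Nat.card_congr
            { toFun := fun w => ⟨(w.1 : V), w.1.2, fun g hg => congrArg Subtype.val (w.2 ⟨g, hg⟩)⟩
              invFun := fun w => ⟨⟨(w : V), w.2.1⟩, fun g => Subtype.ext (w.2.2 g g.2)⟩
              left_inv := fun w => rfl
              right_inv := fun w => rfl }
        have hmod := hP.card_modEq_card_fixedPoints W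
        rw [hF] at hmod
        have hWr : Nat.card W = r * r := by rw [hW, T.card_plane P.not_mem]
        have hdvd : Nat.card F ∣ r ^ 2 := by rw [pow_two, ← hWr]; exact card_dvd_of_le inf_le_left
        rw [hWr] at hmod
        have hp5 : 5 ≤ p := by
          rcases hrq with ⟨hr', hq'⟩ | ⟨hr', hq'⟩
          · exact hp.out.five_le_of_ne_two_of_ne_three (hr' ▸ hpr) (hq' ▸ hpq)
          · exact hp.out.five_le_of_ne_two_of_ne_three (hq' ▸ hpq) (hr' ▸ hpr)
        have hr23 : r = 2 ∨ r = 3 := hrq.imp And.left And.left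
        have hFr : Nat.card F = r * r := by
          obtain ⟨j, hj, hj'⟩ := (Nat.dvd_prime_pow hr.out).1 hdvd
          rw [hj', ← pow_two] at hmod ⊢
          have hp7 : ∀ m, p ∣ m → 0 < m → m < 5 → False := fun m hd hm0 hm5 => by
            have := Nat.le_of_dvd hm0 hd
            omega
          have hd := (Nat.modEq_iff_dvd' (Nat.pow_le_pow_right hr.out.pos hj)).1 hmod.symm
          rcases hr23 with h | h <;> rw [h] at hd ⊢ <;> interval_cases j <;> norm_num at hd ⊢
          · exact hp7 _ hd (by norm_num) (by norm_num)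
          · exact hp7 _ hd (by norm_num) (by norm_num)
          · rcases hp.out.dvd_mul.1 (show p ∣ 2 * 4 from hd) with h' | h' <;>
              exact hp7 _ h' (by norm_num) (by norm_num)
          · rcases hp.out.dvd_mul.1 (show p ∣ 2 * 3 from hd) with h' | h' <;>
              exact hp7 _ h' (by norm_num) (by norm_num)
        intro w hw
        have hFW : F = W := eq_of_le_of_card_ge inf_le_left (by rw [hFr, hWr])
        rw [← hFW] at hw
        exact hw.2 a (mem_zpowers a)
      have hmW : ν⁻¹ * cj a ∈ movingIn W := mul_mem (inv_mem P.moving) (hWW' ▸ hmv)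
      refine (inv_mul_eq_one.1 (T.eq_one (mul_mem (inv_mem P.mem) (hcjR a ha)) hmW fun w hw => ?_)).symm
      have hai : a⁻¹ w = w := by
        conv_lhs => rw [← hafix w hw]
        rw [MulAut.inv_apply_self]
      rw [hcj, MulAut.mul_apply, MulAut.mul_apply, MulAut.mul_apply, hai,
        hafix _ (apply_mem_of_moving P.moving hw), MulAut.inv_apply_self]
  -- the product over the orbit is fixed by `A` and does not commute with `b`
  haveI := Fintype.ofFinite (MulAut V)
  set N : Finset (MulAut V) := Finset.univ.filter fun x => ∃ a ∈ A, cj a = x with hN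
  have hNmem : ∀ x, x ∈ N ↔ ∃ a ∈ A, cj a = x := fun x => by simp [hN]
  have hcjmul : ∀ a c, cj (a * c) = a * cj c * a⁻¹ := fun a c => by
    simp only [hcj]
    group
  have hpair : {x | x ∈ N.1}.Pairwise Commute := by
    intro x hx z hz hxz
    obtain ⟨a, ha, rfl⟩ := (hNmem x).1 hx
    obtain ⟨c, hc, rfl⟩ := (hNmem z).1 hz
    rcases hdich (a⁻¹ * c) (mul_mem (inv_mem ha) hc) with h | ⟨h, -⟩
    · exact absurd (by rw [← mul_inv_cancel_left a c, hcjmul, h, hcj]) hxz
    · have h' := congrArg (fun t => a * t * a⁻¹) h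
      rw [← mul_inv_cancel_left a c, hcjmul]
      show _ = _
      calc cj a * (a * cj (a⁻¹ * c) * a⁻¹) = a * (ν * cj (a⁻¹ * c)) * a⁻¹ := by
            simp only [hcj]; group
        _ = a * (cj (a⁻¹ * c) * ν) * a⁻¹ := h'.symm
        _ = a * cj (a⁻¹ * c) * a⁻¹ * cj a := by simp only [hcj]; group
  set m := N.1.noncommProd hpair with hm
  have hmR : m ∈ R := multiset_noncommProd_mem _ _ _ fun x hx => by
    obtain ⟨a, ha, rfl⟩ := (hNmem x).1 hx
    exact hcjR a ha
  have hmA : ∀ a ∈ A, a * m = m * a := by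
    intro a ha
    rw [← mul_inv_eq_iff_eq_mul, ← MulAut.conj_apply, hm, Multiset.map_noncommProd]
    have hmap : N.1.map (MulAut.conj a) = N.1 := by
      have h1 : N.image (MulAut.conj a) = N := by
        refine Finset.eq_of_subset_of_card_le (fun x hx => ?_)
          (Finset.card_image_of_injective _ (MulAut.conj a).injective).ge
        obtain ⟨z, hz, rfl⟩ := Finset.mem_image.1 hx
        obtain ⟨c, hc, rfl⟩ := (hNmem z).1 hz
        exact (hNmem _).2 ⟨a * c, mul_mem ha hc, by rw [hcjmul, MulAut.conj_apply]⟩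
      conv_rhs => rw [← h1]
      exact (Finset.image_val_of_injOn (MulAut.conj a).injective.injOn).symm
    congr 1
  have hνN : ν ∈ N := (hNmem ν).2 ⟨1, one_mem A, by simp [hcj]⟩
  have hme : m e = ν e := by
    rw [hm, ← Multiset.mul_noncommProd_erase N.1 hνN, MulAut.mul_apply]
    have hrest : ∀ x ∈ N.1.erase ν, x e = e := by
      intro x hx
      obtain ⟨hxν, hxN⟩ := (N.nodup.mem_erase_iff).1 hx
      obtain ⟨a, ha, rfl⟩ := (hNmem x).1 hxN
      exact ((hdich a ha).resolve_left hxν).2
    let S : Subgroup (MulAut V) :=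
      { carrier := {g | g e = e}
        one_mem' := rfl
        mul_mem' := fun {g h} hg hh => (congrArg g hh).trans hg
        inv_mem' := fun {g} hg => by
          show g⁻¹ e = e
          conv_lhs => rw [← (hg : g e = e)]
          rw [MulAut.inv_apply_self] }
    have h1 : (_ : MulAut V) ∈ S := multiset_noncommProd_mem S (N.1.erase ν)
      (hpair.mono fun x hx => Multiset.mem_of_mem_erase hx) hrest
    rw [(h1 : _ = e)]
  have h := congrArg (fun g : MulAut V => g e) (hcent m hmR hmA)
  simp only [MulAut.mul_apply, T.b_e, hme] at h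
  obtain ⟨a, ha, z, hz, heq⟩ := mem_sup.1 (apply_mem_of_moving P.moving heW)
  obtain ⟨i, rfl⟩ := mem_zpowers_iff.1 ha
  obtain ⟨j, rfl⟩ := mem_zpowers_iff.1 hz
  rw [← heq, map_mul, map_zpow, map_zpow, T.b_e, P.b_apply, mul_zpow, ← mul_assoc, mul_eq_left] at h
  have hf1 : f ≠ 1 := fun h' => P.not_mem (h' ▸ one_mem _)
  have hfj : f ^ j = 1 := orderOf_dvd_iff_zpow_eq_one.1
    (T.order_eq hf1 ▸ T.order_eq T.e_ne ▸ orderOf_dvd_iff_zpow_eq_one.2 h)
  refine P.not_mem_centre T ?_
  rw [← heq, hfj, mul_one]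
  exact zpow_mem (mem_zpowers e) i

end IsTransvec

end Cfsg.Agent.Signalizer.SFT
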