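import Cfsg.Agent.Lib.Signalizer.SFT.Transvection
import Cfsg.Agent.Lib.Signalizer.SFT.Tools

/-!
A transvection normalising a coprime group either commutes with an element of it or gives a plane.
-/

set_option autoImplicit false
set_option linter.style.haveILetI false
set_option linter.unusedSectionVars false
set_option linter.unusedVariables false

universe u

namespace Cfsg.Agent.Signalizer.SFT

open Subgroup

variable {V : Type u} [CommGroup V]

/-- A transvection with centre `e` normalising the coprime group `R`. -/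
structure IsTransvec (r q : ℕ) (R : Subgroup (MulAut V)) (b : MulAut V) (e : V) : Prop where
  ne_q : q ≠ r
  exp : ∀ v : V, v ^ r = 1
  isP : IsPGroup q R
  pow : b ^ r = 1
  nontrivial : b ≠ 1
  conj : ∀ x ∈ R, b * x * b⁻¹ ∈ R
  e_ne : e ≠ 1
  line : ∀ v, b v / v ∈ zpowers e

/-- An element of `R` moving inside a plane through the centre, without fixed lines there. -/
structure IsPair (R : Subgroup (MulAut V)) (b : MulAut V) (e : V) (n : MulAut V) (f : V) : Prop where
  mem : n ∈ R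
  not_mem : f ∉ zpowers e
  b_apply : b f = f * e
  moving : n ∈ movingIn (zpowers e ⊔ zpowers f)
  free : ∀ w ∈ zpowers e ⊔ zpowers f, n w ∈ zpowers w → w = 1

theorem sq_add_one_ne_zero : ∀ z : ZMod 3, z * z + 1 ≠ 0 := by decide

theorem apply_mem_of_moving {W : Subgroup V} {g : MulAut V} (hg : g ∈ movingIn W) {w : V}
    (hw : w ∈ W) : g w ∈ W := by
  rw [← div_mul_cancel (g w) w]
  exact mul_mem (hg w) hw

theorem forall_mem_sup {e f : V} {g g' : MulAut V} (he : g e = g' e) (hf : g f = g' f) {w : V}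
    (hw : w ∈ zpowers e ⊔ zpowers f) : g w = g' w := by
  obtain ⟨y, hy, z, hz, rfl⟩ := mem_sup.1 hw
  obtain ⟨i, rfl⟩ := mem_zpowers_iff.1 hy
  obtain ⟨j, rfl⟩ := mem_zpowers_iff.1 hz
  simp only [map_mul, map_zpow, he, hf]

variable [Finite V] {r q : ℕ} [hr : Fact r.Prime] [hq : Fact q.Prime] {R : Subgroup (MulAut V)}
  {b : MulAut V} {e : V}

namespace IsTransvec

variable (T : IsTransvec r q R b e)
include T

theorem order_eq {w : V} (hw : w ≠ 1) : orderOf w = r := orderOf_eq_prime (T.exp w) hw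

theorem zpowers_eq {w x : V} (hx : x ∈ zpowers w) (hx1 : x ≠ 1) : zpowers x = zpowers w := by
  refine eq_of_le_of_card_ge (zpowers_le.2 hx) ?_
  rw [Nat.card_zpowers, Nat.card_zpowers, T.order_eq hx1]
  rcases eq_or_ne w 1 with rfl | hw
  · rw [zpowers_one_eq_bot, mem_bot] at hx
    exact absurd hx hx1
  · rw [T.order_eq hw]

theorem card_sup {U : Subgroup V} {f : V} (hf : f ∉ U) :
    Nat.card ↥(U ⊔ zpowers f) = Nat.card U * r := by
  have hf1 : f ≠ 1 := fun h => hf (h ▸ one_mem U)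
  rw [SolvBasic.card_sup_of_inf_eq_bot le_normalizer_of_normal, Nat.card_zpowers, T.order_eq hf1]
  refine (eq_bot_iff_forall _).2 fun x hx => ?_
  by_contra hx1
  exact hf (zpowers_le.2 hx.1 ((T.zpowers_eq hx.2 hx1).ge (mem_zpowers f)))

theorem card_plane {f : V} (hf : f ∉ zpowers e) :
    Nat.card ↥(zpowers e ⊔ zpowers f) = r * r := by
  rw [T.card_sup hf, Nat.card_zpowers, T.order_eq T.e_ne]

theorem plane_eq {f f' : V} (hf : f ∉ zpowers e) (hf' : f' ∉ zpowers e)
    (h : f' ∈ zpowers e ⊔ zpowers f) : zpowers e ⊔ zpowers f' = zpowers e ⊔ zpowers f :=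
  eq_of_le_of_card_ge (sup_le le_sup_left (zpowers_le.2 h))
    (by rw [T.card_plane hf, T.card_plane hf'])

theorem isP_zpowers : IsPGroup r (zpowers b) :=
  IsPGroup.of_card (n := 1) (by rw [Nat.card_zpowers, orderOf_eq_prime T.pow T.nontrivial, pow_one])

theorem b_e : b e = e := by
  have hle : zpowers b ≤ movingIn (zpowers e) := zpowers_le.2 T.line
  obtain ⟨w, hw, hw1, hfix⟩ := exists_fixed T.exp T.isP_zpowers
    (zpowers_ne_bot.2 T.e_ne) fun g hg w hw => apply_mem_of_moving (hle hg) hw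
  obtain ⟨i, hi⟩ := mem_zpowers_iff.1 ((T.zpowers_eq hw hw1).ge (mem_zpowers e))
  rw [← hi, map_zpow, hfix b (mem_zpowers b)]

theorem exists_pow {c : MulAut V} (hc : c ∈ R) : ∃ k : ℕ, c ^ q ^ k = 1 ∧ (q ^ k).Coprime r := by
  obtain ⟨k, hk⟩ := T.isP ⟨c, hc⟩
  exact ⟨k, congrArg Subtype.val hk, ((Nat.coprime_primes hq.out hr.out).2 T.ne_q).pow_left k⟩

theorem eq_self {c : MulAut V} (hc : c ∈ R) {v : V} (h : c (c v / v) = c v / v) : c v = v := by
  obtain ⟨k, hk, hco⟩ := T.exists_pow hc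
  exact eq_self_of_unipotent T.exp hk hco h

/-- An element of `R` moving only inside a subgroup it fixes is trivial. -/
theorem eq_one {c : MulAut V} (hc : c ∈ R) {W : Subgroup V} (hm : c ∈ movingIn W)
    (hfix : ∀ w ∈ W, c w = w) : c = 1 :=
  MulEquiv.ext fun v => T.eq_self hc (hfix _ (hm v))

theorem conj_symm {x : MulAut V} (hx : x ∈ R) : b⁻¹ * x * b ∈ R := by
  obtain ⟨m, hm⟩ : ∃ m, b⁻¹ = b ^ m := ⟨r - 1, by
    rw [inv_eq_of_mul_eq_one_right]
    rw [← pow_succ', Nat.sub_add_cancel hr.out.one_le, T.pow]⟩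
  have key : ∀ k : ℕ, b ^ k * x * (b ^ k)⁻¹ ∈ R := fun k => by
    induction k with
    | zero => simpa using hx
    | succ k ih =>
      rw [pow_succ', show b * b ^ k * x * (b * b ^ k)⁻¹ = b * (b ^ k * x * (b ^ k)⁻¹) * b⁻¹ by group]
      exact T.conj _ ih
  have h := key m
  rwa [← hm, inv_inv] at h

/-- An element of `R` fixing the centre commutes with the transvection. -/
theorem commute_of_mem {y : MulAut V} (hy : y ∈ R) (hye : y e ∈ zpowers e) : y * b = b * y := by
  set c := b * (y * b⁻¹ * y⁻¹) with hc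
  have hcR : c ∈ R := by
    rw [hc, show b * (y * b⁻¹ * y⁻¹) = b * y * b⁻¹ * y⁻¹ by group]
    exact mul_mem (T.conj y hy) (inv_mem hy)
  have hy1 : y e ≠ 1 := fun h => T.e_ne (y.injective (h.trans (map_one y).symm))
  have hyinv : y⁻¹ e ∈ zpowers e := by
    obtain ⟨j, hj⟩ := mem_zpowers_iff.1 ((T.zpowers_eq hye hy1).ge (mem_zpowers e))
    refine mem_zpowers_iff.2 ⟨j, ?_⟩
    conv_rhs => rw [← hj, map_zpow, MulAut.inv_apply_self]
  have hmap : ∀ w ∈ zpowers e, y w ∈ zpowers e := fun w hw => by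
    obtain ⟨i, rfl⟩ := mem_zpowers_iff.1 hw
    rw [map_zpow]
    exact zpow_mem hye i
  have hfixb : ∀ w ∈ zpowers e, b w = w := fun w hw => by
    obtain ⟨i, rfl⟩ := mem_zpowers_iff.1 hw
    rw [map_zpow, T.b_e]
  have hfix' : ∀ w ∈ zpowers e, (y * b⁻¹ * y⁻¹) w = w := fun w hw => by
    obtain ⟨i, rfl⟩ := mem_zpowers_iff.1 hw
    have h1 : b⁻¹ (y⁻¹ e) = y⁻¹ e := by
      conv_lhs => rw [← hfixb _ hyinv]
      rw [MulAut.inv_apply_self]
    simp only [MulAut.mul_apply, map_zpow, h1, MulAut.apply_inv_self]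
  have hm : c ∈ movingIn (zpowers e) := by
    refine mul_mem T.line fun v => ?_
    have h1 : b⁻¹ (y⁻¹ v) / y⁻¹ v ∈ zpowers e := (movingIn (zpowers e)).inv_mem T.line _
    have h2 := hmap _ h1
    rwa [map_div, MulAut.apply_inv_self] at h2
  have hc1 : c = 1 := T.eq_one hcR hm fun w hw => by
    rw [hc, MulAut.mul_apply, hfix' w hw, hfixb w hw]
  calc y * b = c⁻¹ * (b * y) := by rw [hc]; group
    _ = b * y := by rw [hc1, inv_one, one_mul]

/-- An element of `R` moving the centre gives a pair, with `r = 3` and `q = 2`. -/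
theorem exists_pair {y : MulAut V} (hy : y ∈ R) (hye : y e ∉ zpowers e) :
    (r = 2 ∧ q = 3 ∨ r = 3 ∧ q = 2) ∧
      ∃ n f, IsPair R b e n f ∧ (r = 3 → signOf n = 1) ∧ y e ∈ zpowers e ⊔ zpowers f := by
  set f₀ := y e with hf₀
  set b' := y * b * y⁻¹ with hb'
  have hf₀1 : f₀ ≠ 1 := fun h => hye (h ▸ one_mem _)
  have hb'line : b' ∈ movingIn (zpowers f₀) := fun v => by
    obtain ⟨i, hi⟩ := mem_zpowers_iff.1 (T.line (y⁻¹ v))
    refine mem_zpowers_iff.2 ⟨i, ?_⟩
    rw [hf₀, ← map_zpow, hi, map_div, MulAut.apply_inv_self]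
    rfl
  have hb'f₀ : b' f₀ = f₀ := by
    rw [hb', hf₀, MulAut.mul_apply, MulAut.mul_apply, MulAut.inv_apply_self, T.b_e]
  have hcR : b' * b⁻¹ ∈ R := by
    rw [hb', show y * b * y⁻¹ * b⁻¹ = y * (b * y⁻¹ * b⁻¹) by group]
    exact mul_mem hy (T.conj _ (inv_mem hy))
  have hbinv : b⁻¹ e = e := by
    conv_lhs => rw [← T.b_e]
    rw [MulAut.inv_apply_self]
  -- `b` moves `f₀`
  have hbf₀ : b f₀ / f₀ ≠ 1 := by
    intro h
    have hbf : b f₀ = f₀ := div_eq_one.1 h
    have hbf' : b⁻¹ f₀ = f₀ := by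
      conv_lhs => rw [← hbf]
      rw [MulAut.inv_apply_self]
    have hcf : (b' * b⁻¹) f₀ = f₀ := by rw [MulAut.mul_apply, hbf', hb'f₀]
    have hfixf : ∀ w ∈ zpowers f₀, (b' * b⁻¹) w = w := fun w hw => by
      obtain ⟨i, rfl⟩ := mem_zpowers_iff.1 hw
      rw [map_zpow, hcf]
    have hce : (b' * b⁻¹) e = e := T.eq_self hcR (hfixf _ (by
      rw [MulAut.mul_apply, hbinv]
      exact hb'line e))
    have hm : b' * b⁻¹ ∈ movingIn (zpowers e ⊔ zpowers f₀) :=
      mul_mem (fun v => mem_sup_right (hb'line v))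
        ((movingIn _).inv_mem fun v => mem_sup_left (T.line v))
    have hc1 : b' * b⁻¹ = 1 := T.eq_one hcR hm fun w hw => by
      rw [forall_mem_sup (g' := 1) (by rw [hce, MulAut.one_apply]) (by rw [hcf, MulAut.one_apply]) hw,
        MulAut.one_apply]
    have hbb : b' = b := mul_inv_eq_one.1 hc1
    refine T.nontrivial (MulEquiv.ext fun v => div_eq_one.1 ?_)
    by_contra hne
    have h1 := T.zpowers_eq (T.line v) hne
    have h2 := T.zpowers_eq (hbb ▸ hb'line v : b v / v ∈ zpowers f₀) hne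
    exact hye ((h2.symm.trans h1).le (mem_zpowers f₀))
  obtain ⟨j, hj⟩ := mem_zpowers_iff.1 ((T.zpowers_eq (T.line f₀) hbf₀).ge (mem_zpowers e))
  set f := f₀ ^ j with hf
  have hbf : b f = f * e := by
    have h1 : b f / f = e := by rw [hf, map_zpow, ← div_zpow, hj]
    rw [mul_comm, ← h1, div_mul_cancel]
  have hf1 : f ≠ 1 := fun h => T.e_ne (by rw [h, map_one, one_mul] at hbf; exact hbf.symm)
  have hzf : zpowers f = zpowers f₀ := T.zpowers_eq (mem_zpowers_iff.2 ⟨j, rfl⟩) hf1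
  have hfe : f ∉ zpowers e := fun h => by
    rw [← T.zpowers_eq h hf1, hzf] at hye
    exact hye (mem_zpowers _)
  have hef : e ∉ zpowers f := fun h => hfe ((T.zpowers_eq h T.e_ne).ge (mem_zpowers f))
  have hb'f : b' f = f := by rw [hf, map_zpow, hb'f₀]
  -- `b'` moves `e`
  have hb'e : b' e / e ≠ 1 := by
    intro h
    have h' : b' e = e := div_eq_one.1 h
    have hce : (b' * b⁻¹) e = e := by rw [MulAut.mul_apply, hbinv, h']
    have hbinvf : b⁻¹ f = f * e⁻¹ := by
      apply b.injective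
      rw [MulAut.apply_inv_self, map_mul, map_inv, hbf, T.b_e, mul_inv_cancel_right]
    have hcf : (b' * b⁻¹) f = f * e⁻¹ := by
      rw [MulAut.mul_apply, hbinvf, map_mul, map_inv, hb'f, h']
    have := T.eq_self hcR (v := f) (by rw [hcf, mul_div_cancel_left, map_inv, hce])
    rw [hcf, mul_eq_left, inv_eq_one] at this
    exact T.e_ne this
  set g := b' e / e with hg
  have hgf : g ∈ zpowers f := hzf ▸ hb'line e
  have hb'eg : b' e = e * g := by rw [hg, mul_div_cancel]
  set W := zpowers e ⊔ zpowers f with hW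
  have hb'pow : b' ^ r = 1 := by
    rw [hb', conj_pow, T.pow, mul_one, mul_inv_cancel]
  -- transitivity on the plane
  set K := Subgroup.closure ({b, b'} : Set (MulAut V)) with hK
  have hbK : b ∈ K := subset_closure (Or.inl rfl)
  have hb'K : b' ∈ K := subset_closure (Or.inr rfl)
  have hKW : K ≤ movingIn W := (closure_le _).2 (by
    rintro x (rfl | rfl)
    · exact fun v => mem_sup_left (T.line v)
    · exact fun v => mem_sup_right (hzf.symm ▸ hb'line v))
  have hshear_b : ∀ x ∈ zpowers f, x ≠ 1 → ∀ w ∈ zpowers e, ∀ u ∈ zpowers e,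
      ∃ k ∈ K, k (u * x) = u * w * x := by
    intro x hx hx1 w hw u hu
    obtain ⟨i, rfl⟩ := mem_zpowers_iff.1 hx
    have hei : e ^ i ≠ 1 := fun h => by
      obtain ⟨m, rfl⟩ : (r : ℤ) ∣ i := T.order_eq T.e_ne ▸ orderOf_dvd_iff_zpow_eq_one.2 h
      exact hx1 (orderOf_dvd_iff_zpow_eq_one.1 (T.order_eq hf1 ▸ dvd_mul_right _ _))
    obtain ⟨s, hs⟩ := mem_zpowers_iff.1
      ((T.zpowers_eq (mem_zpowers_iff.2 ⟨i, rfl⟩) hei).symm ▸ hw : w ∈ zpowers (e ^ i))
    have hpow : ∀ k : ℕ, (b ^ k) (u * f ^ i) = u * (e ^ i) ^ (k : ℤ) * f ^ i := by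
      intro k
      induction k with
      | zero => simp
      | succ k ih =>
        obtain ⟨m, rfl⟩ := mem_zpowers_iff.1 hu
        rw [pow_succ', MulAut.mul_apply, ih, map_mul, map_mul, map_zpow, map_zpow, map_zpow, map_zpow,
          T.b_e, hbf, mul_zpow, Nat.cast_succ, zpow_add_one]
        rw [mul_assoc, mul_assoc, mul_assoc]
        congr 1
        congr 1
        rw [mul_comm]
    refine ⟨b ^ (s % r).toNat, pow_mem hbK _, ?_⟩
    rw [hpow, Int.toNat_of_nonneg (Int.emod_nonneg s (by exact_mod_cast hr.out.ne_zero)), ← hs]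
    congr 2
    conv_rhs => rw [← zpow_mod_orderOf, T.order_eq hei]
  have hshear_b' : ∀ u ∈ zpowers e, u ≠ 1 → ∀ x ∈ zpowers f, ∀ z ∈ zpowers f,
      ∃ k ∈ K, k (u * z) = u * (z * x) := by
    intro u hu hu1 x hx z hz
    obtain ⟨i, rfl⟩ := mem_zpowers_iff.1 hu
    have hgi : g ^ i ≠ 1 := fun h => by
      obtain ⟨m, rfl⟩ : (r : ℤ) ∣ i := T.order_eq hb'e ▸ orderOf_dvd_iff_zpow_eq_one.2 h
      exact hu1 (orderOf_dvd_iff_zpow_eq_one.1 (T.order_eq T.e_ne ▸ dvd_mul_right _ _))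
    have hgi' : g ^ i ∈ zpowers f := zpow_mem hgf i
    obtain ⟨s, hs⟩ := mem_zpowers_iff.1
      ((T.zpowers_eq hgi' hgi).symm ▸ hx : x ∈ zpowers (g ^ i))
    obtain ⟨l, hl⟩ := mem_zpowers_iff.1 hgf
    have hb'g : b' g = g := by rw [← hl, map_zpow, hb'f]
    have hb'z : b' z = z := by
      obtain ⟨m, rfl⟩ := mem_zpowers_iff.1 hz
      rw [map_zpow, hb'f]
    have hpow : ∀ k : ℕ, (b' ^ k) (e ^ i * z) = e ^ i * (z * (g ^ i) ^ (k : ℤ)) := by
      intro k
      induction k with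
      | zero => simp
      | succ k ih =>
        rw [pow_succ', MulAut.mul_apply, ih, map_mul, map_mul, map_zpow, map_zpow, map_zpow, hb'eg, hb'g,
          hb'z, mul_zpow, Nat.cast_succ, zpow_add_one, mul_assoc]
        congr 1
        rw [mul_comm (g ^ i), mul_assoc]
    refine ⟨b' ^ (s % r).toNat, pow_mem hb'K _, ?_⟩
    rw [hpow, Int.toNat_of_nonneg (Int.emod_nonneg s (by exact_mod_cast hr.out.ne_zero)), ← hs]
    congr 2
    conv_rhs => rw [← zpow_mod_orderOf, T.order_eq hgi]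
  have htrans : ∀ v ∈ W, v ≠ 1 → v ∈ MulAction.orbit K e := by
    have horb : ∀ v, (∃ k ∈ K, k e = v) → v ∈ MulAction.orbit K e := fun v ⟨k, hk, h⟩ => ⟨⟨k, hk⟩, h⟩
    have hgen : ∀ v ∈ W, v ∉ zpowers e → ∃ k ∈ K, k e = v := by
      intro v hv hve
      obtain ⟨u, hu, x, hx, rfl⟩ := mem_sup.1 hv
      have hx1 : x ≠ 1 := fun h => hve (by rw [h, mul_one]; exact hu)
      obtain ⟨k₁, hk₁, h₁⟩ := hshear_b' e (mem_zpowers e) T.e_ne x hx 1 (one_mem _)
      obtain ⟨k₂, hk₂, h₂⟩ := hshear_b x hx hx1 (e⁻¹ * u) (mul_mem (inv_mem (mem_zpowers e)) hu) e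
        (mem_zpowers e)
      refine ⟨k₂ * k₁, mul_mem hk₂ hk₁, ?_⟩
      rw [mul_one, one_mul] at h₁
      rw [MulAut.mul_apply, h₁, h₂, mul_inv_cancel_left]
    intro v hv hv1
    apply horb
    by_cases hve : v ∈ zpowers e
    · have hnot : v * f ∉ zpowers e := fun h => hfe (by simpa using mul_mem (inv_mem hve) h)
      obtain ⟨k₁, hk₁, h₁⟩ := hgen (v * f) (mul_mem hv (mem_sup_right (mem_zpowers f))) hnot
      obtain ⟨k₂, hk₂, h₂⟩ := hshear_b' v hve hv1 f⁻¹ (inv_mem (mem_zpowers f)) f (mem_zpowers f)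
      exact ⟨k₂ * k₁, mul_mem hk₂ hk₁, by rw [MulAut.mul_apply, h₁, h₂, mul_inv_cancel, mul_one]⟩
    · exact hgen v hv hve
  have horbit : MulAction.orbit K e = ((W : Set V) \ {1}) := by
    refine Set.Subset.antisymm ?_ fun v hv => htrans v hv.1 hv.2
    rintro _ ⟨⟨k, hk⟩, rfl⟩
    exact ⟨apply_mem_of_moving (hKW hk) (mem_sup_left (mem_zpowers e)),
      fun h => T.e_ne (k.injective ((Set.mem_singleton_iff.1 h).trans (map_one k).symm))⟩
  have hRb : zpowers b ≤ normalizer (R : Set (MulAut V)) := zpowers_le.2 (mem_normalizer_iff.2 fun x =>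
    ⟨T.conj x, fun h => by simpa [mul_assoc] using T.conj_symm h⟩)
  have hdisj : R ⊓ zpowers b = ⊥ := disjoint_iff.1 (Subgroup.disjoint_of_coprime_natCard
    (IsPGroup.coprime_card_of_ne q r T.ne_q _ _ T.isP T.isP_zpowers))
  have hKle : K ≤ R ⊔ zpowers b := (closure_le _).2 (by
    rintro x (rfl | rfl)
    · exact mem_sup_right (mem_zpowers _)
    · exact mul_mem (mul_mem (mem_sup_left hy) (mem_sup_right (mem_zpowers b))) (mem_sup_left (inv_mem hy)))
  obtain ⟨m, hm⟩ := T.isP.exists_card_eq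
  have hdvd : r * r - 1 ∣ q ^ m := by
    have h1 : Nat.card (MulAction.orbit K e) ∣ Nat.card K :=
      (Nat.card_congr (MulAction.orbitEquivQuotientStabilizer K e)).symm ▸
        (MulAction.stabilizer K e).index_dvd_card
    have h2 : Nat.card (MulAction.orbit K e) = r * r - 1 := by
      rw [horbit, Nat.card_coe_set_eq, Set.ncard_sdiff_singleton_of_mem (one_mem W),
        ← Nat.card_coe_set_eq]
      exact congrArg (· - 1) (T.card_plane hfe)
    have h3 : Nat.card ↥(R ⊔ zpowers b) = q ^ m * r := by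
      rw [SolvBasic.card_sup_of_inf_eq_bot hRb hdisj, hm, Nat.card_zpowers,
        orderOf_eq_prime T.pow T.nontrivial]
    rw [h2] at h1
    have h4 := h1.trans (h3 ▸ card_dvd_of_le hKle)
    refine Nat.Coprime.dvd_of_dvd_mul_right ?_ h4
    rw [Nat.coprime_comm, hr.out.coprime_iff_not_dvd]
    intro hd
    have hrr : 1 ≤ r * r := Nat.one_le_iff_ne_zero.2 (mul_ne_zero hr.out.ne_zero hr.out.ne_zero)
    have h5 := Nat.dvd_sub (dvd_mul_right r r) hd
    rw [Nat.sub_sub_self hrr] at h5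
    exact hr.out.not_dvd_one h5
  rcases eq_or_ne r 2 with h2 | hodd2
  · -- characteristic two
    subst h2
    have hq3 : q = 3 :=
      ((Nat.prime_dvd_prime_iff_eq Nat.prime_three hq.out).1
        (Nat.prime_three.dvd_of_dvd_pow hdvd)).symm
    have htwo : ∀ w u : V, u ∈ zpowers w → u = 1 ∨ u = w := fun w u hu => by
      obtain ⟨k, rfl⟩ := mem_zpowers_iff.1 hu
      rcases eq_or_ne w 1 with rfl | hw1
      · exact Or.inl (one_zpow k)
      rw [← zpow_mod_orderOf, T.order_eq hw1]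
      rcases Int.emod_two_eq_zero_or_one k with hk | hk <;> push_cast <;> rw [hk]
      · exact Or.inl (zpow_zero w)
      · exact Or.inr (zpow_one w)
    have hsq : ∀ v : V, v * v = 1 := fun v => by rw [← pow_two, T.exp]
    have hgf' : g = f := (htwo f g hgf).resolve_left hb'e
    set c := b' * b⁻¹ with hc
    have hbinvf : b⁻¹ f = f * e := by
      apply b.injective
      rw [MulAut.apply_inv_self, map_mul, hbf, T.b_e, mul_assoc, hsq, mul_one]
    have hce : c e = e * f := by rw [hc, MulAut.mul_apply, hbinv, hb'eg, hgf']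
    have hcf : c f = e := by
      rw [hc, MulAut.mul_apply, hbinvf, map_mul, hb'f, hb'eg, hgf', mul_comm e f, ← mul_assoc, hsq,
        one_mul]
    refine ⟨Or.inl ⟨rfl, hq3⟩, c, f, ⟨hcR, hfe, hbf, mul_mem (hKW hb'K) (inv_mem (hKW hbK)), ?_⟩,
      fun h => absurd h (by norm_num), mem_sup_right (hzf.symm ▸ mem_zpowers f₀)⟩
    intro w hw hcw
    by_contra hw1
    have hfix : c w = w := (htwo w _ hcw).resolve_left fun h =>
      hw1 (c.injective (h.trans (map_one c).symm))
    obtain ⟨a, ha, z, hz, rfl⟩ := mem_sup.1 hw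
    rcases htwo e a ha with ha1 | ha1 <;> rcases htwo f z hz with hz1 | hz1 <;>
      rw [ha1, hz1] at hw1 hfix
    · exact hw1 (one_mul 1)
    · rw [one_mul, hcf] at hfix
      exact hef (hfix ▸ mem_zpowers f)
    · rw [mul_one, hce, mul_eq_left] at hfix
      exact hf1 hfix
    · rw [map_mul, hce, hcf, mul_comm e f, mul_assoc, hsq, mul_one, left_eq_mul] at hfix
      exact T.e_ne hfix
  -- otherwise `r = 3` and `q = 2`
  have hr3le : 3 ≤ r := lt_of_le_of_ne hr.out.two_le (Ne.symm hodd2)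
  have hq2 : q = 2 := by
    have heven : 2 ∣ r * r - 1 := by
      have hodd : Odd (r * r) := (hr.out.odd_of_ne_two hodd2).mul (hr.out.odd_of_ne_two hodd2)
      obtain ⟨k, hk⟩ := hodd
      exact ⟨k, by omega⟩
    exact ((Nat.prime_dvd_prime_iff_eq Nat.prime_two hq.out).1
      (Nat.prime_two.dvd_of_dvd_pow (heven.trans hdvd))).symm
  subst hq2
  have hr3 : r = 3 := by
    have hfac : r * r - 1 = (r - 1) * (r + 1) := by
      have := Nat.sq_sub_sq r 1
      simp only [pow_two, mul_one] at this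
      rw [this, mul_comm]
    rw [hfac] at hdvd
    obtain ⟨a, -, ha⟩ := (Nat.dvd_prime_pow Nat.prime_two).1 ((dvd_mul_right _ _).trans hdvd)
    obtain ⟨c, -, hc⟩ := (Nat.dvd_prime_pow Nat.prime_two).1 ((dvd_mul_left _ _).trans hdvd)
    rcases a with _ | _ | a
    · omega
    · omega
    · rcases c with _ | _ | c
      · omega
      · omega
      · rw [pow_succ, pow_succ] at ha hc
        omega
  subst hr3
  refine ⟨Or.inr ⟨rfl, rfl⟩, ?_⟩
  have hgord : g = f ∨ g = f⁻¹ := by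
    obtain ⟨d, hd⟩ := mem_zpowers_iff.1 hgf
    rw [← zpow_mod_orderOf, T.order_eq hf1] at hd
    have h0 : 0 ≤ d % (3 : ℕ) := Int.emod_nonneg _ (by norm_num)
    have h3 : d % (3 : ℕ) < (3 : ℕ) := Int.emod_lt_of_pos _ (by norm_num)
    push_cast at h0 h3 hd
    rcases (by omega : d % 3 = 0 ∨ d % 3 = 1 ∨ d % 3 = 2) with hh | hh | hh <;> rw [hh] at hd
    · exact absurd (hd.symm.trans (zpow_zero f)) hb'e
    · exact Or.inl (hd.symm.trans (zpow_one f))
    · right
      rw [← hd, eq_inv_iff_mul_eq_one]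
      calc f ^ (2 : ℤ) * f = f ^ (3 : ℕ) := by group
        _ = 1 := T.exp f
  rcases hgord with hgf' | hgf'
  · -- the even case would give an element of order six in `R`
    exfalso
    set c := b' * b⁻¹ with hc
    have hbinvf : b⁻¹ f = f * e⁻¹ := by
      apply b.injective
      rw [MulAut.apply_inv_self, map_mul, map_inv, hbf, T.b_e, mul_inv_cancel_right]
    have hce : c e = e * f := by rw [hc, MulAut.mul_apply, hbinv, hb'eg, hgf']
    have hcf : c f = e⁻¹ := by
      rw [hc, MulAut.mul_apply, hbinvf, map_mul, map_inv, hb'f, hb'eg, hgf', mul_inv_rev,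
        mul_inv_cancel_left]
    have h2e : (c ^ 2) e = f := by
      rw [pow_two, MulAut.mul_apply, hce, map_mul, hce, hcf, mul_comm e f, mul_inv_cancel_right]
    have h2f : (c ^ 2) f = (e * f)⁻¹ := by rw [pow_two, MulAut.mul_apply, hcf, map_inv, hce]
    have h6 : (c ^ 2) ^ 3 • e = e := by
      show ((c ^ 2) ^ 3) e = e
      rw [pow_succ, pow_two, MulAut.mul_apply, MulAut.mul_apply, h2e, h2f, map_inv, map_mul, h2e, h2f,
        mul_inv_rev e f, mul_inv_cancel_left, inv_inv]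
    obtain ⟨k, hk, hco⟩ := T.exists_pow (pow_mem hcR 2)
    have hk' : (c ^ 2) ^ 2 ^ k • e = e := by
      show ((c ^ 2) ^ 2 ^ k) e = e
      rw [hk, MulAut.one_apply]
    have hper := Nat.dvd_gcd (MulAction.pow_smul_eq_iff_period_dvd.1 h6)
      (MulAction.pow_smul_eq_iff_period_dvd.1 hk')
    rw [Nat.Coprime.symm hco] at hper
    have h1 : (c ^ 2) e = e := by
      have := (MulAction.pow_smul_eq_iff_period_dvd (m := c ^ 2) (a := e) (n := 1)).2 hper
      simpa using this
    exact hfe ((h2e.symm.trans h1) ▸ mem_zpowers e)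
  have hne : (b * b' * b) e = f⁻¹ := by
    rw [MulAut.mul_apply, MulAut.mul_apply, T.b_e, hb'eg, hgf', map_mul, map_inv, T.b_e, hbf,
      mul_inv_rev, mul_inv_cancel_left]
  have hnf : (b * b' * b) f = e := by
    rw [MulAut.mul_apply, MulAut.mul_apply, hbf, map_mul, hb'f, hb'eg, hgf', mul_comm e f⁻¹,
      mul_inv_cancel_left, T.b_e]
  refine ⟨b * b' * b, f, ⟨?_, hfe, hbf, mul_mem (mul_mem (hKW hbK) (hKW hb'K)) (hKW hbK), ?_⟩,
    fun _ => ?_, mem_sup_right (hzf.symm ▸ mem_zpowers f₀)⟩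
  · have hb3 : b * (b * b) = 1 := by rw [← T.pow, pow_succ', pow_two]
    rw [hb', show b * (y * b * y⁻¹) * b =
      (b * y * b⁻¹) * (b * (b * y⁻¹ * b⁻¹) * b⁻¹) * (b * (b * b)) by group, hb3, mul_one]
    exact mul_mem (T.conj y hy) (T.conj _ (T.conj _ (inv_mem hy)))
  · intro x hx hmem
    by_contra hx1
    obtain ⟨k, hk⟩ := mem_zpowers_iff.1 hmem
    have hsq : (b * b' * b) ((b * b' * b) x) = x⁻¹ := by
      obtain ⟨a, ha, z, hz, rfl⟩ := mem_sup.1 hx
      obtain ⟨i, rfl⟩ := mem_zpowers_iff.1 ha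
      obtain ⟨j, rfl⟩ := mem_zpowers_iff.1 hz
      simp only [map_mul, map_zpow, map_inv, hne, hnf, mul_inv, inv_zpow]
    rw [← hk, map_zpow, ← hk, ← zpow_mul] at hsq
    have h3' : x ^ (k * k + 1) = 1 := by rw [zpow_add_one, hsq, inv_mul_cancel]
    have h4 := orderOf_dvd_iff_zpow_eq_one.2 h3'
    rw [T.order_eq hx1] at h4
    rw [← ZMod.intCast_zmod_eq_zero_iff_dvd] at h4
    push_cast at h4
    exact sq_add_one_ne_zero _ h4
  · rw [map_mul, map_mul, signOf_eq_one (by norm_num) T.pow, signOf_eq_one (by norm_num) hb'pow]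
    simp

end IsTransvec

end Cfsg.Agent.Signalizer.SFT
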