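import Cfsg.Agent.Lib.Signalizer.SFT.Colour

/-!
A minimal counterexample has no two primes.
-/

set_option autoImplicit false
set_option linter.style.haveILetI false
set_option linter.unusedSectionVars false
set_option linter.unusedVariables false

open scoped Pointwise commutatorElement

universe u

namespace Cfsg.Agent.Signalizer.SFT

open Subgroup
open Cfsg (pCoreOf fittingOf)
open Cfsg.Agent.OddOrder

variable {G : Type u} [Group G] [Finite G]
variable {p : ℕ} [hp : Fact p.Prime] {A : Subgroup G} {θ : G → Subgroup G}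

namespace Min2

variable (M₀ : Min2 p A θ)
include M₀

/-- A point of an `x`-maximum centralises what of its core lies in a maximum for the other prime. -/
theorem core_inf_le_centralizer {x y : ℕ} (hall : ∀ t ∈ primes A θ, t = x ∨ t = y) (hx2 : x ≠ 2)
    (hxy : x ≠ y) {a : G} (ha : a ∈ A) (ha1 : a ≠ 1) {H X : Subgroup G} (hH : IsMax p A θ H)
    (haH : θ a ≤ H) (hxH : x ∈ fitPrimes H) (hX : IsMax p A θ X) (hyX : y ∈ fitPrimes X)
    (hxX : x ∉ fitPrimes X) : pCoreOf x H ⊓ X ≤ centralizer ({a} : Set G) := by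
  haveI := Fact.mk hxH.1
  haveI := Fact.mk hyX.1
  set K := pCoreOf x H with hK
  set P := K ⊓ X with hP
  have hPm : P ∈ Cfsg.signalizerFamily p A θ :=
    M₀.sub_mem (M₀.pCoreOf_mem hH.mem x) (family_normalizer hX.mem)
  have hPp : IsPGroup x P := (FitOf.isPGroup_pCoreOf x H).to_le inf_le_left
  have hTm := M₀.pCoreOf_mem hX.mem y
  have hPT : P ≤ normalizer (pCoreOf y X : Set G) :=
    inf_le_right.trans (FitOf.le_normalizer_pCoreOf y X)
  have hc : ⁅P, zpowers a⁆ ≤ centralizer (pCoreOf y X : Set G) := by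
    refine hh (Ne.symm hxy) (M₀.ne_p hX.mem hyX) (M₀.ne_p hH.mem hxH) (M₀.orderOf_eq ha ha1) hPp
      (Or.inl hx2) (family_normalizer hPm ha) (FitOf.isPGroup_pCoreOf y X) (family_normalizer hTm ha) hPT ?_
    rw [Subgroup.le_centralizer_iff]
    exact le_centralizer_of_normalizes (W := pCoreOf y X) inf_le_left inf_le_left hPT
      (((hTm.2.2.2 a ha ha1).trans haH).trans (FitOf.le_normalizer_pCoreOf x H))
      (coprime_of_ne hyX.1 hxH.1 (Ne.symm hxy) (FitOf.isPGroup_pCoreOf y X) (FitOf.isPGroup_pCoreOf x H))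
  have hle : ⁅P, zpowers a⁆ ≤ P :=
    CoprimeAct.commutator_le_left ((zpowers_le.2 ha).trans (family_normalizer hPm))
  have h0 : ⁅P, zpowers a⁆ = ⊥ := by
    refine le_bot_iff.1 (le_trans ?_ (pCoreOf_eq_bot hxH.1 hxX).le)
    refine M₀.mem_pCoreOf_of_centralizes hX.mem (hle.trans inf_le_right) hxH.1 (hPp.to_le hle)
      fun s hs => ?_
    by_cases hsX : s ∈ fitPrimes X
    · rcases M₀.fit_cases hall hX.mem hsX with rfl | rfl
      · exact absurd hsX hxX
      · exact hc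
    · rw [pCoreOf_eq_bot hs hsX]
      exact le_centralizer_bot
  rw [← centralizer_zpowers_eq, ← commutator_eq_bot_iff_le_centralizer]
  exact h0

/-- A point centralising the core of a maximum has it as its value. -/
theorem theta_eq_of_core {x y : ℕ} (hall : ∀ t ∈ primes A θ, t = x ∨ t = y) {H : Subgroup G}
    (hH : IsMax p A θ H) (hyH : y ∉ fitPrimes H) {e : G} (he : e ∈ A) (he1 : e ≠ 1)
    (hc : e ∈ centralizer (pCoreOf x H : Set G)) : θ e = H := by
  haveI := hH.mem.1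
  have hF := M₀.fittingOf_le_core hall hH.mem hyH
  have heF : e ∈ centralizer (fittingOf H : Set G) := centralizer_le hF hc
  refine hH.max _ (M₀.theta_mem he he1) (M₀.le_theta hH.mem he he1 ?_)
  rw [← centralizer_zpowers_eq, ← commutator_eq_bot_iff_le_centralizer,
    ← M₀.commutator_idem hH.mem he, commutator_eq_bot_iff_le_centralizer]
  refine (le_inf (CoprimeAct.commutator_le_left ((zpowers_le.2 he).trans (family_normalizer hH.mem)))
    (commutator_le_centralizer_three heF (FitOf.le_normalizer_fittingOf H))).trans ?_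
  exact (FitOf.inf_centralizer_fittingOf_le H).trans
    (Subgroup.le_centralizer_iff.1 (zpowers_le.2 heF))

theorem qOf_centralized {x y : ℕ} (hall : ∀ t ∈ primes A θ, t = x ∨ t = y) {H : Subgroup G}
    (hH : IsMax p A θ H) (hxH : x ∈ fitPrimes H) (hyH : y ∉ fitPrimes H) {a : G} (ha : a ∈ A)
    (ha1 : a ≠ 1) (haH : θ a ≤ H) (hc : pCoreOf x H ≤ centralizer ({a} : Set G)) :
    a ∈ centralizer (qOf p A θ x : Set G) :=
  mem_centralizer_of_le ((M₀.qOf_le_theta hH ha ha1 haH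
    (centralizer_le (M₀.fittingOf_le_core hall hH.mem hyH) (mem_centralizer_of_le hc)) hxH).trans
      (M₀.theta_le_centralizer ha ha1))

/-- If every plane has a point seeing `q`, the points seeing `r` are collinear. -/
theorem exists_collinear {q r : ℕ} (hr2 : r ≠ 2) (hrq : r ≠ q)
    (hall : ∀ t ∈ primes A θ, t = r ∨ t = q)
    (hnomix : ∀ M, IsMax p A θ M → ¬ (r ∈ fitPrimes M ∧ q ∈ fitPrimes M))
    (hno : ∀ E, IsPlane p A E → ∃ e ∈ E, e ≠ 1 ∧ ∃ X, IsMax p A θ X ∧ θ e ≤ X ∧ q ∈ fitPrimes X) :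
    ∃ d ∈ A, d ≠ 1 ∧ ∀ e ∈ A, e ≠ 1 → ∀ H, IsMax p A θ H → θ e ≤ H → r ∈ fitPrimes H →
      e ∈ zpowers d := by
  by_cases hnone : ∀ e ∈ A, e ≠ 1 → ∀ H, IsMax p A θ H → θ e ≤ H → r ∉ fitPrimes H
  · obtain ⟨d, hd, hd1⟩ := M₀.exists_point
    exact ⟨d, hd, hd1, fun e he he1 H hH heH hr => absurd hr (hnone e he he1 H hH heH)⟩
  simp only [not_forall, not_not] at hnone
  obtain ⟨a, ha, ha1, Ha, hHa, haHa, hrHa⟩ := hnone
  refine ⟨a, ha, ha1, fun b hb hb1 Hb hHb hbHb hrHb => Classical.byContradiction fun hba => ?_⟩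
  have key : ∀ c ∈ A, c ≠ 1 → ∀ H, IsMax p A θ H → θ c ≤ H → r ∈ fitPrimes H →
      c ∈ centralizer (qOf p A θ r : Set G) := by
    intro c hc hc1 H hH hcH hrH
    refine M₀.qOf_centralized hall hH hrH (fun h => hnomix H hH ⟨hrH, h⟩) hc hc1 hcH ?_
    have hKm := M₀.pCoreOf_mem hH.mem r
    refine M₀.le_of_planes (family_normalizer hKm) hKm.2.1 fun E hE => ?_
    obtain ⟨e, he, he1, X, hX, heX, hqX⟩ := hno E hE
    refine le_trans (le_inf inf_le_left ?_) (M₀.core_inf_le_centralizer hall hr2 hrq hc hc1 hH hcH hrH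
      hX hqX fun h => hnomix X hX ⟨h, hqX⟩)
    exact ((inf_le_inf_left _ (centralizer_le (Set.singleton_subset_iff.2 he))).trans
      (hKm.2.2.2 e (hE.1 he) he1)).trans heX
  set D := zpowers a ⊔ zpowers b with hD
  have hDp : IsPlane p A D := M₀.isPlane_sup ha ha1 hb hba
  have hDR : D ≤ centralizer (qOf p A θ r : Set G) := sup_le
    (zpowers_le.2 (key a ha ha1 Ha hHa haHa hrHa)) (zpowers_le.2 (key b hb hb1 Hb hHb hbHb hrHb))
  obtain ⟨e, he, he1, X, hX, heX, hqX⟩ := hno D hDp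
  have hθe : θ e = Ha := M₀.theta_eq_of_core hall hHa (fun h => hnomix Ha hHa ⟨hrHa, h⟩) (hDp.1 he) he1
    (centralizer_le (M₀.max_core_le_qOf hrHa.1 hHa) (hDR he))
  have hXH : X = Ha := hHa.max X hX.mem (hθe ▸ heX)
  exact hnomix X hX ⟨hXH ▸ hrHa, hqX⟩

end Min2

namespace Colour

variable {x y : ℕ} (C₀ : Colour p A θ x y)
include C₀

theorem xKernel_fixed_of_bad {b : G} (hb : b ∈ A) (hb1 : b ≠ 1) (hbad : ¬ Good p A θ x b) :
    xKernel p A θ x ⊓ centralizer ({b} : Set G) = ⊥ := by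
  obtain ⟨X, hX, hbX⟩ := C₀.exists_maxOf hb hb1
  exact C₀.xKernel_inf_eq_bot hb hb1 hX hbX
    (Classical.byContradiction fun h => hbad ⟨X, hX, hbX, C₀.fit hX h⟩)

/-- A plane with two good points normalises the kernel, for an odd prime. -/
theorem two_good_normalizes (hx2 : x ≠ 2) {E : Subgroup G} (hE : IsPlane p A E) {g h : G}
    (hg : g ∈ E) (hg1 : g ≠ 1) (hh : h ∈ E) (hhg : h ∉ zpowers g) (hgood : Good p A θ x g)
    (hgood' : Good p A θ x h) :
    Cfsg.signalizerInf E θ ≤ normalizer (xKernel p A θ x : Set G) := by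
  classical
  haveI := Fact.mk C₀.x_prime
  set J := xKernel p A θ x with hJ
  by_cases hbad : ∃ b ∈ E, b ≠ 1 ∧ J ⊓ centralizer ({b} : Set G) = ⊥
  swap
  · exact C₀.plane_normalizes hE fun e he he1 H hH heH hyH =>
      hbad ⟨e, he, he1, C₀.xKernel_inf_eq_bot (hE.1 he) he1 hH heH hyH⟩
  obtain ⟨b, hb, hb1, hbad⟩ := hbad
  let I := {i : G × Subgroup G // i.1 ∈ E ∧ i.1 ≠ 1 ∧ IsMax p A θ i.2 ∧ θ i.1 ≤ i.2 ∧ x ∈ fitPrimes i.2}
  set P := ⨅ i : I, pCoreOf x i.1.2 with hPdef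
  obtain ⟨H₀, hH₀, hgH₀, hxH₀⟩ := hgood
  have hP0 : P ≤ pCoreOf x H₀ :=
    iInf_le (fun i : I => pCoreOf x i.1.2) ⟨(g, H₀), hg, hg1, hH₀, hgH₀, hxH₀⟩
  have hPA : A ≤ normalizer (P : Set G) := le_normalizer_iInf fun i =>
    (family_normalizer i.2.2.2.1.mem).trans (normalizer_le_normalizer_pCoreOf x _)
  have hθE : Cfsg.signalizerInf E θ ≤ normalizer (P : Set G) := le_normalizer_iInf fun i =>
    ((C₀.mem_inf hE i.2.1 i.2.2.1).trans i.2.2.2.2.1).trans (FitOf.le_normalizer_pCoreOf x _)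
  have hJP : J ≤ P := le_iInf fun i => C₀.xKernel_le_core i.2.2.2.1 i.2.2.2.2.2
  have hPQ : P ≤ qOf p A θ x := hP0.trans (C₀.max_core_le_qOf C₀.x_prime hH₀)
  have hPE : ⁅P, E⁆ ≤ P := CoprimeAct.commutator_le_left (hE.1.trans hPA)
  suffices heq : ⁅P, E⁆ = J by
    rw [← heq]
    exact le_normalizer_commutator hθE
      ((signalizerInf_le_centralizer C₀.fn.1 hE.1).trans (centralizer_le_normalizer _))
  refine le_antisymm (C₀.le_xKernel (hPE.trans hPQ) fun L R hL hQL hy hyp hR => ?_) ?_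
  · haveI := Fact.mk hy
    have hRm := C₀.layer_mem hL.mem hR
    have hPL : P ≤ normalizer (pCoreOf x L : Set G) :=
      (hPQ.trans hQL).trans (FitOf.le_normalizer_pCoreOf x L)
    have hTA : A ≤ normalizer (pCoreOf x L : Set G) :=
      (family_normalizer hL.mem).trans (normalizer_le_normalizer_pCoreOf x L)
    have hPR : P ≤ normalizer (R : Set G) := (hPQ.trans hQL).trans (le_normalizer.trans hR.inv)
    have hD : ∀ e ∈ E, e ≠ 1 → Good p A θ x e →
        ⁅P, zpowers e⁆ ≤ modCentralizer (pCoreOf x L) R := by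
      rintro e he he1 ⟨H, hH, heH, hxH⟩
      have hfix : ⁅R ⊓ centralizer ({e} : Set G), P⁆ ≤ pCoreOf x L :=
        (commutator_le_inf inf_le_left
          (iInf_le (fun i : I => pCoreOf x i.1.2) ⟨(e, H), he, he1, hH, heH, hxH⟩) hPR
          (((hRm.2.2.2 e (hE.1 he) he1).trans heH).trans (FitOf.le_normalizer_pCoreOf x H))).trans
            (hR.pgroup_le hy (Ne.symm C₀.xy) ((FitOf.isPGroup_pCoreOf x H).to_le inf_le_right) inf_le_left)
      refine le_modCentralizer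
        ((CoprimeAct.commutator_le_left ((zpowers_le.2 (hE.1 he)).trans hPA)).trans hPL)
        ((commutator_comm _ _).trans_le ?_)
      exact hh_mod (Ne.symm C₀.xy) (C₀.prime_ne_p hyp) (C₀.prime_ne_p C₀.xmem) (C₀.orderOf_eq (hE.1 he) he1)
        ((FitOf.isPGroup_pCoreOf x H₀).to_le hP0) (Or.inl hx2) (hPA (hE.1 he)) hR.ge hR.pow hRm.2.1
        (hTA (hE.1 he)) hPL hR.normalizes (family_normalizer hRm (hE.1 he)) hPR hfix
    rw [commutator_comm]
    exact commutator_le_of_modCentralizer (C₀.commutator_plane_le hE hg hg1 hh hhg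
      (le_normalizer_modCentralizer hTA (family_normalizer hRm))
      (hD g hg hg1 ⟨H₀, hH₀, hgH₀, hxH₀⟩) (hD h hh (fun e => hhg (e ▸ one_mem _)) hgood'))
  · have h1 := C₀.commutator_sup C₀.xKernel_props.1 (hE.1 hb)
    rw [hbad, sup_bot_eq] at h1
    exact h1.ge.trans (commutator_mono hJP (zpowers_le.2 hb))

/-- A plane with only one good point has it centralising `Q_x` and having an `x`-maximum as value. -/
theorem exists_single (hx2 : x ≠ 2) {E : Subgroup G} (hE : IsPlane p A E)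
    (hno : ¬ ∃ g ∈ E, ∃ h ∈ E, g ≠ 1 ∧ h ∉ zpowers g ∧ Good p A θ x g ∧ Good p A θ x h) :
    ∃ g ∈ E, g ≠ 1 ∧ g ∈ centralizer (qOf p A θ x : Set G) ∧
      IsMax p A θ (θ g) ∧ x ∈ fitPrimes (θ g) := by
  obtain ⟨hJm, -, -, hJ1⟩ := C₀.xKernel_props
  obtain ⟨g, hg, hg1, hgJ⟩ := C₀.exists_fixed_ne_bot hJm hJ1 hE
  obtain ⟨H, hH, hgH, hxH⟩ : Good p A θ x g :=
    Classical.byContradiction fun h => hgJ (C₀.xKernel_fixed_of_bad (hE.1 hg) hg1 h)
  have hKm := C₀.pCoreOf_mem hH.mem x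
  have hKc : pCoreOf x H ≤ centralizer ({g} : Set G) := by
    refine C₀.le_of_points hE (hE.1.trans (family_normalizer hKm)) hKm.2.1 fun e he he1 => ?_
    by_cases heg : e ∈ zpowers g
    · rw [C₀.centralizer_eq_of_mem (hE.1 hg) hg1 heg he1]
      exact inf_le_right
    obtain ⟨X, hX, heX⟩ := C₀.exists_maxOf (hE.1 he) he1
    have hxX : x ∉ fitPrimes X := fun h =>
      hno ⟨g, hg, e, he, hg1, heg, ⟨H, hH, hgH, hxH⟩, ⟨X, hX, heX, h⟩⟩
    have hyX : y ∈ fitPrimes X := Classical.byContradiction fun h => hxX (C₀.fit hX h)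
    exact (le_inf inf_le_left ((hKm.2.2.2 e (hE.1 he) he1).trans heX)).trans
      (C₀.core_inf_le_centralizer C₀.all hx2 C₀.xy (hE.1 hg) hg1 hH hgH hxH hX hyX hxX)
  have hθ : θ g = H := C₀.theta_eq_of_core C₀.all hH (C₀.not_y hH hxH) (hE.1 hg) hg1
    (mem_centralizer_of_le hKc)
  exact ⟨g, hg, hg1, C₀.qOf_centralized C₀.all hH hxH (C₀.not_y hH hxH) (hE.1 hg) hg1 hgH hKc,
    hθ.symm ▸ hH, hθ.symm ▸ hxH⟩

theorem false_of_odd (hx2 : x ≠ 2) : False := by
  obtain ⟨hJm, -, -, hJ1⟩ := C₀.xKernel_props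
  obtain ⟨W, hW, -, hWmax⟩ := C₀.exists_greatest hJm hJ1
  have hstep : ∀ E, IsPlane p A E →
      (∃ g ∈ E, ∃ h ∈ E, g ≠ 1 ∧ h ∉ zpowers g ∧ Good p A θ x g ∧ Good p A θ x h) →
      Cfsg.signalizerInf E θ ≤ W := by
    rintro E hE ⟨g, hg, h, hh, hg1, hhg, hgood, hgood'⟩
    exact hWmax _ (C₀.inf_mem hE) (C₀.two_good_normalizes hx2 hE hg hg1 hh hhg hgood hgood')
  by_cases hall : ∀ E, IsPlane p A E →
      ∃ g ∈ E, ∃ h ∈ E, g ≠ 1 ∧ h ∉ zpowers g ∧ Good p A θ x g ∧ Good p A θ x h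
  · obtain ⟨d, hd, hd1⟩ := C₀.exists_point
    exact C₀.false_of_planes hd hd1 hW fun E hE _ => hstep E hE (hall E hE)
  simp only [not_forall] at hall
  obtain ⟨E, hE, hnoE⟩ := hall
  obtain ⟨g, hgE, hg1, hgQ, hgmax, hgx⟩ := C₀.exists_single hx2 hE hnoE
  have hgA := hE.1 hgE
  by_cases hall' : ∀ E', IsPlane p A E' → g ∉ E' →
      ∃ g ∈ E', ∃ h ∈ E', g ≠ 1 ∧ h ∉ zpowers g ∧ Good p A θ x g ∧ Good p A θ x h
  · exact C₀.false_of_planes hgA hg1 hW fun E' hE' hgE' => hstep E' hE' (hall' E' hE' hgE')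
  simp only [not_forall] at hall'
  obtain ⟨E', hE', hgE', hnoE'⟩ := hall'
  obtain ⟨h, hhE', hh1, hhQ, -, -⟩ := C₀.exists_single hx2 hE' hnoE'
  have hhA := hE'.1 hhE'
  have hhg : h ∉ zpowers g := fun e => hgE' (zpowers_le.2 hhE'
    ((C₀.zpowers_eq_of_mem hgA hg1 e hh1).symm ▸ mem_zpowers g))
  have hDR : zpowers g ⊔ zpowers h ≤ centralizer (qOf p A θ x : Set G) :=
    sup_le (zpowers_le.2 hgQ) (zpowers_le.2 hhQ)
  have hDp := C₀.isPlane_sup hgA hg1 hhA hhg
  refine C₀.line hDp (mem_sup_left (mem_zpowers g)) hg1 (C₀.theta_mem hgA hg1) fun b hb hbg => ?_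
  exact (C₀.theta_eq_of_core C₀.all hgmax (C₀.not_y hgmax hgx) (hDp.1 hb) (fun e => hbg (e ▸ one_mem _))
    (centralizer_le (C₀.max_core_le_qOf hgx.1 hgmax) (hDR hb))).le

end Colour

namespace Min2

variable (M₀ : Min2 p A θ)
include M₀

/-- Exactly two primes do not occur. -/
theorem false_of_two {q r : ℕ} (hr2 : r ≠ 2) (hrq : r ≠ q) (hr : r ∈ primes A θ) (hq : q ∈ primes A θ)
    (hall : ∀ t ∈ primes A θ, t = r ∨ t = q) : False := by
  have hnomix : ∀ M, IsMax p A θ M → ¬ (r ∈ fitPrimes M ∧ q ∈ fitPrimes M) := fun M hM h =>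
    M₀.false_of_full hr2 (Ne.symm hrq) (fun t ht => (hall t ht).symm) hM h.2 h.1
  by_cases hE : ∃ E, IsPlane p A E ∧
      ∀ e ∈ E, e ≠ 1 → ∀ H, IsMax p A θ H → θ e ≤ H → q ∉ fitPrimes H
  · exact Colour.false_of_odd (x := r) (y := q)
      { toMin2 := M₀, xmem := hr, xy := hrq, all := hall, nomix := hnomix, plane := hE } hr2
  simp only [not_exists, not_and, not_forall, not_not] at hE
  obtain ⟨d, hd, hd1, hline⟩ := M₀.exists_collinear hr2 hrq hall hnomix fun E hE' => by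
    obtain ⟨e, he, he1, X, hX, heX, hq⟩ := hE E hE'
    exact ⟨e, he, he1, X, hX, heX, hq⟩
  have hoff : ∀ E, IsPlane p A E → d ∉ E →
      ∀ e ∈ E, e ≠ 1 → ∀ H, IsMax p A θ H → θ e ≤ H → r ∉ fitPrimes H := by
    intro E hE' hdE e he he1 H hH heH hrH
    exact hdE (zpowers_le.2 he ((M₀.zpowers_eq_of_mem hd hd1 (hline e (hE'.1 he) he1 H hH heH hrH)
      he1).symm ▸ mem_zpowers d))
  obtain ⟨E₀, hE₀, hdE₀⟩ := M₀.exists_plane_mem hd
  obtain ⟨c, hcA, hcE⟩ : ∃ c ∈ A, c ∉ E₀ := SetLike.exists_of_lt (lt_of_le_of_ne hE₀.1 fun h => by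
    have h1 := hE₀.2
    rw [h, M₀.card] at h1
    exact absurd h1 (Nat.pow_lt_pow_right hp.out.one_lt (by norm_num)).ne')
  obtain ⟨b, hb, hbd⟩ := M₀.exists_not_zpowers hE₀ hd hd1
  have hb1 : b ≠ 1 := fun h => hbd (h ▸ one_mem _)
  have hcb : c ∉ zpowers b := fun h => hcE (zpowers_le.2 hb h)
  have hplane := M₀.isPlane_sup (hE₀.1 hb) hb1 hcA hcb
  have hdP : d ∉ zpowers b ⊔ zpowers c := fun h => hcE ((M₀.plane_eq hE₀ hplane hdE₀ h hd1 hb
    (mem_sup_left (mem_zpowers b)) hbd).symm ▸ mem_sup_right (mem_zpowers c))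
  exact Colour.false_of_collinear (x := q) (y := r)
    { toMin2 := M₀, xmem := hq, xy := Ne.symm hrq, all := fun t ht => (hall t ht).symm,
      nomix := fun M hM h => hnomix M hM h.symm, plane := ⟨_, hplane, hoff _ hplane hdP⟩ } hd hd1 hoff

/-- A minimal counterexample has fewer than two primes. -/
theorem false_of_min2 : False := by
  by_cases h3 : ∀ s t : ℕ, ∃ u ∈ primes A θ, u ≠ s ∧ u ≠ t
  · exact Min3.false_of_min3 (A := A) (θ := θ) { toMin2 := M₀, three := h3 }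
  simp only [not_forall, not_exists, not_and, ne_eq, not_not] at h3
  obtain ⟨s, t, h⟩ := h3
  obtain ⟨u, hu, -⟩ := M₀.two 0
  obtain ⟨v, hv, hvu⟩ := M₀.two u
  have hall : ∀ w ∈ primes A θ, w = v ∨ w = u := fun w hw => by
    by_contra hc
    simp only [not_or] at hc
    have h1 := h u hu
    have h2 := h v hv
    have h3 := h w hw
    omega
  rcases eq_or_ne v 2 with hv2 | hv2
  · exact M₀.false_of_two (q := v) (r := u) (fun e => hvu (hv2.trans e.symm)) (Ne.symm hvu) hu hv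
      fun w hw => (hall w hw).symm
  · exact M₀.false_of_two (q := u) (r := v) hv2 hvu hv hu hall

end Min2

end Cfsg.Agent.Signalizer.SFT
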