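import Cfsg.Agent.Lib.Signalizer.SFT.NoSink

/-!
Two primes, when some maximum has both of them in its Fitting subgroup.
-/

set_option autoImplicit false
set_option linter.style.haveILetI false
set_option linter.unusedSectionVars false
set_option linter.unusedVariables false

open scoped Pointwise commutatorElement

universe u

namespace Cfsg.Agent.Signalizer.SFT

open Subgroup
open Cfsg (pCoreOf fittingOf)
open Cfsg.Agent.OddOrder

variable {G : Type u} [Group G] [Finite G]

/-- A `t`-group normalising a non-trivial `t`-group centralises a non-trivial part of it. -/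
theorem inf_centralizer_ne_bot {t : ℕ} [Fact t.Prime] {V Z : Subgroup G} (hV : IsPGroup t V)
    (hZ : IsPGroup t Z) (hVZ : V ≤ normalizer (Z : Set G)) (hZ1 : Z ≠ ⊥) :
    Z ⊓ centralizer (V : Set G) ≠ ⊥ := by
  intro hbot
  have hK : IsPGroup t ↥(V ⊔ Z) := hV.to_sup_of_normal_right' hZ hVZ
  haveI := hK.isNilpotent
  haveI : (Z.subgroupOf (V ⊔ Z)).Normal :=
    normal_subgroupOf_of_le_normalizer (sup_le hVZ le_normalizer)
  refine SolvStruct.inf_center_ne_bot (N := Z.subgroupOf (V ⊔ Z)) (fun h => hZ1 ?_)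
    ((eq_bot_iff_forall _).2 ?_)
  · rw [subgroupOf_eq_bot, disjoint_iff] at h
    exact (inf_eq_left.2 le_sup_right).symm.trans h
  · rintro z ⟨hzZ, hz⟩
    exact Subtype.ext ((eq_bot_iff_forall _).1 hbot z ⟨hzZ, mem_centralizer_iff.2 fun y hy =>
      (congrArg Subtype.val (mem_center_iff.1 hz ⟨y, mem_sup_left hy⟩) :)⟩)

/-- The centre of a nilpotent group meets every non-trivial normal subgroup. -/
theorem inf_centralizer_self_ne_bot {t : ℕ} [Fact t.Prime] {Q K : Subgroup G} (hQ : IsPGroup t Q)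
    (hKQ : K ≤ Q) (hn : Q ≤ normalizer (K : Set G)) (hK1 : K ≠ ⊥) :
    K ⊓ centralizer (Q : Set G) ≠ ⊥ :=
  inf_centralizer_ne_bot hQ (hQ.to_le hKQ) hn hK1

variable {p : ℕ} [hp : Fact p.Prime] {A : Subgroup G} {θ : G → Subgroup G}

namespace Min2

variable (M₀ : Min2 p A θ)
include M₀

theorem fit_cases {x y : ℕ} (hall : ∀ t ∈ primes A θ, t = x ∨ t = y) {X : Subgroup G}
    (hX : X ∈ Cfsg.signalizerFamily p A θ) {t : ℕ} (ht : t ∈ fitPrimes X) : t = x ∨ t = y :=
  hall t (M₀.fit_mem_primes hX ht)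

theorem le_full {x y : ℕ} (hall : ∀ t ∈ primes A θ, t = x ∨ t = y) (hxy : x ≠ y) {M : Subgroup G}
    (hM : IsMax p A θ M) (hx : x ∈ fitPrimes M) (hy : y ∈ fitPrimes M) {X : Subgroup G}
    (hX : X ∈ Cfsg.signalizerFamily p A θ) (hF : fittingOf M ≤ X) : X ≤ M :=
  M₀.le_max_of_primes hM hx hy (Ne.symm hxy) hX hF fun t ht hd => by
    rcases hall t (M₀.mem_primes hX ht hd) with rfl | rfl
    · exact hx
    · exact hy

/-- A subgroup of a centre of a Fitting core is normalised only inside the maximum. -/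
theorem centre_bit {x y : ℕ} (hall : ∀ t ∈ primes A θ, t = x ∨ t = y) (hxy : x ≠ y) {M : Subgroup G}
    (hM : IsMax p A θ M) (hx : x ∈ fitPrimes M) (hy : y ∈ fitPrimes M) {U : Subgroup G}
    (hU : U ∈ Cfsg.signalizerFamily p A θ) (hU1 : U ≠ ⊥) (hle : U ≤ FitOf.centreCore x M)
    {X : Subgroup G} (hX : X ∈ Cfsg.signalizerFamily p A θ) (hXU : X ≤ normalizer (U : Set G)) :
    X ≤ M := by
  obtain ⟨W, hW, -, hWmax⟩ := M₀.exists_greatest hU hU1
  refine (hWmax X hX hXU).trans (M₀.le_full hall hxy hM hx hy hW ?_)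
  refine hWmax _ (family_mono hM.mem (FitOf.fittingOf_le M) ((family_normalizer hM.mem).trans
    (normalizer_le_normalizer_map _ (FittingCores.fitting_characteristic (G := M))))) ?_
  exact (Subgroup.le_centralizer_iff.1 ((hle.trans (FitOf.centreCore_le hx.1 M)).trans
    inf_le_right)).trans (centralizer_le_normalizer _)

/-- A maximum containing parts of both cores whose normalisers lie in `M` is `M`. -/
theorem piece {x y : ℕ} (hall : ∀ t ∈ primes A θ, t = x ∨ t = y) (hxy : x ≠ y) {M H : Subgroup G}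
    (hM : IsMax p A θ M) (hx : x ∈ fitPrimes M) (hy : y ∈ fitPrimes M) (hH : IsMax p A θ H)
    {U V : Subgroup G} (hU : U ∈ Cfsg.signalizerFamily p A θ) (hUx : U ≤ pCoreOf x M)
    (hV : V ∈ Cfsg.signalizerFamily p A θ) (hVy : V ≤ pCoreOf y M)
    (hUH : U ≤ H) (hVH : V ≤ H) (hU1 : U ≠ ⊥) (hV1 : V ≠ ⊥)
    (hUb : ∀ X ∈ Cfsg.signalizerFamily p A θ, X ≤ normalizer (U : Set G) → X ≤ M)
    (hVb : ∀ X ∈ Cfsg.signalizerFamily p A θ, X ≤ normalizer (V : Set G) → X ≤ M) : H = M := by
  have hUV : U ≤ centralizer (V : Set G) :=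
    (hUx.trans (FitOf.pCoreOf_le_centralizer hx.1 hy.1 hxy M)).trans (centralizer_le hVy)
  have key : ∀ (a b : ℕ) (U' V' : Subgroup G), a ∈ fitPrimes M → b ∈ fitPrimes M → a ≠ b →
      U' ∈ Cfsg.signalizerFamily p A θ → U' ≤ pCoreOf a M → V' ≤ pCoreOf b M → U' ≤ H → V' ≤ H →
      U' ≤ centralizer (V' : Set G) →
      (∀ X ∈ Cfsg.signalizerFamily p A θ, X ≤ normalizer (U' : Set G) → X ≤ M) →
      (∀ X ∈ Cfsg.signalizerFamily p A θ, X ≤ normalizer (V' : Set G) → X ≤ M) →
      pCoreOf a H ≤ M ∧ V' ≤ centralizer (pCoreOf a H : Set G) := by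
    intro a b U' V' ha hb hab hU' hU'a hV'b hU'H hV'H hc hU'b hV'bit
    haveI := Fact.mk ha.1
    haveI := Fact.mk hb.1
    set P := pCoreOf a H with hP
    have hfixM : P ⊓ centralizer (U' : Set G) ≤ M :=
      hU'b _ (M₀.inf_centralizer_mem (M₀.pCoreOf_mem hH.mem a) (family_normalizer hU'))
        (inf_le_right.trans (centralizer_le_normalizer _))
    have hVP : V' ≤ centralizer (P : Set G) := by
      refine centralizes_of_fixed (FitOf.isPGroup_pCoreOf a H)
        ((FitOf.isPGroup_pCoreOf a M).to_le hU'a) (hU'H.trans (FitOf.le_normalizer_pCoreOf a H))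
        (hV'H.trans (FitOf.le_normalizer_pCoreOf a H)) (Subgroup.le_centralizer_iff.1 hc) ?_ ?_
      · obtain ⟨n, hn⟩ := ((FitOf.isPGroup_pCoreOf b M).to_le hV'b).exists_card_eq
        rw [hn]
        exact ((Nat.coprime_primes hb.1 ha.1).2 (Ne.symm hab)).pow_left n
      · exact le_centralizer_of_normalizes (W := pCoreOf b M) (T := P) hV'b inf_le_left
          (hfixM.trans (FitOf.le_normalizer_pCoreOf b M)) (hV'H.trans (FitOf.le_normalizer_pCoreOf a H))
          (coprime_of_ne hb.1 ha.1 (Ne.symm hab) (FitOf.isPGroup_pCoreOf b M) (FitOf.isPGroup_pCoreOf a H))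
    exact ⟨hV'bit _ (M₀.pCoreOf_mem hH.mem a)
      ((Subgroup.le_centralizer_iff.1 hVP).trans (centralizer_le_normalizer _)), hVP⟩
  obtain ⟨hxM, hVx⟩ := key x y U V hx hy hxy hU hUx hVy hUH hVH hUV hUb hVb
  obtain ⟨hyM, hUy⟩ := key y x V U hy hx (Ne.symm hxy) hV hVy hUx hVH hUH
    (Subgroup.le_centralizer_iff.1 hUV) hVb hUb
  have hFH : fittingOf H ≤ M := FitOf.fittingOf_le_iff.2 fun t ht => by
    by_cases h : t ∈ fitPrimes H
    · rcases M₀.fit_cases hall hH.mem h with rfl | rfl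
      · exact hxM
      · exact hyM
    · rw [pCoreOf_eq_bot ht h]
      exact bot_le
  have hxH : x ∈ fitPrimes H := by
    refine ⟨hx.1, fun h => hU1 (le_bot_iff.1 (h ▸ M₀.mem_pCoreOf_of_centralizes hH.mem hUH hx.1
      ((FitOf.isPGroup_pCoreOf x M).to_le hUx) fun t ht => ?_))⟩
    by_cases htH : t ∈ fitPrimes H
    · rcases M₀.fit_cases hall hH.mem htH with rfl | rfl
      · exact absurd h htH.2
      · exact hUy
    · rw [pCoreOf_eq_bot ht htH]
      exact le_centralizer_bot
  have hyH : y ∈ fitPrimes H := by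
    refine ⟨hy.1, fun h => hV1 (le_bot_iff.1 (h ▸ M₀.mem_pCoreOf_of_centralizes hH.mem hVH hy.1
      ((FitOf.isPGroup_pCoreOf y M).to_le hVy) fun t ht => ?_))⟩
    by_cases htH : t ∈ fitPrimes H
    · rcases M₀.fit_cases hall hH.mem htH with rfl | rfl
      · exact hVx
      · exact absurd h htH.2
    · rw [pCoreOf_eq_bot ht htH]
      exact le_centralizer_bot
  exact (hM.max H hH.mem (M₀.le_full hall hxy hH hxH hyH hM.mem hFH))

/-- An `x`-member of `M` centralising the other core is normalised only inside `M`. -/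
theorem bit {x y : ℕ} (hall : ∀ t ∈ primes A θ, t = x ∨ t = y) (hxy : x ≠ y) {M : Subgroup G}
    (hM : IsMax p A θ M) (hx : x ∈ fitPrimes M) (hy : y ∈ fitPrimes M) {V : Subgroup G}
    (hV : V ∈ Cfsg.signalizerFamily p A θ) (hVC : Cfsg.signalizerInf A θ ≤ normalizer (V : Set G))
    (hV1 : V ≠ ⊥) (hVp : IsPGroup x V) (hVM : V ≤ M) (hVc : V ≤ centralizer (pCoreOf y M : Set G))
    {X : Subgroup G} (hX : X ∈ Cfsg.signalizerFamily p A θ) (hXV : X ≤ normalizer (V : Set G)) :
    X ≤ M := by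
  haveI := Fact.mk hx.1
  obtain ⟨W, hW, -, hWmax⟩ := M₀.exists_greatest hV hV1
  have hCW : Cfsg.signalizerInf A θ ≤ W := hWmax _ M₀.core_mem hVC
  obtain ⟨H, hH, hWH⟩ := M₀.exists_max hW (hCW.trans le_normalizer)
  set U := FitOf.centreCore x M ⊓ centralizer (V : Set G) with hU
  set U' := FitOf.centreCore y M with hU'
  have hZA : ∀ t, A ≤ normalizer (FitOf.centreCore t M : Set G) := fun t =>
    (family_normalizer hM.mem).trans (normalizer_le_normalizer_centreCore t M)
  have hUm : U ∈ Cfsg.signalizerFamily p A θ :=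
    M₀.inf_centralizer_mem (family_mono hM.mem (inf_le_left.trans (FitOf.pCoreOf_le x M)) (hZA x))
      (family_normalizer hV)
  have hU'm : U' ∈ Cfsg.signalizerFamily p A θ :=
    family_mono hM.mem (inf_le_left.trans (FitOf.pCoreOf_le y M)) (hZA y)
  have hU1 : U ≠ ⊥ := inf_centralizer_ne_bot hVp (isPGroup_centreCore x M)
    (hVM.trans (FitOf.le_normalizer_centreCore x M)) (FitOf.centreCore_ne_bot hx.1 hx.2)
  have hUH : U ≤ H := (hWmax U hUm (inf_le_right.trans (centralizer_le_normalizer _))).trans hWH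
  have hU'H : U' ≤ H := by
    refine (hWmax U' hU'm ?_).trans hWH
    exact (inf_le_left.trans (Subgroup.le_centralizer_iff.1 hVc)).trans (centralizer_le_normalizer _)
  have hHM : H = M := M₀.piece hall hxy hM hx hy hH hUm (inf_le_left.trans inf_le_left) hU'm inf_le_left
    hUH hU'H hU1 (FitOf.centreCore_ne_bot hy.1 hy.2)
    (fun Z hZ hZU => M₀.centre_bit hall hxy hM hx hy hUm hU1 inf_le_left hZ hZU)
    (fun Z hZ hZU => M₀.centre_bit (fun t ht => (hall t ht).symm) (Ne.symm hxy) hM hy hx hU'm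
      (FitOf.centreCore_ne_bot hy.1 hy.2) le_rfl hZ hZU)
  exact (hWmax X hX hXV).trans (hWH.trans hHM.le)

/-- A maximum containing parts of both cores of `M` is `M`. -/
theorem eq_of_bits {x y : ℕ} (hall : ∀ t ∈ primes A θ, t = x ∨ t = y) (hxy : x ≠ y) {M H : Subgroup G}
    (hM : IsMax p A θ M) (hx : x ∈ fitPrimes M) (hy : y ∈ fitPrimes M) (hH : IsMax p A θ H)
    {U V : Subgroup G} (hU : U ∈ Cfsg.signalizerFamily p A θ)
    (hUC : Cfsg.signalizerInf A θ ≤ normalizer (U : Set G)) (hUx : U ≤ pCoreOf x M) (hU1 : U ≠ ⊥)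
    (hV : V ∈ Cfsg.signalizerFamily p A θ)
    (hVC : Cfsg.signalizerInf A θ ≤ normalizer (V : Set G)) (hVy : V ≤ pCoreOf y M) (hV1 : V ≠ ⊥)
    (hUH : U ≤ H) (hVH : V ≤ H) : H = M :=
  M₀.piece hall hxy hM hx hy hH hU hUx hV hVy hUH hVH hU1 hV1
    (fun Z hZ hZU => M₀.bit hall hxy hM hx hy hU hUC hU1 ((FitOf.isPGroup_pCoreOf x M).to_le hUx)
      (hUx.trans (FitOf.pCoreOf_le x M)) (hUx.trans (FitOf.pCoreOf_le_centralizer hx.1 hy.1 hxy M)) hZ hZU)
    (fun Z hZ hZV => M₀.bit (fun t ht => (hall t ht).symm) (Ne.symm hxy) hM hy hx hV hVC hV1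
      ((FitOf.isPGroup_pCoreOf y M).to_le hVy) (hVy.trans (FitOf.pCoreOf_le y M))
      (hVy.trans (FitOf.pCoreOf_le_centralizer hy.1 hx.1 (Ne.symm hxy) M)) hZ hZV)

/-- Other maxima with `x` in their Fitting primes contain no part of `O_y(M)`. -/
theorem eq_of_bit {x y : ℕ} (hall : ∀ t ∈ primes A θ, t = x ∨ t = y) (hxy : x ≠ y) {M H : Subgroup G}
    (hM : IsMax p A θ M) (hx : x ∈ fitPrimes M) (hy : y ∈ fitPrimes M) (hH : IsMax p A θ H)
    (hxH : x ∈ fitPrimes H) {V : Subgroup G} (hV : V ∈ Cfsg.signalizerFamily p A θ)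
    (hVC : Cfsg.signalizerInf A θ ≤ normalizer (V : Set G)) (hVy : V ≤ pCoreOf y M) (hV1 : V ≠ ⊥)
    (hVH : V ≤ H) : H = M := by
  haveI := Fact.mk hx.1
  haveI := Fact.mk hy.1
  set Q := qOf p A θ x with hQ
  set Z := Q ⊓ centralizer (Q : Set G) with hZ
  have hQm := M₀.qOf_props x
  have hZm : Z ∈ Cfsg.signalizerFamily p A θ := M₀.inf_centralizer_mem hQm.1 (family_normalizer hQm.1)
  have hZC : Cfsg.signalizerInf A θ ≤ normalizer (Z : Set G) :=
    le_normalizer_inf hQm.2.1 (le_normalizer_centralizer hQm.2.1)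
  have hZK : ∀ K, IsMax p A θ K → x ∈ fitPrimes K → Z ≤ K := fun K hK hxK =>
    M₀.le_of_centralizes_core hK hxK hZm (inf_le_right.trans (centralizer_le (M₀.max_core_le_qOf hx.1 hK)))
  set P := pCoreOf x H with hP
  set X₀ := pCoreOf y M ⊓ H with hX₀
  have hTy : A ≤ normalizer (pCoreOf y M : Set G) :=
    (family_normalizer hM.mem).trans (normalizer_le_normalizer_pCoreOf y M)
  have hX₀m : X₀ ∈ Cfsg.signalizerFamily p A θ :=
    M₀.sub_mem (M₀.pCoreOf_mem hM.mem y) (family_normalizer hH.mem)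
  have hX₀C : Cfsg.signalizerInf A θ ≤ normalizer (X₀ : Set G) :=
    le_normalizer_inf (hM.core.trans (FitOf.le_normalizer_pCoreOf y M)) (hH.core.trans le_normalizer)
  have hZX₀ : Z ≤ normalizer (X₀ : Set G) :=
    le_normalizer_inf ((hZK M hM hx).trans (FitOf.le_normalizer_pCoreOf y M))
      ((hZK H hH hxH).trans le_normalizer)
  set X₁ := ⁅X₀, Z⁆ with hX₁
  have hX₁X₀ : X₁ ≤ X₀ := CoprimeAct.commutator_le_left hZX₀
  have hX₁m : X₁ ∈ Cfsg.signalizerFamily p A θ := family_mono hX₀m hX₁X₀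
    (le_normalizer_commutator (family_normalizer hX₀m) (family_normalizer hZm))
  have hX₁C : Cfsg.signalizerInf A θ ≤ normalizer (X₁ : Set G) := le_normalizer_commutator hX₀C hZC
  have hX₁y : IsPGroup y X₁ := (FitOf.isPGroup_pCoreOf y M).to_le (hX₁X₀.trans inf_le_left)
  have hX₁P : X₁ ≤ centralizer (P : Set G) := by
    rw [← commutator_eq_bot_iff_le_centralizer]
    refine commutator_commutator_eq_bot_of_rotate ?_ ?_
    · rw [commutator_eq_bot_of_le_centralizer (inf_le_right.trans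
        (centralizer_le (M₀.max_core_le_qOf hx.1 hH))), commutator_bot_left]
    · refine eq_bot_iff.2 ((commutator_mono (CoprimeAct.commutator_le_left
        (inf_le_right.trans (FitOf.le_normalizer_pCoreOf x H))) le_rfl).trans ?_)
      rw [commutator_comm, commutator_eq_bot_of_le_centralizer
        (inf_le_right.trans (centralizer_le (M₀.max_core_le_qOf hx.1 hH)))]
  by_cases hX₁1 : X₁ = ⊥
  · -- then `Z` centralises `V`
    have hZV : Z ≤ centralizer (V : Set G) :=
      (Subgroup.le_centralizer_iff.1 (commutator_eq_bot_iff_le_centralizer.1 hX₁1)).trans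
        (centralizer_le (le_inf hVy hVH))
    have hZ1 : Z ≠ ⊥ := inf_centralizer_self_ne_bot (M₀.qOf_isPGroup hx.1) le_rfl le_normalizer
      fun h => hx.2 (le_bot_iff.1 ((M₀.max_core_le_qOf hx.1 hM).trans h.le))
    obtain ⟨W, hW, -, hWmax⟩ := M₀.exists_greatest hZm hZ1
    obtain ⟨H', hH', hWH'⟩ := M₀.exists_max hW ((hWmax _ M₀.core_mem hZC).trans le_normalizer)
    have hQH' : Q ≤ H' := (hWmax Q hQm.1 (Signalizer.le_normalizer_inf le_normalizer
      (le_normalizer_centralizer le_normalizer))).trans hWH'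
    have hVH' : V ≤ H' :=
      (hWmax V hV ((Subgroup.le_centralizer_iff.1 hZV).trans (centralizer_le_normalizer _))).trans hWH'
    have hTm := M₀.pCoreOf_mem hM.mem x
    have hH'M : H' = M := M₀.eq_of_bits hall hxy hM hx hy hH' hTm
      (hM.core.trans (FitOf.le_normalizer_pCoreOf x M)) le_rfl hx.2 hV hVC hVy hV1
      ((M₀.max_core_le_qOf hx.1 hM).trans hQH') hVH'
    have hQM : Q ≤ M := hQH'.trans hH'M.le
    set U := pCoreOf x M ⊓ centralizer (Q : Set G) with hU
    have hUm : U ∈ Cfsg.signalizerFamily p A θ := M₀.inf_centralizer_mem hTm (family_normalizer hQm.1)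
    have hU1 : U ≠ ⊥ := inf_centralizer_self_ne_bot (M₀.qOf_isPGroup hx.1)
      (M₀.max_core_le_qOf hx.1 hM) (hQM.trans (FitOf.le_normalizer_pCoreOf x M)) hx.2
    exact M₀.eq_of_bits hall hxy hM hx hy hH hUm
      (le_normalizer_inf (hM.core.trans (FitOf.le_normalizer_pCoreOf x M))
        (le_normalizer_centralizer hQm.2.1)) inf_le_left hU1 hV hVC hVy hV1
      ((le_inf (inf_le_left.trans (M₀.max_core_le_qOf hx.1 hM)) inf_le_right : U ≤ Z).trans (hZK H hH hxH))
      hVH
  · have hyH : y ∈ fitPrimes H := by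
      refine ⟨hy.1, fun h => hX₁1 (le_bot_iff.1 (h ▸ M₀.mem_pCoreOf_of_centralizes hH.mem
        (hX₁X₀.trans inf_le_right) hy.1 hX₁y fun t ht => ?_))⟩
      by_cases htH : t ∈ fitPrimes H
      · rcases M₀.fit_cases hall hH.mem htH with rfl | rfl
        · exact hX₁P
        · exact absurd h htH.2
      · rw [pCoreOf_eq_bot ht htH]
        exact le_centralizer_bot
    have hTH : pCoreOf x M ≤ H :=
      M₀.bit (fun t ht => (hall t ht).symm) (Ne.symm hxy) hH hyH hxH hX₁m hX₁C hX₁1 hX₁y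
        (hX₁X₀.trans inf_le_right) hX₁P (M₀.pCoreOf_mem hM.mem x)
        (((FitOf.pCoreOf_le_centralizer hx.1 hy.1 hxy M).trans
          (centralizer_le (hX₁X₀.trans inf_le_left))).trans (centralizer_le_normalizer _))
    exact M₀.eq_of_bits hall hxy hM hx hy hH (M₀.pCoreOf_mem hM.mem x)
      (hM.core.trans (FitOf.le_normalizer_pCoreOf x M)) le_rfl hx.2 hV hVC hVy hV1 hTH hVH

/-- With two primes no maximum involves both. -/
theorem false_of_full {q r : ℕ} (hr2 : r ≠ 2) (hqr : q ≠ r)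
    (hall : ∀ t ∈ primes A θ, t = q ∨ t = r) {M : Subgroup G} (hM : IsMax p A θ M)
    (hq : q ∈ fitPrimes M) (hr : r ∈ fitPrimes M) : False := by
  classical
  haveI := Fact.mk hq.1
  haveI := Fact.mk hr.1
  have hrp : r ≠ p := M₀.ne_p hM.mem hr
  set T := pCoreOf q M with hT
  set S := pCoreOf r M with hS
  have hTm := M₀.pCoreOf_mem hM.mem q
  have hSm := M₀.pCoreOf_mem hM.mem r
  have hfixC : ∀ (X : Subgroup G) (a : G), a ∈ A → Cfsg.signalizerInf A θ ≤ normalizer (X : Set G) →
      Cfsg.signalizerInf A θ ≤ normalizer ((X ⊓ centralizer ({a} : Set G) : Subgroup G) : Set G) :=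
    fun X a ha hX => le_normalizer_inf hX (by
      have h := M₀.core_normalizes_centralizer (zpowers_le.2 ha)
      rwa [centralizer_zpowers_eq] at h)
  have hfixm : ∀ (X : Subgroup G) (a : G), a ∈ A → X ∈ Cfsg.signalizerFamily p A θ →
      X ⊓ centralizer ({a} : Set G) ∈ Cfsg.signalizerFamily p A θ := fun X a ha hX => by
    have h := M₀.inf_centralizer_mem hX (M₀.inv_zpowers ha)
    rwa [centralizer_zpowers_eq] at h
  -- a point fixing parts of both cores
  have hboth : ∀ a ∈ A, a ≠ 1 → T ⊓ centralizer ({a} : Set G) ≠ ⊥ →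
      S ⊓ centralizer ({a} : Set G) ≠ ⊥ → θ a ≤ M := fun a ha ha1 hTa hSa => by
    obtain ⟨H, hH, haH⟩ := M₀.exists_maxOf ha ha1
    exact haH.trans (M₀.eq_of_bits hall hqr hM hq hr hH (hfixm T a ha hTm)
      (hfixC T a ha (hM.core.trans (FitOf.le_normalizer_pCoreOf q M))) inf_le_left hTa
      (hfixm S a ha hSm) (hfixC S a ha (hM.core.trans (FitOf.le_normalizer_pCoreOf r M))) inf_le_left hSa
      ((hTm.2.2.2 a ha ha1).trans haH) ((hSm.2.2.2 a ha ha1).trans haH)).le
  -- bad points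
  have hbadH : ∀ a ∈ A, a ≠ 1 → S ⊓ centralizer ({a} : Set G) ≠ ⊥ → ¬ θ a ≤ M →
      T ⊓ centralizer ({a} : Set G) = ⊥ ∧
        ∀ H, IsMax p A θ H → θ a ≤ H → q ∉ fitPrimes H := fun a ha ha1 hSa hno =>
    ⟨Classical.byContradiction fun h => hno (hboth a ha ha1 h hSa), fun H hH haH hqH => hno
      (haH.trans (M₀.eq_of_bit hall hqr hM hq hr hH hqH (hfixm S a ha hSm)
        (hfixC S a ha (hM.core.trans (FitOf.le_normalizer_pCoreOf r M))) inf_le_left hSa
        ((hSm.2.2.2 a ha ha1).trans haH)).le)⟩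
  obtain ⟨D, hD, hTD⟩ : ∃ D, IsPlane p A D ∧ T ⊓ centralizer (D : Set G) ≠ ⊥ := by
    by_contra hno
    exact hq.2 (le_bot_iff.1 (M₀.le_of_planes (family_normalizer hTm) hTm.2.1 fun D hD =>
      le_of_eq (Classical.byContradiction fun h => hno ⟨D, hD, h⟩)))
  have hfixne : ∀ (X : Subgroup G) (E : Subgroup G) (e : G), e ∈ E →
      X ⊓ centralizer (E : Set G) ≠ ⊥ → X ⊓ centralizer ({e} : Set G) ≠ ⊥ := fun X E e he hne h =>
    hne (le_bot_iff.1 ((inf_le_inf_left X (centralizer_le (Set.singleton_subset_iff.2 he))).trans h.le))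
  have hmeet : ∀ E, IsPlane p A E → S ⊓ centralizer (E : Set G) ≠ ⊥ → ∃ e ∈ E, e ≠ 1 ∧ θ e ≤ M := by
    intro E hE hSE
    obtain ⟨e, heE, heD, he1⟩ := M₀.meet hE hD
    exact ⟨e, heE, he1, hboth e (hE.1 heE) he1 (hfixne T D e heD hTD) (hfixne S E e heE hSE)⟩
  have htwo : ∀ E, IsPlane p A E → S ⊓ centralizer (E : Set G) ≠ ⊥ →
      ∃ b ∈ E, ∃ c ∈ E, b ≠ 1 ∧ c ∉ zpowers b ∧ ¬ θ b ≤ M ∧ ¬ θ c ≤ M := by
    intro E hE hSE
    obtain ⟨e, he, he1, heM⟩ := hmeet E hE hSE
    obtain ⟨b, hb, hb1, hbM⟩ : ∃ b ∈ E, b ≠ 1 ∧ ¬ θ b ≤ M := by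
      by_contra hno
      exact M₀.line hE he he1 hM.mem fun b hb hbz =>
        Classical.byContradiction fun h => hno ⟨b, hb, fun h1 => hbz (h1 ▸ one_mem _), h⟩
    refine Classical.byContradiction fun hno => M₀.line hE hb hb1 hM.mem fun c hc hcz =>
      Classical.byContradiction fun h => hno ⟨b, hb, c, hc, hb1, hcz, hbM, h⟩
  obtain ⟨B, hB, hSB⟩ : ∃ B, IsPlane p A B ∧ S ⊓ centralizer (B : Set G) ≠ ⊥ := by
    by_contra hno
    exact hr.2 (le_bot_iff.1 (M₀.le_of_planes (family_normalizer hSm) hSm.2.1 fun E hE =>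
      le_of_eq (Classical.byContradiction fun h => hno ⟨E, hE, h⟩)))
  set R := qOf p A θ r with hR
  have hRm := M₀.qOf_props r
  have hRp : IsPGroup r R := M₀.qOf_isPGroup hr.1
  have hSR : S ≤ R := M₀.max_core_le_qOf hr.1 hM
  have hTA : A ≤ normalizer (T : Set G) := family_normalizer hTm
  -- the fixed point lemma on `T`
  have hhT : ∀ a ∈ A, a ≠ 1 → T ⊓ centralizer ({a} : Set G) = ⊥ → ∀ P : Subgroup G, P ≤ M →
      IsPGroup r P → A ≤ normalizer (P : Set G) → ⁅P, zpowers a⁆ ≤ centralizer (T : Set G) := by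
    intro a ha ha1 hTa P hPM hPr hPA
    refine hh hqr (M₀.ne_p hM.mem hq) hrp (M₀.orderOf_eq ha ha1) hPr (Or.inl hr2) (hPA ha)
      (FitOf.isPGroup_pCoreOf q M) (hTA ha) (hPM.trans (FitOf.le_normalizer_pCoreOf q M)) ?_
    rw [hTa]
    exact le_centralizer_bot
  -- a bad point centralising `S` centralises `R`
  have hown : ∀ b ∈ A, b ≠ 1 → T ⊓ centralizer ({b} : Set G) = ⊥ →
      S ≤ centralizer ({b} : Set G) → R ≤ θ b := by
    intro b hb hb1 hTb hSb
    set E₀ := R ⊓ θ b with hE₀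
    by_contra hno
    refine normalizer_inf_not_le hRp inf_le_left (fun e => hno (e ▸ inf_le_right)) ?_
    set Y := normalizer (E₀ : Set G) ⊓ R with hY
    have hYA : A ≤ normalizer (Y : Set G) := le_normalizer_inf
      ((le_normalizer_inf (family_normalizer hRm.1) (family_normalizer (M₀.theta_mem hb hb1))).trans
        le_normalizer) (family_normalizer hRm.1)
    have hYm : Y ∈ Cfsg.signalizerFamily p A θ := family_mono hRm.1 inf_le_right hYA
    have hSE : S ≤ E₀ := le_inf hSR (M₀.le_theta hSm hb hb1 hSb)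
    have hbE : b ∈ centralizer (E₀ : Set G) :=
      mem_centralizer_of_le (inf_le_right.trans (M₀.theta_le_centralizer hb hb1))
    set V := ⁅Y, zpowers b⁆ with hV
    have hVS : V ≤ centralizer (S : Set G) :=
      (commutator_le_centralizer_three hbE inf_le_left).trans (centralizer_le hSE)
    have hVM : V ≤ M := M₀.le_of_centralizes_core hM hr (M₀.commutator_mem hYm hb) hVS
    have hVr : IsPGroup r V :=
      hRp.to_le ((CoprimeAct.commutator_le_left ((zpowers_le.2 hb).trans hYA)).trans inf_le_right)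
    have hV1 : ⁅Y, zpowers b⁆ = ⊥ := by
      have hVA : A ≤ normalizer (V : Set G) := family_normalizer (M₀.commutator_mem hYm hb)
      have hVT : V ≤ centralizer (T : Set G) := by
        have h := hhT b hb hb1 hTb V hVM hVr hVA
        rwa [M₀.commutator_idem hYm hb] at h
      have hVcore : V ≤ S := M₀.mem_pCoreOf_of_centralizes hM.mem hVM hr.1 hVr fun t ht => by
        by_cases htM : t ∈ fitPrimes M
        · rcases M₀.fit_cases hall hM.mem htM with rfl | rfl
          · exact hVT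
          · exact hVS
        · rw [pCoreOf_eq_bot ht htM]
          exact le_centralizer_bot
      rw [← M₀.commutator_idem hYm hb, commutator_eq_bot_iff_le_centralizer, centralizer_zpowers_eq]
      exact hVcore.trans hSb
    refine le_inf inf_le_right (M₀.le_theta hYm hb hb1 ?_)
    rw [← centralizer_zpowers_eq, ← commutator_eq_bot_iff_le_centralizer]
    exact hV1
  -- `R` lies in `M`
  have hRM : R ≤ M := by
    let bad : Set G := {a | a ∈ A ∧ a ≠ 1 ∧ S ⊓ centralizer ({a} : Set G) ≠ ⊥ ∧ ¬ θ a ≤ M}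
    have hbad_of : ∀ E, IsPlane p A E → S ⊓ centralizer (E : Set G) ≠ ⊥ → ∀ b ∈ E, b ≠ 1 →
        ¬ θ b ≤ M → b ∈ bad := fun E hE hSE b hb hb1 hbM =>
      ⟨hE.1 hb, hb1, hfixne S E b hb hSE, hbM⟩
    by_cases hspan : Subgroup.closure bad = A
    swap
    · obtain ⟨P₀, hP₀, hle⟩ := M₀.exists_plane_ge ((closure_le _).2 fun a ha => ha.1) hspan
      have huniq : ∀ E, IsPlane p A E → S ⊓ centralizer (E : Set G) ≠ ⊥ → E = P₀ := by
        intro E hE hSE
        obtain ⟨b, hb, c, hc, hb1, hcb, hbM, hcM⟩ := htwo E hE hSE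
        exact M₀.plane_eq hE hP₀ hb (hle (subset_closure (hbad_of E hE hSE b hb hb1 hbM))) hb1 hc
          (hle (subset_closure (hbad_of E hE hSE c hc (fun h => hcb (h ▸ one_mem _)) hcM))) hcb
      have hSc : S ≤ centralizer (B : Set G) := by
        refine M₀.le_of_planes (family_normalizer hSm) hSm.2.1 fun E hE => ?_
        by_cases hSE : S ⊓ centralizer (E : Set G) = ⊥
        · rw [hSE]; exact bot_le
        · rw [huniq E hE hSE, ← huniq B hB hSB]
          exact inf_le_right
      obtain ⟨b, hb, c, hc, hb1, hcb, hbM, hcM⟩ := htwo B hB hSB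
      have hc1 : c ≠ 1 := fun h => hcb (h ▸ one_mem _)
      have hRb : ∀ e ∈ B, e ≠ 1 → ¬ θ e ≤ M → R ≤ centralizer ({e} : Set G) := fun e he he1 heM =>
        (hown e (hB.1 he) he1 (hbadH e (hB.1 he) he1 (hfixne S B e he hSB) heM).1
          (hSc.trans (centralizer_le (Set.singleton_subset_iff.2 he)))).trans
            (M₀.theta_le_centralizer (hB.1 he) he1)
      have hRB : B ≤ centralizer (R : Set G) := by
        rw [← M₀.plane_gen hB hb hb1 hc hcb]
        exact sup_le (zpowers_le.2 (mem_centralizer_of_le (hRb b hb hb1 hbM)))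
          (zpowers_le.2 (mem_centralizer_of_le (hRb c hc hc1 hcM)))
      obtain ⟨e, he, he1, heM⟩ := hmeet B hB hSB
      exact (M₀.member_le_of_commute hRm.1 (hB.1 he) he1 (hRB he)).trans heM
    by_contra hRM
    set Rm := R ⊓ M with hRmdef
    have hRmA : A ≤ normalizer (Rm : Set G) :=
      le_normalizer_inf (family_normalizer hRm.1) (family_normalizer hM.mem)
    have hRmm : Rm ∈ Cfsg.signalizerFamily p A θ := family_mono hRm.1 inf_le_left hRmA
    have hSRm : S ≤ Rm := le_inf hSR (FitOf.pCoreOf_le r M)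
    have hRmC : Cfsg.signalizerInf A θ ≤ normalizer (Rm : Set G) :=
      le_normalizer_inf hRm.2.1 (hM.core.trans le_normalizer)
    set Z := Rm ⊓ centralizer (Rm : Set G) with hZ
    set Z₁ := Z ⊓ S with hZ₁
    have hZm : Z ∈ Cfsg.signalizerFamily p A θ := M₀.inf_centralizer_mem hRmm hRmA
    have hZA := family_normalizer hZm
    have hZ₁A : A ≤ normalizer (Z₁ : Set G) := le_normalizer_inf hZA (family_normalizer hSm)
    have hZ₁1 : Z₁ ≠ ⊥ := by
      have h := inf_centralizer_self_ne_bot (hRp.to_le inf_le_left) hSRm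
        (inf_le_right.trans (FitOf.le_normalizer_pCoreOf r M)) hr.2
      exact fun h0 => h (le_bot_iff.1 ((le_inf (le_inf (inf_le_left.trans hSRm) inf_le_right)
        inf_le_left).trans h0.le))
    have hAZ : A ≤ modCentralizer Z₁ Z := by
      conv_lhs => rw [← hspan]
      refine (closure_le _).2 fun b hb => ?_
      obtain ⟨hbA, hb1, hSb, hbM⟩ := hb
      have hle : ⁅Z, zpowers b⁆ ≤ Z₁ := by
        have hZb : ⁅Z, zpowers b⁆ ≤ Z := CoprimeAct.commutator_le_left ((zpowers_le.2 hbA).trans hZA)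
        have hr' : IsPGroup r Z := hRp.to_le (inf_le_left.trans inf_le_left)
        have hT' := hhT b hbA hb1 (hbadH b hbA hb1 hSb hbM).1 Z (inf_le_left.trans inf_le_right) hr' hZA
        refine le_inf hZb (M₀.mem_pCoreOf_of_centralizes hM.mem (hZb.trans (inf_le_left.trans inf_le_right))
          hr.1 (hr'.to_le hZb) fun t ht => ?_)
        by_cases htM : t ∈ fitPrimes M
        · rcases M₀.fit_cases hall hM.mem htM with rfl | rfl
          · exact hT'
          · exact (hZb.trans inf_le_right).trans (centralizer_le hSRm)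
        · rw [pCoreOf_eq_bot ht htM]
          exact le_centralizer_bot
      exact le_modCentralizer (zpowers_le.2 (hZ₁A hbA)) ((commutator_comm _ _).trans_le hle)
        (mem_zpowers b)
    set Y := normalizer (Rm : Set G) ⊓ R with hY
    have hYA : A ≤ normalizer (Y : Set G) :=
      le_normalizer_inf (hRmA.trans le_normalizer) (family_normalizer hRm.1)
    have hYm : Y ∈ Cfsg.signalizerFamily p A θ := family_mono hRm.1 inf_le_right hYA
    have hYM : Y ≤ M := by
      refine M₀.le_of_planes hYA hYm.2.1 fun E hE => ?_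
      set K := ⁅Z, E⁆ with hK
      have hK1 : K ≤ Z₁ := (commutator_comm _ _).trans_le (commutator_le_of_modCentralizer (hE.1.trans hAZ))
      by_cases hKb : K = ⊥
      · have hEZ : Z₁ ≤ S ⊓ centralizer (E : Set G) :=
          le_inf inf_le_right (inf_le_left.trans (commutator_eq_bot_iff_le_centralizer.1 hKb))
        obtain ⟨e, he, he1, heM⟩ := hmeet E hE fun h => hZ₁1 (le_bot_iff.1 (hEZ.trans h.le))
        exact ((inf_le_inf_left Y (centralizer_le (Set.singleton_subset_iff.2 he))).trans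
          (hYm.2.2.2 e (hE.1 he) he1)).trans heM
      · have hEA : A ≤ normalizer (E : Set G) :=
          (ea_le_centralizer M₀.ea hE.1).trans (centralizer_le_normalizer _)
        have hKm : K ∈ Cfsg.signalizerFamily p A θ := family_mono hSm (hK1.trans inf_le_right)
          (le_normalizer_commutator hZA hEA)
        have hKC : Cfsg.signalizerInf A θ ≤ normalizer (K : Set G) :=
          le_normalizer_commutator (le_normalizer_inf hRmC (le_normalizer_centralizer hRmC))
            ((M₀.core_le_centralizer.trans (centralizer_le hE.1)).trans (centralizer_le_normalizer _))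
        have hKS : K ≤ S := hK1.trans inf_le_right
        refine M₀.bit (fun t ht => (hall t ht).symm) (Ne.symm hqr) hM hr hq hKm hKC hKb
          ((FitOf.isPGroup_pCoreOf r M).to_le hKS) (hKS.trans (FitOf.pCoreOf_le r M))
          (hKS.trans (FitOf.pCoreOf_le_centralizer hr.1 hq.1 (Ne.symm hqr) M))
          (M₀.sub_mem hYm (M₀.inv_plane hE)) ?_
        exact le_normalizer_commutator ((inf_le_left.trans inf_le_left).trans
          (Signalizer.le_normalizer_inf le_rfl (FitOf.normalizer_le_normalizer_centralizer Rm)))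
          (inf_le_right.trans (centralizer_le_normalizer _))
    exact normalizer_inf_not_le hRp inf_le_left (fun e => hRM (e.ge.trans inf_le_right))
      (le_inf inf_le_right hYM)
  -- the criterion
  obtain ⟨b, hb, -, -, hb1, -, hbM, -⟩ := htwo B hB hSB
  have hprops : ∀ e ∈ B, e ≠ 1 → ¬ θ e ≤ M →
      ∃ H, IsMax p A θ H ∧ θ e ≤ H ∧ fittingOf H ≤ R ∧ R ≤ centralizer ({e} : Set G) := by
    intro e he he1 heM
    have heA := hB.1 he
    obtain ⟨hTe, hqH⟩ := hbadH e heA he1 (hfixne S B e he hSB) heM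
    obtain ⟨H, hH, heH⟩ := M₀.exists_maxOf heA he1
    have hH1 : H ≠ ⊥ := fun h => hq.2 (le_bot_iff.1 ((hH.max _ hTm (h.le.trans bot_le)).le.trans h.le))
    obtain ⟨t, htH⟩ := exists_fitPrime hH.mem.1 hH1
    have hrH : r ∈ fitPrimes H := by
      rcases M₀.fit_cases hall hH.mem htH with rfl | rfl
      · exact absurd htH (hqH H hH heH)
      · exact htH
    have hFle : ∀ {Y : Subgroup G}, pCoreOf r H ≤ Y → fittingOf H ≤ Y := fun {Y} hY =>
      FitOf.fittingOf_le_iff.2 fun s hs => by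
        by_cases hsH : s ∈ fitPrimes H
        · rcases M₀.fit_cases hall hH.mem hsH with rfl | rfl
          · exact absurd hsH (hqH H hH heH)
          · exact hY
        · rw [pCoreOf_eq_bot hs hsH]
          exact bot_le
    set K := pCoreOf r H with hK
    have hKm := M₀.pCoreOf_mem hH.mem r
    have hKR : K ≤ R := M₀.max_core_le_qOf hr.1 hH
    have hKe : K ≤ centralizer ({e} : Set G) := by
      rw [← centralizer_zpowers_eq, ← commutator_eq_bot_iff_le_centralizer]
      refine Classical.byContradiction fun hne => heM ?_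
      have hVK : ⁅K, zpowers e⁆ ≤ K :=
        CoprimeAct.commutator_le_left ((zpowers_le.2 heA).trans (family_normalizer hKm))
      refine M₀.bit (fun t ht => (hall t ht).symm) (Ne.symm hqr) hM hr hq (M₀.commutator_mem hKm heA) ?_
        hne ((FitOf.isPGroup_pCoreOf r H).to_le hVK) ((hVK.trans hKR).trans hRM)
        (hhT e heA he1 hTe K (hKR.trans hRM) (FitOf.isPGroup_pCoreOf r H) (family_normalizer hKm))
        (M₀.theta_mem heA he1) ?_
      · exact le_normalizer_commutator (hH.core.trans (FitOf.le_normalizer_pCoreOf r H))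
          ((M₀.core_le_centralizer.trans (centralizer_le (SetLike.coe_subset_coe.2 (zpowers_le.2 heA)))).trans
            (centralizer_le_normalizer _))
      · exact le_normalizer_commutator (heH.trans (FitOf.le_normalizer_pCoreOf r H))
          (((M₀.theta_le_centralizer heA he1).trans (centralizer_zpowers_eq e).ge).trans
            (centralizer_le_normalizer _))
    exact ⟨H, hH, heH, hFle hKR, (M₀.qOf_le_theta hH heA he1 heH
      (mem_centralizer_of_le (hFle hKe)) hrH).trans (M₀.theta_le_centralizer heA he1)⟩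
  have hbA := hB.1 hb
  obtain ⟨-, -, -, -, hRb⟩ := hprops b hb hb1 hbM
  refine M₀.crit hbA hb1 hM.mem fun E hE hbE => ?_
  obtain ⟨y, hyE, hyB, hy1⟩ := M₀.meet hE hB
  refine (commutator_mono (M₀.mem_inf hE hyE hy1) le_rfl).trans ?_
  have hym := M₀.theta_mem (hE.1 hyE) hy1
  by_cases hyM : θ y ≤ M
  · exact M₀.le_of_centralizes_core hM hr (M₀.commutator_mem hym hbA) (commutator_le_centralizer_three
      (mem_centralizer_of_le (hSR.trans hRb)) (hyM.trans (FitOf.le_normalizer_pCoreOf r M)))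
  · obtain ⟨H, hH, hyH, hFR, -⟩ := hprops y hyB hy1 hyM
    haveI := hH.mem.1
    have hbot : ⁅θ y, zpowers b⁆ = ⊥ := by
      rw [← M₀.commutator_idem hym hbA, commutator_eq_bot_iff_le_centralizer, centralizer_zpowers_eq]
      refine ((le_inf ((CoprimeAct.commutator_le_left ((zpowers_le.2 hbA).trans
        (family_normalizer hym))).trans hyH) ?_).trans
          (FitOf.inf_centralizer_fittingOf_le H)).trans (hFR.trans hRb)
      exact commutator_le_centralizer_three (mem_centralizer_of_le (hFR.trans hRb))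
        (hyH.trans (FitOf.le_normalizer_fittingOf H))
    rw [hbot]
    exact bot_le

end Min2

end Cfsg.Agent.Signalizer.SFT
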