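import Cfsg.Agent.Lib.Signalizer.SFT.Own
import Cfsg.Agent.Lib.Signalizer.SFT.Stable

/-!
The layers over a `2`-core and the points bad for `2`.
-/

set_option autoImplicit false
set_option linter.style.haveILetI false
set_option linter.unusedSectionVars false
set_option linter.unusedVariables false

open scoped Pointwise commutatorElement

universe u

namespace Cfsg.Agent.Signalizer.SFT

open Subgroup
open Cfsg (pCoreOf fittingOf)
open Cfsg.Agent.OddOrder

variable {G : Type u} [Group G] [Finite G]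

/-- A subgroup of the Fitting subgroup lies where its primes' cores lie. -/
theorem le_of_cores {M V Y : Subgroup G} (hV : V ≤ fittingOf M)
    (h : ∀ t : ℕ, t.Prime → t ∣ Nat.card V → pCoreOf t M ≤ Y) : V ≤ Y := by
  intro v hv
  have htop : Y.subgroupOf V = ⊤ := FittingCores.eq_top_of_forall_sylow_le fun t ht => by
    haveI := Fact.mk ht
    refine ⟨default, fun y hy => ?_⟩
    by_cases hy1 : y = 1
    · rw [hy1]; exact one_mem _
    have hP : IsPGroup t ((default : Sylow t V) : Subgroup V) := (default : Sylow t V).2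
    have hd : t ∣ Nat.card V := by
      obtain ⟨n, hn⟩ := IsPGroup.iff_orderOf.1 hP ⟨y, hy⟩
      rw [orderOf_mk] at hn
      have hn0 : n ≠ 0 := fun h0 => hy1 (orderOf_eq_one_iff.1 (by rw [hn, h0, pow_zero]))
      exact (dvd_pow_self t hn0).trans (hn ▸ orderOf_dvd_natCard y)
    exact h t ht hd (pgroup_le_pCoreOf (hP.map V.subtype) ((map_subtype_le _).trans hV) ⟨y, hy, rfl⟩)
  exact (htop ▸ mem_top (⟨v, hv⟩ : V) : (⟨v, hv⟩ : V) ∈ Y.subgroupOf V)

variable {p : ℕ} [hp : Fact p.Prime] {A : Subgroup G} {θ : G → Subgroup G}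

namespace Min3

variable (M₀ : Min3 p A θ)
include M₀

/-- The odd Fitting primes of a maximum of a bad point give parts of `θ c`. -/
theorem qOf_le_theta_of_bad {c : G} (hc : c ∈ A) (hc1 : c ≠ 1) (hbad : ¬ Good p A θ 2 c)
    {H : Subgroup G} (hH : IsMax p A θ H) (hcH : θ c ≤ H) {s : ℕ} (hs : s ∈ fitPrimes H) :
    qOf p A θ s ≤ θ c :=
  M₀.qOf_le_theta hH hc hc1 hcH
    (M₀.centralizes_fitting_of_odd hc hc1 hH hcH fun h => hbad ⟨H, hH, hcH, h⟩) hs

/-- A layer whose prime is a Fitting prime of a bad point is centralised by it modulo the core. -/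
theorem layer_centralized {X R : Subgroup G} (hX : X ∈ Cfsg.signalizerFamily p A θ)
    (hXC : Cfsg.signalizerInf A θ ≤ normalizer (X : Set G)) {z : ℕ} (hz : z.Prime) (hz2 : z ≠ 2)
    (hR : IsLayer 2 z X R) {c : G} (hc : c ∈ A) (hc1 : c ≠ 1) (hbad : ¬ Good p A θ 2 c)
    {H : Subgroup G} (hH : IsMax p A θ H) (hcH : θ c ≤ H) (hzH : z ∈ fitPrimes H)
    (hin : ∀ s ∈ fitPrimes H, pCoreOf s H ≤ X) :
    R ≤ (R ⊓ centralizer ({c} : Set G)) ⊔ pCoreOf 2 X := by
  haveI := Fact.mk hz
  haveI : Fact (Nat.Prime 2) := ⟨Nat.prime_two⟩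
  set T := pCoreOf 2 X with hT
  have hRm := M₀.layer_mem hX hR
  have hTm := M₀.pCoreOf_mem hX 2
  have hTC : Cfsg.signalizerInf A θ ≤ normalizer (T : Set G) :=
    hXC.trans (normalizer_le_normalizer_pCoreOf 2 X)
  -- no `2`-element of the core is fixed by `A`
  have hfix : ∀ y ∈ T, y ∈ centralizer (A : Set G) → y = 1 := by
    intro y hy hyA
    set U := T ⊓ Cfsg.signalizerInf A θ with hU
    have hUH : U ≤ H := inf_le_right.trans hH.core
    have hUb : U ≤ pCoreOf 2 H := by
      refine M₀.mem_pCoreOf_of_centralizes hH.mem hUH Nat.prime_two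
        ((FitOf.isPGroup_pCoreOf 2 X).to_le inf_le_left) fun s hs => ?_
      by_cases hsH : s ∈ fitPrimes H
      · exact le_centralizer_of_normalizes (W := T) inf_le_left le_rfl
          ((hin s hsH).trans (FitOf.le_normalizer_pCoreOf 2 X))
          (hUH.trans (FitOf.le_normalizer_pCoreOf s H))
          (coprime_of_ne Nat.prime_two hs (fun e => hbad ⟨H, hH, hcH, e.symm ▸ hsH⟩)
            (FitOf.isPGroup_pCoreOf 2 X) (FitOf.isPGroup_pCoreOf s H))
      · rw [pCoreOf_eq_bot hs hsH]
        exact le_centralizer_bot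
    rw [pCoreOf_eq_bot Nat.prime_two fun h => hbad ⟨H, hH, hcH, h⟩] at hUb
    exact mem_bot.1 (hUb ⟨hy, M₀.mem_core_of_fixed hTm ⟨hy, hyA⟩⟩)
  obtain ⟨S, hSA⟩ := CoprimeAct.exists_invariant_sylow (family_normalizer hRm) (M₀.coprime hRm le_rfl)
    (Or.inr hRm.1) z
  set S' := (S : Subgroup R).map R.subtype with hS'
  have hS'p : IsPGroup z S' := S.2.map R.subtype
  have hS'm : S' ∈ Cfsg.signalizerFamily p A θ := family_mono hRm (map_subtype_le _) hSA
  have hS'R : S' ≤ R := map_subtype_le _
  have hS'T : S' ≤ normalizer (T : Set G) := hS'R.trans hR.normalizes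
  have hRTS : R ≤ S' ⊔ T := by
    have hdisj : T ⊓ S' = ⊥ := disjoint_iff.1 (Subgroup.disjoint_of_coprime_natCard
      (coprime_of_ne Nat.prime_two hz (Ne.symm hz2) (FitOf.isPGroup_pCoreOf 2 X) hS'p))
    have hle : T ⊔ S' ≤ R := sup_le hR.ge hS'R
    refine (eq_of_le_of_card_ge hle (Nat.le_of_dvd Nat.card_pos ?_)).ge.trans (sup_comm T S').le
    rw [SolvBasic.card_sup_of_inf_eq_bot hS'T hdisj, Nat.dvd_iff_prime_pow_dvd_dvd]
    intro q k hq hk
    haveI := Fact.mk hq
    rcases Nat.eq_zero_or_pos k with rfl | hk0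
    · simp
    rcases hR.dvd hz hq ((dvd_pow_self q hk0.ne').trans hk) with rfl | rfl
    · obtain ⟨P⟩ : Nonempty (Sylow 2 R) := inferInstance
      refine ((P.pow_dvd_card_of_pow_dvd_card hk).trans ?_).mul_right _
      rw [← card_map_of_injective (K := (P : Subgroup R)) R.subtype_injective]
      exact card_dvd_of_le (hR.pgroup_le hz hz2 (P.2.map R.subtype) (map_subtype_le _))
    · refine ((S.pow_dvd_card_of_pow_dvd_card hk).trans ?_).mul_left _
      rw [hS', card_map_of_injective R.subtype_injective]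
  have hCS : Cfsg.signalizerInf A θ ≤ normalizer (S' : Set G) := by
    -- fixed points of `A` in the layer lie in the invariant Sylow subgroup
    have hRA : R ⊓ centralizer (A : Set G) ≤ S' := by
      rintro r ⟨hr, hrA⟩
      obtain ⟨t, ht, s, hs, rfl⟩ := (SolvBasic.mem_sup_iff_of_le_normalizer hS'T).1
        ((sup_comm S' T).le (hRTS hr))
      have htA : t ∈ centralizer (A : Set G) := by
        refine mem_centralizer_iff.2 fun a ha => ?_
        have h1 : a * t * a⁻¹ ∈ T :=
          (mem_normalizer_iff.1 (family_normalizer hTm ha) t).1 ht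
        have h2 : a * s * a⁻¹ ∈ S' := (mem_normalizer_iff.1 (hSA ha) s).1 hs
        have h3 : (a * t * a⁻¹) * (a * s * a⁻¹) = t * s := by
          have := mem_centralizer_iff.1 hrA a ha
          calc (a * t * a⁻¹) * (a * s * a⁻¹) = a * (t * s) * a⁻¹ := by group
            _ = t * s := by rw [this, mul_inv_cancel_right]
        have h4 : t⁻¹ * (a * t * a⁻¹) = s * (a * s * a⁻¹)⁻¹ := by
          rw [eq_mul_inv_iff_mul_eq, mul_assoc, h3, inv_mul_cancel_left]
        have h5 : t⁻¹ * (a * t * a⁻¹) = 1 := Subgroup.disjoint_def.1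
          (Subgroup.disjoint_of_coprime_natCard
            (coprime_of_ne Nat.prime_two hz (Ne.symm hz2) (FitOf.isPGroup_pCoreOf 2 X) hS'p))
          (mul_mem (inv_mem ht) h1) (h4 ▸ mul_mem hs (inv_mem h2))
        exact mul_inv_eq_iff_eq_mul.1 (inv_mul_eq_one.1 h5).symm
      rw [hfix t ht htA, one_mul]
      exact hs
    have key : ∀ x ∈ Cfsg.signalizerInf A θ, S'.map (MulAut.conj x).toMonoidHom = S' := by
      intro x hx
      have hxA : x ∈ centralizer (A : Set G) := M₀.core_le_centralizer hx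
      have hxR : x ∈ normalizer (R : Set G) := hR.inv (hXC hx)
      obtain ⟨Q, hQ⟩ := CoprimeAct.exists_sylow_of_card (S := S'.map (MulAut.conj x).toMonoidHom)
        ((map_mono hS'R).trans (mem_normalizer_iff_map_conj_eq.1 hxR).le)
        (by rw [card_map_of_injective (MulAut.conj x).injective, CoprimeAct.card_map_sylow])
      have hQA : A ≤ normalizer ((((Q : Subgroup R).map R.subtype : Subgroup G)) : Set G) := by
        intro a ha
        have hcomm : a * x = x * a := mem_centralizer_iff.1 hxA a ha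
        rw [hQ, mem_normalizer_iff_map_conj_eq, map_map]
        conv_rhs => rw [← mem_normalizer_iff_map_conj_eq.1 (hSA ha), map_map]
        congr 1
        refine MonoidHom.ext fun y => ?_
        show a * (x * y * x⁻¹) * a⁻¹ = x * (a * y * a⁻¹) * x⁻¹
        calc a * (x * y * x⁻¹) * a⁻¹ = (a * x) * y * (a * x)⁻¹ := by group
          _ = (x * a) * y * (x * a)⁻¹ := by rw [hcomm]
          _ = x * (a * y * a⁻¹) * x⁻¹ := by group
      obtain ⟨d, hd, hdS⟩ := CoprimeAct.invariant_sylow_conj (family_normalizer hRm)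
        (M₀.coprime hRm le_rfl) (Or.inr hRm.1) S Q hSA hQA
      have hdn : MulAut.conj d • S = S := by
        refine Sylow.smul_eq_iff_mem_normalizer.2 (le_normalizer ?_)
        obtain ⟨d', hd', hde⟩ := hRA ⟨d.2, hd⟩
        rwa [Subtype.ext hde] at hd'
      rw [hdn] at hdS
      rw [← hQ, ← hdS]
    exact fun x hx => mem_normalizer_iff_map_conj_eq.2 (key x hx)
  have hSc : S' ≤ centralizer ({c} : Set G) :=
    ((M₀.le_qOf hz hS'm hCS hS'p).trans (M₀.qOf_le_theta_of_bad hc hc1 hbad hH hcH hzH)).trans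
      (M₀.theta_le_centralizer hc hc1)
  exact hRTS.trans (sup_le_sup (le_inf hS'R hSc) le_rfl)

end Min3

end Cfsg.Agent.Signalizer.SFT
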