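import Cfsg.Agent.Lib.Signalizer.SFT.TwoLayer

/-!
With at least three primes there is no sink at all.
-/

set_option autoImplicit false
set_option linter.style.haveILetI false
set_option linter.unusedSectionVars false
set_option linter.unusedVariables false

open scoped Pointwise commutatorElement

universe u

namespace Cfsg.Agent.Signalizer.SFT

open Subgroup
open Cfsg (pCoreOf fittingOf)
open Cfsg.Agent.OddOrder

variable {G : Type u} [Group G] [Finite G]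
variable {p : ℕ} [hp : Fact p.Prime] {A : Subgroup G} {θ : G → Subgroup G}

namespace Min3

variable (M₀ : Min3 p A θ)
include M₀

/-- With four primes the complement `t` is not needed in the kernel. -/
theorem iInf_eq_sinkCore {x t : ℕ} (hx : x.Prime)
    (hfour : ∀ a b c : ℕ, ∃ u ∈ primes A θ, u ≠ a ∧ u ≠ b ∧ u ≠ c) :
    (⨅ w : {w : ℕ // w ∈ primes A θ ∧ w ≠ x ∧ w ≠ t}, pCoreOf x (wc p A θ w.1)) =
      sinkCore p A θ x := by
  haveI := Fact.mk hx
  obtain ⟨u₀, hu₀, hu₀t, hu₀x, -⟩ := hfour t x x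
  set V := ⨅ w : {w : ℕ // w ∈ primes A θ ∧ w ≠ x ∧ w ≠ t}, pCoreOf x (wc p A θ w.1) with hV
  have hVQ : V ≤ qOf p A θ x :=
    (iInf_le (fun w : {w : ℕ // w ∈ primes A θ ∧ w ≠ x ∧ w ≠ t} => pCoreOf x (wc p A θ w.1))
      ⟨u₀, hu₀, hu₀x, hu₀t⟩).trans (M₀.wc_core_le_qOf hx hu₀)
  refine le_antisymm (le_inf hVQ (le_iInf fun ⟨w, hw, hwx⟩ => ?_))
    (le_iInf fun ⟨w, hw, hwx, _⟩ => M₀.sinkCore_le_wc hw hwx)
  by_cases hwt : w = t
  · subst hwt
    refine le_pCoreOf_of_layers (M₀.wc_props hw).1.1 (hVQ.trans (M₀.qOf_le_wc hx hw (Ne.symm hwx)))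
      ((M₀.qOf_isPGroup hx).to_le hVQ) fun z R hz hzx hR => ?_
    obtain ⟨v, hv, hvw, hvx, hvz⟩ := hfour w x z
    have h2 : ⁅R, V⁆ ≤ R ⊓ pCoreOf x (wc p A θ v) :=
      commutator_le_inf le_rfl
        (iInf_le (fun w' : {w' : ℕ // w' ∈ primes A θ ∧ w' ≠ x ∧ w' ≠ w} =>
          pCoreOf x (wc p A θ w'.1)) ⟨v, hv, hvx, hvw⟩)
        ((hVQ.trans (M₀.qOf_le_wc hx hw (Ne.symm hwx))).trans (le_normalizer.trans hR.inv))
        ((M₀.layer_le_wc (M₀.wc_props hw).1 (M₀.wc_props hw).2.1 hz hR hv hvx hvz).trans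
          (FitOf.le_normalizer_pCoreOf x _))
    exact h2.trans (hR.pgroup_le hz hzx ((FitOf.isPGroup_pCoreOf x _).to_le inf_le_right) inf_le_left)
  · exact iInf_le (fun w' : {w' : ℕ // w' ∈ primes A θ ∧ w' ≠ x ∧ w' ≠ t} =>
      pCoreOf x (wc p A θ w'.1)) ⟨w, hw, hwx, hwt⟩

/-- For a layer, some bad point of the plane gives a commutator centralising it modulo the core. -/
theorem layer_step {X R : Subgroup G} (hX : X ∈ Cfsg.signalizerFamily p A θ)
    (hXC : Cfsg.signalizerInf A θ ≤ normalizer (X : Set G)) {z : ℕ} (hz : z.Prime) (hz2 : z ≠ 2)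
    (hR : IsLayer 2 z X R) {E : Subgroup G} (hE : IsPlane p A E) {P : Subgroup G}
    (hPA : A ≤ normalizer (P : Set G)) (hP : IsPGroup 2 P) (hPX : P ≤ X)
    (hbad : ∃ c ∈ E, c ≠ 1 ∧ ¬ Good p A θ 2 c)
    (hfix : ∀ e ∈ E, e ≠ 1 → Good p A θ 2 e →
      ⁅R ⊓ centralizer ({e} : Set G), P⁆ ≤ pCoreOf 2 X)
    (hkey : ∀ (c : G) (H H' : Subgroup G), c ∈ E → c ≠ 1 → IsMax p A θ H → θ c ≤ H →
      IsMax p A θ H' → 2 ∉ fitPrimes H → 2 ∉ fitPrimes H' →
      ¬ (z ∈ fitPrimes H ∧ ∀ s ∈ fitPrimes H, pCoreOf s H ≤ X) →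
      ∀ s ∈ fitPrimes H', s ≠ z → pCoreOf s H' ≤ X ∨ s ∈ fitPrimes H) :
    ∃ c ∈ E, c ≠ 1 ∧ ¬ Good p A θ 2 c ∧ ⁅R, ⁅P, zpowers c⁆⁆ ≤ pCoreOf 2 X := by
  haveI := Fact.mk hz
  haveI : Fact (Nat.Prime 2) := ⟨Nat.prime_two⟩
  set T := pCoreOf 2 X with hT
  have hRm := M₀.layer_mem hX hR
  have hPT : P ≤ normalizer (T : Set G) := hPX.trans (FitOf.le_normalizer_pCoreOf 2 X)
  have hTmod : T ≤ R ⊓ modCentralizer T P := le_inf hR.ge (le_modCentralizer le_normalizer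
    (CoprimeAct.commutator_le_left hPT))
  have hfinish : ∀ c ∈ E, R ≤ (R ⊓ centralizer ({c} : Set G)) ⊔ (R ⊓ modCentralizer T P) →
      ⁅R, ⁅P, zpowers c⁆⁆ ≤ T := fun c hc hgen =>
    stable_mod hz2 hP (hPA (hE.1 hc)) hR.pow
      ((family_normalizer hX).trans (normalizer_le_normalizer_pCoreOf 2 X) (hE.1 hc)) hPT
      hR.normalizes (family_normalizer hRm (hE.1 hc)) (hPX.trans (le_normalizer.trans hR.inv)) hgen
  by_cases ha : ∃ c H, c ∈ E ∧ c ≠ 1 ∧ ¬ Good p A θ 2 c ∧ IsMax p A θ H ∧ θ c ≤ H ∧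
      z ∈ fitPrimes H ∧ ∀ s ∈ fitPrimes H, pCoreOf s H ≤ X
  · obtain ⟨c, H, hc, hc1, hcb, hH, hcH, hzH, hin⟩ := ha
    exact ⟨c, hc, hc1, hcb, hfinish c hc
      ((M₀.layer_centralized hX hXC hz hz2 hR (hE.1 hc) hc1 hcb hH hcH hzH hin).trans
        (sup_le_sup le_rfl hTmod))⟩
  -- prefer a point with `z` among its primes
  obtain ⟨c, H, hc, hc1, hcb, hH, hcH, hpref⟩ : ∃ c H, c ∈ E ∧ c ≠ 1 ∧ ¬ Good p A θ 2 c ∧
      IsMax p A θ H ∧ θ c ≤ H ∧ ((∃ c' H', c' ∈ E ∧ c' ≠ 1 ∧ ¬ Good p A θ 2 c' ∧ IsMax p A θ H' ∧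
        θ c' ≤ H' ∧ z ∈ fitPrimes H') → z ∈ fitPrimes H) := by
    by_cases h : ∃ c' H', c' ∈ E ∧ c' ≠ 1 ∧ ¬ Good p A θ 2 c' ∧ IsMax p A θ H' ∧ θ c' ≤ H' ∧
        z ∈ fitPrimes H'
    · obtain ⟨c', H', h1, h2, h3, h4, h5, h6⟩ := h
      exact ⟨c', H', h1, h2, h3, h4, h5, fun _ => h6⟩
    · obtain ⟨c, hc, hc1, hcb⟩ := hbad
      obtain ⟨H, hH, hcH⟩ := M₀.exists_maxOf (hE.1 hc) hc1
      exact ⟨c, H, hc, hc1, hcb, hH, hcH, fun h' => absurd h' h⟩
  refine ⟨c, hc, hc1, hcb, hfinish c hc ?_⟩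
  have hcA := hE.1 hc
  have hnoa : ¬ (z ∈ fitPrimes H ∧ ∀ s ∈ fitPrimes H, pCoreOf s H ≤ X) := fun h =>
    ha ⟨c, H, hc, hc1, hcb, hH, hcH, h.1, h.2⟩
  refine M₀.le_of_points hE (hE.1.trans (family_normalizer hRm)) hRm.2.1 fun e he he1 => ?_
  by_cases hec : e ∈ zpowers c
  · rw [M₀.centralizer_eq_of_mem hcA hc1 hec he1]
    exact le_sup_left
  by_cases hge : Good p A θ 2 e
  · exact le_sup_of_le_right (le_inf inf_le_left
      (le_modCentralizer (inf_le_left.trans hR.normalizes) (hfix e he he1 hge)))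
  refine le_sup_of_le_left (le_inf inf_le_left ?_)
  obtain ⟨H', hH', heH'⟩ := M₀.exists_maxOf (hE.1 he) he1
  have h2H' : 2 ∉ fitPrimes H' := fun h => hge ⟨H', hH', heH', h⟩
  set U := R ⊓ centralizer ({e} : Set G) with hU
  have hUm : U ∈ Cfsg.signalizerFamily p A θ := family_mono hRm inf_le_left
    (le_normalizer_inf (family_normalizer hRm)
      (centralizer_zpowers_eq e ▸ le_normalizer_centralizer (M₀.inv_zpowers (hE.1 he))))
  have hUH : U ≤ H' := (hRm.2.2.2 e (hE.1 he) he1).trans heH'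
  have hn : zpowers c ≤ normalizer (U : Set G) := (zpowers_le.2 hcA).trans (family_normalizer hUm)
  set V := ⁅U, zpowers c⁆ with hV
  have hVU : V ≤ U := CoprimeAct.commutator_le_left hn
  have hQc : ∀ s, s ∈ fitPrimes H → pCoreOf s H' ≤ centralizer ({c} : Set G) := fun s hs =>
    ((M₀.max_core_le_qOf hs.1 hH').trans (M₀.qOf_le_theta_of_bad hcA hc1 hcb hH hcH hs)).trans
      (M₀.theta_le_centralizer hcA hc1)
  haveI := hH'.mem.1
  have hVF : V ≤ fittingOf H' := by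
    refine (le_inf (hVU.trans hUH) ?_).trans (FitOf.inf_centralizer_fittingOf_le H')
    rw [Subgroup.le_centralizer_iff, FitOf.fittingOf_le_iff]
    intro s hs
    rw [Subgroup.le_centralizer_iff]
    by_cases hsH' : s ∈ fitPrimes H'
    swap
    · rw [pCoreOf_eq_bot hs hsH']
      exact le_centralizer_bot
    by_cases hsH : s ∈ fitPrimes H
    · exact commutator_le_centralizer_three (mem_centralizer_of_le (hQc s hsH))
        (hUH.trans (FitOf.le_normalizer_pCoreOf s H'))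
    have hsz : s ≠ z := fun h => hsH (h.symm ▸ hpref ⟨e, H', he, he1, hge, hH', heH', h ▸ hsH'⟩)
    have hsX : pCoreOf s H' ≤ X :=
      (hkey c H H' hc hc1 hH hcH hH' (fun h => hcb ⟨H, hH, hcH, h⟩) h2H' hnoa s hsH' hsz).resolve_right hsH
    refine hVU.trans (le_centralizer_of_normalizes (W := R) inf_le_left le_rfl
      (hsX.trans (le_normalizer.trans hR.inv)) (hUH.trans (FitOf.le_normalizer_pCoreOf s H')) ?_)
    haveI := Fact.mk hs
    refine (coprime_of_pgroup (FitOf.isPGroup_pCoreOf s H') ?_).symm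
    refine Nat.Coprime.symm ((Nat.Prime.coprime_iff_not_dvd hs).2 fun hd => ?_)
    rcases hR.dvd hz hs hd with h | h
    · exact h2H' (h ▸ hsH')
    · exact hsz h
  have hVc : V ≤ centralizer ({c} : Set G) := le_of_cores hVF fun t ht hd => by
    by_cases htH' : t ∈ fitPrimes H'
    · rcases hR.dvd hz ht (hd.trans (card_dvd_of_le (hVU.trans inf_le_left))) with h | h
      · exact absurd (h ▸ htH') h2H'
      · exact h ▸ hQc z (hpref ⟨e, H', he, he1, hge, hH', heH', h ▸ htH'⟩)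
    · rw [pCoreOf_eq_bot ht htH']
      exact bot_le
  rw [← centralizer_zpowers_eq, ← commutator_eq_bot_iff_le_centralizer,
    ← M₀.commutator_idem hUm hcA, commutator_eq_bot_iff_le_centralizer, centralizer_zpowers_eq]
  exact hVc

/-- There is no sink. -/
theorem not_isSink {x : ℕ} : ¬ IsSink p A θ x := by
  by_cases hx2 : x ≠ 2
  · exact M₀.not_isSink_odd hx2
  obtain rfl : x = 2 := not_ne_iff.1 hx2
  rintro ⟨h2p, hY⟩
  classical
  haveI : Fact (Nat.Prime 2) := ⟨Nat.prime_two⟩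
  set J := sinkCore p A θ 2 with hJdef
  have hJ : J ≠ ⊥ := fun h => hY (le_bot_iff.1 (inf_le_left.trans h.le))
  obtain ⟨W, hW, hWN, hWmax⟩ := M₀.exists_greatest (M₀.sinkCore_props 2).1 hJ
  have hCW : Cfsg.signalizerInf A θ ≤ W := hWmax _ M₀.core_mem (M₀.sinkCore_props 2).2
  have hJW : J ≤ W := hWmax _ (M₀.sinkCore_props 2).1 le_normalizer
  obtain ⟨d₀, hd₀, hd₀1⟩ := M₀.exists_point
  refine M₀.false_of_planes hd₀ hd₀1 hW fun E hE _ => hWmax _ (M₀.inf_mem hE) ?_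
  obtain ⟨g, hg, hg1, hgJ⟩ := M₀.exists_fixed_ne_bot (M₀.sinkCore_props 2).1 hJ hE
  obtain ⟨H₀, hH₀, hgH₀, h2H₀⟩ : Good p A θ 2 g := Classical.byContradiction fun h =>
    hgJ (M₀.sinkCore_inf_eq_bot Nat.prime_two (hE.1 hg) hg1 h)
  let I := {i : G × Subgroup G // i.1 ∈ E ∧ i.1 ≠ 1 ∧ IsMax p A θ i.2 ∧ θ i.1 ≤ i.2 ∧ 2 ∈ fitPrimes i.2}
  set P := ⨅ i : I, pCoreOf 2 i.1.2 with hPdef
  let i₀ : I := ⟨(g, H₀), hg, hg1, hH₀, hgH₀, h2H₀⟩
  have hP0 : P ≤ pCoreOf 2 H₀ := iInf_le (fun i : I => pCoreOf 2 i.1.2) i₀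
  have hPA : A ≤ normalizer (P : Set G) := le_normalizer_iInf fun i =>
    (family_normalizer i.2.2.2.1.mem).trans (normalizer_le_normalizer_pCoreOf 2 _)
  have hθE : Cfsg.signalizerInf E θ ≤ normalizer (P : Set G) := le_normalizer_iInf fun i =>
    ((M₀.mem_inf hE i.2.1 i.2.2.1).trans i.2.2.2.2.1).trans (FitOf.le_normalizer_pCoreOf 2 _)
  have hPQ : P ≤ qOf p A θ 2 := hP0.trans (M₀.max_core_le_qOf Nat.prime_two hH₀)
  have hPp : IsPGroup 2 P := (FitOf.isPGroup_pCoreOf 2 H₀).to_le hP0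
  let K := {c : G // c ∈ E ∧ c ≠ 1 ∧ ¬ Good p A θ 2 c}
  set P' := P ⊓ ⨅ c : K, ⁅P, zpowers c.1⁆ with hP'def
  have hJP' : J ≤ P' := by
    refine le_inf (le_iInf fun i => M₀.sinkCore_le_core i.2.2.2.1 i.2.2.2.2.2) (le_iInf fun c => ?_)
    have h1 := M₀.commutator_sup (M₀.sinkCore_props 2).1 (hE.1 c.2.1)
    rw [M₀.sinkCore_inf_eq_bot Nat.prime_two (hE.1 c.2.1) c.2.2.1 c.2.2.2, sup_bot_eq] at h1
    exact h1.ge.trans (commutator_mono (le_iInf fun i => M₀.sinkCore_le_core i.2.2.2.1 i.2.2.2.2.2)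
      le_rfl)
  have hθE' : Cfsg.signalizerInf E θ ≤ normalizer (P' : Set G) :=
    Signalizer.le_normalizer_inf hθE (le_normalizer_iInf fun c => le_normalizer_commutator hθE
      (((signalizerInf_le_centralizer M₀.fn.1 hE.1).trans
        (centralizer_le (SetLike.coe_subset_coe.2 (zpowers_le.2 c.2.1)))).trans
          (centralizer_le_normalizer _)))
  -- `P'` centralises each layer in a suitable member
  have hcomm : ∀ (X R : Subgroup G) (z : ℕ), X ∈ Cfsg.signalizerFamily p A θ →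
      Cfsg.signalizerInf A θ ≤ normalizer (X : Set G) → z.Prime → z ≠ 2 → IsLayer 2 z X R →
      P ≤ X →
      (z ∈ primes A θ → ∀ (c : G) (H H' : Subgroup G), c ∈ E → c ≠ 1 → IsMax p A θ H → θ c ≤ H →
        IsMax p A θ H' → 2 ∉ fitPrimes H → 2 ∉ fitPrimes H' →
        ¬ (z ∈ fitPrimes H ∧ ∀ s ∈ fitPrimes H, pCoreOf s H ≤ X) →
        ∀ s ∈ fitPrimes H', s ≠ z → pCoreOf s H' ≤ X ∨ s ∈ fitPrimes H) →
      ⁅R, P'⁆ ≤ pCoreOf 2 X := by
    intro X R z hX hXC hz hz2 hR hPX hkey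
    have hRm := M₀.layer_mem hX hR
    by_cases hzR : z ∣ Nat.card R
    swap
    · have hR0 : R ≤ pCoreOf 2 X := by
        refine hR.pgroup_le hz hz2 ?_ le_rfl
        rw [← isSigma_singleton_iff Nat.prime_two]
        intro q hq hd
        rcases hR.dvd hz hq hd with h | h
        · exact h
        · exact absurd (h ▸ hd) hzR
      exact (commutator_mono hR0 (inf_le_left.trans hPX)).trans
        (CoprimeAct.commutator_le_left (FitOf.le_normalizer_pCoreOf 2 X))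
    have hfix : ∀ e ∈ E, e ≠ 1 → Good p A θ 2 e →
        ⁅R ⊓ centralizer ({e} : Set G), P⁆ ≤ pCoreOf 2 X := by
      rintro e he he1 ⟨H, hH, heH, h2H⟩
      have hle : P ≤ pCoreOf 2 H :=
        iInf_le (fun i : I => pCoreOf 2 i.1.2) ⟨(e, H), he, he1, hH, heH, h2H⟩
      refine (commutator_le_inf inf_le_left hle (hPX.trans (le_normalizer.trans hR.inv))
        (((hRm.2.2.2 e (hE.1 he) he1).trans heH).trans (FitOf.le_normalizer_pCoreOf 2 H))).trans ?_
      exact hR.pgroup_le hz hz2 ((FitOf.isPGroup_pCoreOf 2 H).to_le inf_le_right) inf_le_left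
    by_cases hbad : ∃ c ∈ E, c ≠ 1 ∧ ¬ Good p A θ 2 c
    · obtain ⟨c, hc, hc1, hcb, hle⟩ := M₀.layer_step hX hXC hz hz2 hR hE hPA hPp hPX hbad hfix
        (hkey (M₀.mem_primes hRm hz hzR))
      exact (commutator_mono le_rfl (inf_le_right.trans
        (iInf_le (fun c : K => ⁅P, zpowers c.1⁆) ⟨c, hc, hc1, hcb⟩))).trans hle
    · refine (commutator_mono le_rfl inf_le_left).trans (commutator_le_of_modCentralizer ?_)
      exact M₀.le_of_points hE (hE.1.trans (family_normalizer hRm)) hRm.2.1 fun e he he1 =>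
        le_modCentralizer (inf_le_left.trans hR.normalizes)
          (hfix e he he1 (Classical.byContradiction fun h => hbad ⟨e, he, he1, h⟩))
  suffices heq : P' = J by
    rw [← hJdef, ← heq]
    exact hθE'
  refine le_antisymm ?_ hJP'
  have hP'p : IsPGroup 2 P' := hPp.to_le inf_le_left
  by_cases hfour : ∀ a b c : ℕ, ∃ u ∈ primes A θ, u ≠ a ∧ u ≠ b ∧ u ≠ c
  · -- everything happens in a maximum containing all `Q_t`
    obtain ⟨L, hL, hWL⟩ := M₀.exists_max hW (hCW.trans le_normalizer)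
    have hnorm : ∀ (X : Subgroup G), X ∈ Cfsg.signalizerFamily p A θ → ∀ t : ℕ,
        (∀ w ∈ primes A θ, w ≠ 2 → w ≠ t → X ≤ wc p A θ w) → X ≤ L := by
      intro X hX t hXw
      refine (hWmax _ hX ?_).trans hWL
      rw [← hJdef, hJdef, ← M₀.iInf_eq_sinkCore (t := t) Nat.prime_two hfour]
      exact le_normalizer_iInf fun w =>
        (hXw w.1 w.2.1 w.2.2.1 w.2.2.2).trans (FitOf.le_normalizer_pCoreOf 2 _)
    have hQ : ∀ t ∈ primes A θ, qOf p A θ t ≤ L := fun t ht =>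
      hnorm _ (M₀.qOf_props t).1 t fun w hw _ hwt => M₀.qOf_le_wc ht.1 hw (Ne.symm hwt)
    have hQ2 : qOf p A θ 2 ≤ L := hQ 2 h2p
    have h2L : 2 ∈ fitPrimes L := M₀.mem_fitPrimes_of_kernel Nat.prime_two hL le_rfl hJ (hJW.trans hWL)
    have hLJ : pCoreOf 2 L ≤ J := by
      refine le_inf (M₀.max_core_le_qOf Nat.prime_two hL) (le_iInf fun ⟨w, hw, hw2⟩ => ?_)
      have hKX : pCoreOf 2 L ≤ wc p A θ w := (M₀.max_core_le_qOf Nat.prime_two hL).trans
        (M₀.qOf_le_wc Nat.prime_two hw (Ne.symm hw2))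
      refine le_pCoreOf_of_layers (M₀.wc_props hw).1.1 hKX (FitOf.isPGroup_pCoreOf 2 L)
        fun z R hz hz2 hR => ?_
      have hRL : R ≤ L := hnorm R (M₀.layer_mem (M₀.wc_props hw).1 hR) z fun v hv hv2 hvz =>
        M₀.layer_le_wc (M₀.wc_props hw).1 (M₀.wc_props hw).2.1 hz hR hv hv2 hvz
      exact (commutator_le_inf le_rfl le_rfl (hKX.trans (le_normalizer.trans hR.inv))
        (hRL.trans (FitOf.le_normalizer_pCoreOf 2 L))).trans
          (hR.pgroup_le hz hz2 ((FitOf.isPGroup_pCoreOf 2 L).to_le inf_le_right) inf_le_left)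
    refine le_trans ?_ hLJ
    refine le_pCoreOf_of_layers hL.mem.1 ((inf_le_left.trans hPQ).trans hQ2) hP'p
      fun z R hz hz2 hR => hcomm L R z hL.mem (hL.core.trans le_normalizer) hz hz2 hR
        (hPQ.trans hQ2) fun _ c H H' _ _ _ _ hH' _ _ _ s hs _ =>
          Or.inl ((M₀.max_core_le_qOf hs.1 hH').trans (hQ s (M₀.fit_mem_primes hH'.mem hs)))
  · simp only [not_forall, not_exists, not_and] at hfour
    obtain ⟨s₁, s₂, s₃, h3⟩ := hfour
    have h3' : ∀ t ∈ primes A θ, t = s₁ ∨ t = s₂ ∨ t = s₃ := fun t ht => by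
      by_contra hc
      simp only [not_or] at hc
      exact h3 t ht hc.1 hc.2.1 hc.2.2
    refine le_inf (inf_le_left.trans hPQ) (le_iInf fun ⟨w, hw, hw2⟩ => ?_)
    have hX := M₀.wc_props hw
    have hPX : P ≤ wc p A θ w := hPQ.trans (M₀.qOf_le_wc Nat.prime_two hw (Ne.symm hw2))
    refine le_pCoreOf_of_layers hX.1.1 (inf_le_left.trans hPX) hP'p fun z R hz hz2 hR => ?_
    refine hcomm _ R z hX.1 hX.2.1 hz hz2 hR hPX fun hzp c H H' hc hc1 hH hcH hH' h2H h2H' hnoa s hs hsz => ?_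
    by_cases hsw : s = w
    swap
    · exact Or.inl ((M₀.max_core_le_qOf hs.1 hH').trans (M₀.qOf_le_wc hs.1 hw hsw))
    subst hsw
    refine Or.inr (Classical.byContradiction fun hwH => ?_)
    have hH1 : H ≠ ⊥ := fun h => hJ (le_bot_iff.1 ((hH.max J (M₀.sinkCore_props 2).1
      (h.le.trans bot_le)).le.trans h.le))
    obtain ⟨r, hr⟩ := exists_fitPrime hH.mem.1 hH1
    have hall : ∀ t ∈ fitPrimes H, t = z := fun t ht => by
      have := h3' 2 h2p
      have := h3' s hw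
      have := h3' t (M₀.fit_mem_primes hH.mem ht)
      have := h3' z hzp
      have h1 : t ≠ 2 := fun e => h2H (e ▸ ht)
      have h2 : t ≠ s := fun e => hwH (e ▸ ht)
      have h4 : z ≠ s := Ne.symm hsz
      omega
    refine hnoa ⟨hall r hr ▸ hr, fun t ht => ?_⟩
    rw [hall t ht]
    exact (M₀.max_core_le_qOf hz hH).trans (M₀.qOf_le_wc hz hw (Ne.symm hsz))

end Min3

end Cfsg.Agent.Signalizer.SFT
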